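import Cfsg.Agent.Lib.Helper37.GraphAutMain
import Cfsg.Prelude.Def_ChevG2

/-!
# Table checks for the graph automorphism of `G₂` in characteristic 3
-/

set_option autoImplicit false

namespace Cfsg.Agent.Lib.Helper37.GraphAut

open Cfsg.Lie

/-- the data for `G₂`, `p = 3`: short roots 2,3,4,7,8,9; the root permutation exchanging short and long roots -/
def dataG2 : GData chevG2 :=
  mkData chevG2 3 [true, false]
    [false, false, true, true, true, false, false, true, true, true, false, false]
    [1, 0] [2, 3, 0, 1, 5, 4, 7, 6, 10, 11, 8, 9]

theorem chkAll_G2 : chkAll dataG2 = true := by decide +kernel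

theorem chkB_G2 : chkB dataG2 = true := by decide +kernel

theorem chkR_G2 : chkR dataG2 = true := by decide +kernel

end Cfsg.Agent.Lib.Helper37.GraphAut
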