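import Cfsg.Agent.Lib.Helper37.GraphAutX

/-!
# The exceptional graph endomorphism from the table checks (S1098, S1099)
-/

set_option autoImplicit false
set_option linter.unusedSectionVars false

namespace Cfsg.Agent.Lib.Helper37.GraphAut

open Cfsg.Lie Cfsg.Agent.Lib.Helper24

variable {D : ChevalleyDatum}

/-- all indices -/
def idxList (D : ChevalleyDatum) : List D.Idx :=
  (List.finRange D.rank).map Sum.inl ++ (List.finRange D.nroots).map Sum.inr

theorem mem_idxList (i : D.Idx) : i ∈ idxList D := by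
  rcases i with i | s
  · exact List.mem_append_left _ (List.mem_map.2 ⟨i, List.mem_finRange i, rfl⟩)
  · exact List.mem_append_right _ (List.mem_map.2 ⟨s, List.mem_finRange s, rfl⟩)

def chkAll (T : GData D) : Bool :=
  (List.finRange D.nroots).all fun r => (idxList D).all fun i => (idxList D).all fun j =>
    chk1 T r i j && chk2 T r i j

def chkB (T : GData D) : Bool :=
  (idxList D).all fun i => decide (T.σI (T.σI i) = i) && (T.S (T.σI i) == !T.S i)

def chkR (T : GData D) : Bool :=
  (List.finRange D.nroots).all fun r => decide (T.σR (T.σR r) = r) && (T.ex (T.σR r) == !T.ex r)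

theorem chkAll_spec (T : GData D) (h : chkAll T = true) (r : Fin D.nroots) (i j : D.Idx) :
    chk1 T r i j = true ∧ chk2 T r i j = true := by
  have h1 := List.all_eq_true.1 h r (List.mem_finRange r)
  have h2 := List.all_eq_true.1 h1 i (mem_idxList i)
  have h3 := List.all_eq_true.1 h2 j (mem_idxList j)
  simpa using h3

theorem chkB_spec (T : GData D) (h : chkB T = true) (i : D.Idx) :
    T.σI (T.σI i) = i ∧ T.S (T.σI i) = !T.S i := by
  have h1 := List.all_eq_true.1 h i (mem_idxList i)
  simpa using h1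

theorem chkR_spec (T : GData D) (h : chkR T = true) (r : Fin D.nroots) :
    T.σR (T.σR r) = r ∧ T.ex (T.σR r) = !T.ex r := by
  have h1 := List.all_eq_true.1 h r (List.mem_finRange r)
  simpa using h1

/-- the block data of a checked table -/
def GData.block (T : GData D) (h : chkB T = true) : BlockData D.Idx where
  S := T.S
  σ := T.σI
  invol := fun i => (chkB_spec T h i).1
  swap := fun i => (chkB_spec T h i).2

/-- the generating set of the Chevalley group -/
def genSet (D : ChevalleyDatum) (K : Type*) [Field K] : Set (GL D.Idx K) :=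
  {g | ∃ (r : Fin D.nroots) (t : K), (g : Matrix D.Idx D.Idx K) = D.xMat K r t}

theorem closure_genSet (D : ChevalleyDatum) (K : Type*) [Field K] :
    Subgroup.closure (genSet D K) = D.group K := rfl

section

variable {K : Type*} [Field K]

theorem x_of_fin (r : Fin D.nroots) (t : K) : D.x K r.val t = D.xMat K r t := by
  unfold ChevalleyDatum.x
  rw [dif_pos r.2]

theorem xGL_mem_genSet (hF : Facts D) (r : Fin D.nroots) (t : K) : hF.xGL r.val t ∈ genSet D K :=
  ⟨r, t, by rw [Facts.xGL_val, x_of_fin]⟩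

theorem exists_graph_hom (T : GData D) (hF : Facts D) (hp : T.p = 2 ∨ T.p = 3) (hA : chkAll T = true)
    (hB : chkB T = true) (hR : chkR T = true) [CharP K T.p] (hperf : ∀ x : K, ∃ y : K, y ^ T.p = x)
    (hfaith : Faithful (T.block hB) (genSet D K)) :
    ∃ α : Subgroup.closure (genSet D K) →* Subgroup.closure (genSet D K), Function.Surjective α ∧
      ∀ (g : Subgroup.closure (genSet D K)) (r : Fin D.nroots) (t : K),
        ((g : GL D.Idx K) : Matrix D.Idx D.Idx K) = D.xMat K r t →
        ((α g : GL D.Idx K) : Matrix D.Idx D.Idx K) = D.xMat K (T.σR r) (t ^ (if T.ex r then T.p else 1)) := by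
  have htri : ∀ g ∈ genSet D K, (T.block hB).Tri (g : Matrix D.Idx D.Idx K) := by
    rintro g ⟨r, t, hg⟩ i j hi hj
    rw [hg]
    exact tri_of_chk1 T r i j (chkAll_spec T hA r i j).1 hi hj t
  have hXinv : ∀ g ∈ genSet D K, g⁻¹ ∈ genSet D K := by
    rintro g ⟨r, t, hg⟩
    have : g = hF.xGL r.val t := Units.ext (by rw [hg, Facts.xGL_val, x_of_fin])
    rw [this, hF.xGL_inv]
    exact xGL_mem_genSet hF r (-t)
  have htri' : ∀ g ∈ genSet D K, (T.block hB).Tri ((g⁻¹ : GL D.Idx K) : Matrix D.Idx D.Idx K) :=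
    fun g hg => htri _ (hXinv g hg)
  have hrelx : ∀ (r : Fin D.nroots) (t : K), (T.block hB).Rel (D.xMat K r t)
      (D.xMat K (T.σR r) (t ^ (if T.ex r then T.p else 1))) := by
    intro r t i j hi hj
    exact rel_of_chk2 T hp r i j (chkAll_spec T hA r i j).2 hi hj t
  have hrel : ∀ g ∈ genSet D K, ∃ M ∈ genSet D K,
      (T.block hB).Rel (g : Matrix D.Idx D.Idx K) (M : Matrix D.Idx D.Idx K) := by
    rintro g ⟨r, t, hg⟩
    refine ⟨hF.xGL (T.σR r).val (t ^ (if T.ex r then T.p else 1)), xGL_mem_genSet hF _ _, ?_⟩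
    rw [hg, Facts.xGL_val, x_of_fin]
    exact hrelx r t
  have hrel' : ∀ M ∈ genSet D K, ∃ g ∈ genSet D K,
      (T.block hB).Rel (g : Matrix D.Idx D.Idx K) (M : Matrix D.Idx D.Idx K) := by
    rintro M ⟨r', u, hM⟩
    obtain ⟨hinv, _⟩ := chkR_spec T hR r'
    obtain ⟨t, ht⟩ : ∃ t : K, t ^ (if T.ex (T.σR r') then T.p else 1) = u := by
      split_ifs
      · exact hperf u
      · exact ⟨u, pow_one u⟩
    refine ⟨hF.xGL (T.σR r').val t, xGL_mem_genSet hF _ _, ?_⟩
    rw [hM, Facts.xGL_val, x_of_fin]
    have := hrelx (T.σR r') t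
    rw [hinv, ht] at this
    exact this
  obtain ⟨α, hsurj, _, huniq⟩ := exists_hom (B := T.block hB) (X := genSet D K) htri htri' hXinv hrel hrel' hfaith
  refine ⟨α, hsurj, ?_⟩
  intro g r t hg
  have := huniq g (hF.xGL (T.σR r).val (t ^ (if T.ex r then T.p else 1)))
    (Subgroup.subset_closure (xGL_mem_genSet hF _ _)) (by
      rw [hg, Facts.xGL_val, x_of_fin]
      exact hrelx r t)
  rw [this, Facts.xGL_val, x_of_fin]

/-- all elements of the group are block triangular -/
theorem tri_group (T : GData D) (hF : Facts D) (hA : chkAll T = true) (hB : chkB T = true) [CharP K T.p] :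
    ∀ g ∈ Subgroup.closure (genSet D K), (T.block hB).Tri (g : Matrix D.Idx D.Idx K) ∧
      (T.block hB).Tri ((g⁻¹ : GL D.Idx K) : Matrix D.Idx D.Idx K) := by
  have htri : ∀ g ∈ genSet D K, (T.block hB).Tri (g : Matrix D.Idx D.Idx K) := by
    rintro g ⟨r, t, hg⟩ i j hi hj
    rw [hg]
    exact tri_of_chk1 T r i j (chkAll_spec T hA r i j).1 hi hj t
  have hXinv : ∀ g ∈ genSet D K, g⁻¹ ∈ genSet D K := by
    rintro g ⟨r, t, hg⟩
    have : g = hF.xGL r.val t := Units.ext (by rw [hg, Facts.xGL_val, x_of_fin])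
    rw [this, hF.xGL_inv]
    exact xGL_mem_genSet hF r (-t)
  exact tri_of_mem_closure _ _ htri (fun g hg => htri _ (hXinv g hg))

/-- the entry `(e_r, e_{-r})` of `x_r(t)` -/
theorem xMat_neg_entry (r s : Fin D.nroots) (hs : s.val = D.negIdx.getD r.val 0) (hne : s ≠ r) (t : K) :
    D.xMat K r t (Sum.inr r) (Sum.inr s) = -(t ^ 2) := by
  unfold ChevalleyDatum.xMat
  simp [hs, hne, Ne.symm hne]

/-- faithfulness on the invariant part from simplicity -/
theorem faithful_of_simple' (T : GData D) (hF : Facts D) (hA : chkAll T = true) (hB : chkB T = true)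
    [CharP K T.p] (hs : IsSimpleGroup (Subgroup.closure (genSet D K))) (r s : Fin D.nroots) (hs' : s.val = D.negIdx.getD r.val 0)
    (hne : s ≠ r) (hSr : T.S (Sum.inr r) = true) (hSs : T.S (Sum.inr s) = true) :
    Faithful (T.block hB) (genSet D K) := by
  refine faithful_of_simple _ _ (tri_group T hF hA hB) hs ⟨hF.xGL r.val 1, Subgroup.subset_closure
    (xGL_mem_genSet hF r 1), ?_⟩
  intro h
  have := h (Sum.inr r) (Sum.inr s) hSr hSs
  rw [Facts.xGL_val, x_of_fin, xMat_neg_entry r s hs' hne, Matrix.one_apply_ne (by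
    intro e; exact hne (Sum.inr.inj e).symm)] at this
  simp at this

end

/-- the table data from lists -/
def mkData (D : ChevalleyDatum) (p : ℕ) (hS rS : List Bool) (hσ rσ : List ℕ) : GData D where
  p := p
  S := fun i => match i with
    | Sum.inl i => hS.getD i.val false
    | Sum.inr s => rS.getD s.val false
  σI := fun i => match i with
    | Sum.inl i => Sum.inl (if h : hσ.getD i.val 0 < D.rank then ⟨hσ.getD i.val 0, h⟩ else i)
    | Sum.inr s => Sum.inr (if h : rσ.getD s.val 0 < D.nroots then ⟨rσ.getD s.val 0, h⟩ else s)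
  σR := fun s => if h : rσ.getD s.val 0 < D.nroots then ⟨rσ.getD s.val 0, h⟩ else s
  ex := fun s => rS.getD s.val false

end Cfsg.Agent.Lib.Helper37.GraphAut
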