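import Cfsg.Agent.Lib.Helper37.GraphAutAlg

/-!
# Faithfulness on the invariant part for a group isomorphic to `S₆` (the case `B₂(2)` of S1098)
-/

set_option autoImplicit false
set_option linter.unusedSectionVars false

namespace Cfsg.Agent.Lib.Helper37.GraphAut

open Matrix

variable {n : Type*} [Fintype n] [DecidableEq n] {K : Type*} [Field K]

/-- the subgroup of elements acting trivially on the `S`-part -/
def trivSub (B : BlockData n) (X : Set (GL n K))
    (hT : ∀ g ∈ Subgroup.closure X, B.Tri (g : Matrix n n K) ∧ B.Tri ((g⁻¹ : GL n K) : Matrix n n K)) :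
    Subgroup (Subgroup.closure X) where
  carrier := {g | B.AEq ((g : GL n K) : Matrix n n K) 1}
  one_mem' := by show B.AEq _ _; simp only [OneMemClass.coe_one, Units.val_one]; exact B.aeq_refl _
  mul_mem' := by
    intro a b ha hb
    show B.AEq _ _
    rw [Subgroup.coe_mul, Units.val_mul]
    have := B.aeq_mul ha hb (hT b b.2).1 B.tri_one
    rwa [mul_one] at this
  inv_mem' := by
    intro a ha
    show B.AEq _ _
    have h := B.aeq_mul (B.aeq_refl (((a : GL n K)⁻¹ : GL n K) : Matrix n n K)) ha (hT a a.2).1 B.tri_one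
    rw [mul_one, ← Units.val_mul, inv_mul_cancel, Units.val_one] at h
    rw [Subgroup.coe_inv]
    exact B.aeq_symm h

theorem mem_trivSub (B : BlockData n) (X : Set (GL n K))
    (hT : ∀ g ∈ Subgroup.closure X, B.Tri (g : Matrix n n K) ∧ B.Tri ((g⁻¹ : GL n K) : Matrix n n K))
    (g : Subgroup.closure X) : g ∈ trivSub B X hT ↔ B.AEq ((g : GL n K) : Matrix n n K) 1 := Iff.rfl

theorem trivSub_normal (B : BlockData n) (X : Set (GL n K))
    (hT : ∀ g ∈ Subgroup.closure X, B.Tri (g : Matrix n n K) ∧ B.Tri ((g⁻¹ : GL n K) : Matrix n n K)) :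
    (trivSub B X hT).Normal := by
  constructor
  intro a ha g
  show B.AEq _ _
  rw [Subgroup.coe_mul, Subgroup.coe_mul, Units.val_mul, Units.val_mul, Subgroup.coe_inv]
  have h1 : B.AEq (((g : GL n K) : Matrix n n K) * ((a : GL n K) : Matrix n n K))
      (((g : GL n K) : Matrix n n K) * 1) :=
    B.aeq_mul (B.aeq_refl _) ha (hT a a.2).1 B.tri_one
  have h2 := B.aeq_mul h1 (B.aeq_refl ((((g : GL n K))⁻¹ : GL n K) : Matrix n n K)) (hT g g.2).2 (hT g g.2).2
  have e : ((g : GL n K) : Matrix n n K) * ((((g : GL n K))⁻¹ : GL n K) : Matrix n n K) = 1 := by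
    rw [← Units.val_mul, mul_inv_cancel, Units.val_one]
  rw [mul_one, e] at h2
  exact h2

/-- a nontrivial normal subgroup of a group isomorphic to `S₆` contains all commutators -/
theorem commutator_mem_of_equiv_perm6 {G : Type*} [Group G] (e : G ≃* Equiv.Perm (Fin 6)) (N : Subgroup G)
    [hN : N.Normal] (hne : N ≠ ⊥) (x y : G) : x * y * x⁻¹ * y⁻¹ ∈ N := by
  let N' : Subgroup (Equiv.Perm (Fin 6)) := N.map e.toMonoidHom
  have hN' : N'.Normal := Subgroup.Normal.map hN e.toMonoidHom e.surjective
  have hnt : Nontrivial N' := by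
    rw [Subgroup.nontrivial_iff_ne_bot]
    intro h
    apply hne
    rw [eq_bot_iff]
    intro g hg
    have : e g ∈ N' := ⟨g, hg, rfl⟩
    rw [h, Subgroup.mem_bot] at this
    rw [Subgroup.mem_bot]
    exact e.injective (by rw [this, map_one])
  have h5 : 5 ≤ Nat.card (Fin 6) := by simp
  have hle := Equiv.Perm.alternatingGroup_le_of_normal h5 hnt
  rw [← alternatingGroup.commutator_perm_eq h5] at hle
  have hc : e x * e y * (e x)⁻¹ * (e y)⁻¹ ∈ commutator (Equiv.Perm (Fin 6)) := by
    rw [commutator_def]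
    have := Subgroup.commutator_mem_commutator (Subgroup.mem_top (e x)) (Subgroup.mem_top (e y))
    rwa [commutatorElement_def] at this
  obtain ⟨g, hg, hge⟩ := hle hc
  have : g = x * y * x⁻¹ * y⁻¹ := by
    apply e.injective
    rw [map_mul, map_mul, map_mul, map_inv, map_inv]
    exact hge
  rw [← this]; exact hg

/-- faithfulness for a group isomorphic to `S₆` from two elements whose `S`-blocks do not commute -/
theorem faithful_of_perm6 (B : BlockData n) (X : Set (GL n K))
    (hT : ∀ g ∈ Subgroup.closure X, B.Tri (g : Matrix n n K) ∧ B.Tri ((g⁻¹ : GL n K) : Matrix n n K))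
    (e : Subgroup.closure X ≃* Equiv.Perm (Fin 6)) (x y : GL n K) (hx : x ∈ Subgroup.closure X)
    (hy : y ∈ Subgroup.closure X)
    (hxy : ¬ B.AEq ((x : Matrix n n K) * (y : Matrix n n K)) ((y : Matrix n n K) * (x : Matrix n n K))) :
    Faithful B X := by
  have hN := trivSub_normal B X hT
  intro M hM h
  by_cases h0 : trivSub B X hT = ⊥
  · have : (⟨M, hM⟩ : Subgroup.closure X) ∈ trivSub B X hT := h
    rw [h0, Subgroup.mem_bot] at this
    exact congrArg Subtype.val this
  · exfalso
    apply hxy
    have hc := commutator_mem_of_equiv_perm6 e (trivSub B X hT) h0 ⟨x, hx⟩ ⟨y, hy⟩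
    rw [mem_trivSub] at hc
    simp only [Subgroup.coe_mul, Subgroup.coe_inv, Units.val_mul] at hc
    have hyx : B.Tri ((y : Matrix n n K) * (x : Matrix n n K)) := B.tri_mul (hT y hy).1 (hT x hx).1
    have h2 := B.aeq_mul hc (B.aeq_refl ((y : Matrix n n K) * (x : Matrix n n K))) hyx hyx
    have e1 : (x : Matrix n n K) * (y : Matrix n n K) * ((x⁻¹ : GL n K) : Matrix n n K) *
        ((y⁻¹ : GL n K) : Matrix n n K) * ((y : Matrix n n K) * (x : Matrix n n K)) =
        (x : Matrix n n K) * (y : Matrix n n K) := by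
      have : x * y * x⁻¹ * y⁻¹ * (y * x) = x * y := by group
      have := congrArg (fun g : GL n K => (g : Matrix n n K)) this
      simpa only [Units.val_mul] using this
    rw [e1, one_mul] at h2
    exact h2

end Cfsg.Agent.Lib.Helper37.GraphAut
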