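import Cfsg.Agent.Lib.Helper37.GraphAutMain

/-!
# Entries of products `x_r(1) x_s(1)` as integers (for the non-commuting witness in the case `B₂(2)` of S1098)
-/

set_option autoImplicit false
set_option linter.unusedSectionVars false

namespace Cfsg.Agent.Lib.Helper37.GraphAut

open Cfsg.Lie Cfsg.Agent.Lib.Helper24

variable (D : ChevalleyDatum)

/-- the entry of `x_r(1)` as an integer -/
def X1 (r : Fin D.nroots) (i j : D.Idx) : ℤ := xc D r i j 0 + xc D r i j 1 + xc D r i j 2 + xc D r i j 3

/-- the entry of `x_r(1) x_s(1)` as an integer -/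
def prodEntry (r s : Fin D.nroots) (i j : D.Idx) : ℤ := ((idxList D).map fun k => X1 D r i k * X1 D s k j).sum

def prodOK (r s : Fin D.nroots) (i j : D.Idx) : Bool := (idxList D).all fun k => xb D r i k && xb D s k j

/-- the `(i, j)` entries of `x_r(1) x_s(1)` and `x_s(1) x_r(1)` differ by an odd integer -/
def commChk (r s : Fin D.nroots) (i j : D.Idx) : Bool :=
  prodOK D r s i j && prodOK D s r i j && ((prodEntry D r s i j - prodEntry D s r i j) % 2 == 1)

variable {K : Type*} [Field K]

theorem xMat_one_entry (r : Fin D.nroots) (i j : D.Idx) (hb : xb D r i j = true) :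
    D.xMat K r 1 i j = ((X1 D r i j : ℤ) : K) := by
  rw [xMat_entry D r 1 i j hb]
  simp [Finset.sum_range_succ, X1]

theorem sum_idx (f : D.Idx → K) : ∑ k, f k = ((idxList D).map f).sum := by
  rw [Fintype.sum_sum_type, Fin.sum_univ_def, Fin.sum_univ_def]
  simp [idxList, List.map_append, List.sum_append, List.map_map, Function.comp_def]

theorem mul_one_entry (r s : Fin D.nroots) (i j : D.Idx) (h : prodOK D r s i j = true) :
    (D.xMat K r 1 * D.xMat K s 1) i j = ((prodEntry D r s i j : ℤ) : K) := by
  rw [Matrix.mul_apply, sum_idx]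
  unfold prodEntry
  have hk : ∀ k ∈ idxList D, D.xMat K r 1 i k * D.xMat K s 1 k j = ((X1 D r i k * X1 D s k j : ℤ) : K) := by
    intro k hk
    have := List.all_eq_true.1 h k hk
    rw [Bool.and_eq_true] at this
    rw [xMat_one_entry D r i k this.1, xMat_one_entry D s k j this.2, Int.cast_mul]
  rw [List.map_congr_left hk]
  induction idxList D with
  | nil => simp
  | cons a l ih => simp only [List.map_cons, List.sum_cons, Int.cast_add, ih]

theorem comm_ne_of_commChk [CharP K 2] (r s : Fin D.nroots) (i j : D.Idx) (h : commChk D r s i j = true) :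
    (D.xMat K r 1 * D.xMat K s 1) i j ≠ (D.xMat K s 1 * D.xMat K r 1) i j := by
  unfold commChk at h
  rw [Bool.and_eq_true, Bool.and_eq_true] at h
  obtain ⟨⟨h1, h2⟩, h3⟩ := h
  rw [mul_one_entry D r s i j h1, mul_one_entry D s r i j h2]
  intro he
  have h3' : (prodEntry D r s i j - prodEntry D s r i j) % 2 = 1 := by simpa using h3
  have h0 : (((prodEntry D r s i j - prodEntry D s r i j : ℤ)) : K) = 0 := by
    rw [Int.cast_sub, he, sub_self]
  rw [CharP.intCast_eq_zero_iff K 2] at h0
  have : (prodEntry D r s i j - prodEntry D s r i j) % 2 = 0 := Int.emod_eq_zero_of_dvd (by exact_mod_cast h0)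
  omega

end Cfsg.Agent.Lib.Helper37.GraphAut
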