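import Cfsg.Agent.Lib.Helper37.GraphAutF4
import Cfsg.Agent.Lib.Helper37.GraphAutX2
import Cfsg.Agent.Lib.Helper37.GraphAutAlg2
import Cfsg.Agent.Lib.Helper24.FactsAll
import Cfsg.Agent.S1054
import Cfsg.Agent.S1056
import Cfsg.Agent.S1058

/-!
# The graph automorphisms of `B₂` and `F₄` in characteristic 2 (S1098)
-/

set_option autoImplicit false
set_option linter.unusedSectionVars false

namespace Cfsg.Agent.Lib.Helper37.GraphAut

open Cfsg.Lie Cfsg.Agent.Lib.Helper24

variable {K : Type*} [Field K]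

/-- from the endomorphism to the automorphism -/
theorem graph_equiv {D : ChevalleyDatum} (T : GData D) (hF : Facts D) (hp : T.p = 2 ∨ T.p = 3)
    (hA : chkAll T = true) (hB : chkB T = true) (hR : chkR T = true) [CharP K T.p]
    (hperf : ∀ x : K, ∃ y : K, y ^ T.p = x) (hfaith : Faithful (T.block hB) (genSet D K))
    (hinj : ∀ α : Subgroup.closure (genSet D K) →* Subgroup.closure (genSet D K),
      Function.Surjective α → Function.Injective α) :
    ∃ α : D.group K ≃* D.group K, ∀ (g : D.group K) (r : Fin D.nroots) (t : K),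
      ((g : GL D.Idx K) : Matrix D.Idx D.Idx K) = D.x K r.val t →
      ((α g : GL D.Idx K) : Matrix D.Idx D.Idx K) = D.x K (T.σR r).val (t ^ (if T.ex r then T.p else 1)) := by
  obtain ⟨α, hsurj, hα⟩ := exists_graph_hom (K := K) T hF hp hA hB hR hperf hfaith
  refine ⟨MulEquiv.ofBijective α ⟨hinj α hsurj, hsurj⟩, ?_⟩
  intro g r t hg
  rw [x_of_fin] at hg ⊢
  exact hα g r t hg

theorem hD_B2 : chevB2 ∈ [chevG2, chevB2, chevD4, chevF4, chevE6, chevE7, chevE8] := by simp

theorem hD_F4 : chevF4 ∈ [chevG2, chevB2, chevD4, chevF4, chevE6, chevE7, chevE8] := by simp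

/-- `F₄` -/
theorem graphF4 [CharP K 2] (hperf : ∀ x : K, ∃ y : K, y ^ 2 = x) :
    ∃ α : chevF4.group K ≃* chevF4.group K, ∀ (g : chevF4.group K) (r : Fin chevF4.nroots) (t : K),
      ((g : GL chevF4.Idx K) : Matrix chevF4.Idx chevF4.Idx K) = chevF4.x K r.val t →
      ((α g : GL chevF4.Idx K) : Matrix chevF4.Idx chevF4.Idx K) =
        chevF4.x K (dataF4.σR r).val (t ^ (if dataF4.ex r then 2 else 1)) := by
  have hF := facts_all chevF4 hD_F4
  have hsimple : IsSimpleGroup ↥(chevF4.group K) := (Cfsg.Agent.S1054.result chevF4 (by simp)).1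
  have : CharP K dataF4.p := (inferInstance : CharP K 2)
  have hfaith := faithful_of_simple' (K := K) dataF4 hF chkAll_F4 chkB_F4 hsimple ⟨33, by decide⟩ ⟨14, by decide⟩
    (by decide) (by decide) (by decide) (by decide)
  exact graph_equiv (K := K) dataF4 hF (Or.inl rfl) chkAll_F4 chkB_F4 chkR_F4 hperf hfaith
    (fun α hα => injective_of_simple hsimple α hα)

theorem commChk_B2 : commChk chevB2 ⟨0, by decide⟩ ⟨5, by decide⟩ (Sum.inl ⟨0, by decide⟩)
    (Sum.inr ⟨6, by decide⟩) = true := by decide +kernel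

/-- `B₂` -/
theorem graphB2 [CharP K 2] (hperf : ∀ x : K, ∃ y : K, y ^ 2 = x) :
    ∃ α : chevB2.group K ≃* chevB2.group K, ∀ (g : chevB2.group K) (r : Fin chevB2.nroots) (t : K),
      ((g : GL chevB2.Idx K) : Matrix chevB2.Idx chevB2.Idx K) = chevB2.x K r.val t →
      ((α g : GL chevB2.Idx K) : Matrix chevB2.Idx chevB2.Idx K) =
        chevB2.x K (dataB2.σR r).val (t ^ (if dataB2.ex r then 2 else 1)) := by
  classical
  have hF := facts_all chevB2 hD_B2
  have : CharP K dataB2.p := (inferInstance : CharP K 2)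
  by_cases hK : ∃ a : K, a ≠ 0 ∧ a ≠ 1
  · have hsimple : IsSimpleGroup ↥(chevB2.group K) := (Cfsg.Agent.S1056.result hK).1
    have hfaith := faithful_of_simple' (K := K) dataB2 hF chkAll_B2 chkB_B2 hsimple ⟨5, by decide⟩ ⟨2, by decide⟩
      (by decide) (by decide) (by decide) (by decide)
    exact graph_equiv (K := K) dataB2 hF (Or.inl rfl) chkAll_B2 chkB_B2 chkR_B2 hperf hfaith
      (fun α hα => injective_of_simple hsimple α hα)
  · -- the field with two elements
    have h01 : ∀ a : K, a = 0 ∨ a = 1 := by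
      intro a
      by_contra h
      rw [not_or] at h
      exact hK ⟨a, h.1, h.2⟩
    have hfin : Finite K := by
      apply Finite.of_injective (fun a : K => decide (a = 0))
      intro a b hab
      simp only [decide_eq_decide] at hab
      rcases h01 a with ha | ha <;> rcases h01 b with hb | hb
      · rw [ha, hb]
      · exfalso; rw [ha, hb] at hab; simp at hab
      · exfalso; rw [ha, hb] at hab; simp at hab
      · rw [ha, hb]
    let _ : Fintype K := Fintype.ofFinite K
    have hcard : Fintype.card K = 2 := by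
      rw [Fintype.card_eq_nat_card, Nat.card_eq_two_iff]
      refine ⟨0, 1, zero_ne_one, ?_⟩
      ext a
      simp only [Set.mem_insert_iff, Set.mem_singleton_iff, Set.mem_univ, iff_true]
      exact h01 a
    obtain ⟨e⟩ := Cfsg.Agent.S1058.result (F := K) hcard
    have hT := tri_group (K := K) dataB2 hF chkAll_B2 chkB_B2
    have hfaith : Faithful (dataB2.block chkB_B2) (genSet chevB2 K) := by
      refine faithful_of_perm6 _ _ hT e (hF.xGL 0 1) (hF.xGL 5 1)
        (Subgroup.subset_closure (xGL_mem_genSet hF ⟨0, by decide⟩ 1))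
        (Subgroup.subset_closure (xGL_mem_genSet hF ⟨5, by decide⟩ 1)) ?_
      intro h
      have h1 := h (Sum.inl ⟨0, by decide⟩) (Sum.inr ⟨6, by decide⟩) (by decide) (by decide)
      rw [Facts.xGL_val, Facts.xGL_val] at h1
      have e0 : chevB2.x K 0 (1 : K) = chevB2.xMat K ⟨0, by decide⟩ 1 := x_of_fin (D := chevB2) ⟨0, by decide⟩ 1
      have e5 : chevB2.x K 5 (1 : K) = chevB2.xMat K ⟨5, by decide⟩ 1 := x_of_fin (D := chevB2) ⟨5, by decide⟩ 1
      rw [e0, e5] at h1
      exact comm_ne_of_commChk chevB2 _ _ _ _ commChk_B2 h1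
    have hfinG : Finite ↥(Subgroup.closure (genSet chevB2 K)) := Finite.of_equiv _ e.symm.toEquiv
    exact graph_equiv (K := K) dataB2 hF (Or.inl rfl) chkAll_B2 chkB_B2 chkR_B2 hperf hfaith
      (fun α hα => Finite.injective_iff_surjective.2 hα)

end Cfsg.Agent.Lib.Helper37.GraphAut
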