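import Cfsg.Agent.Lib.Helper33.F4Tor
import Cfsg.Agent.Lib.Helper33.F4Sigma
import Cfsg.Agent.Lib.Helper33.ReeEngine
import Cfsg.Agent.Lib.Helper33.TwBNChev
import Cfsg.Agent.Lib.Helper76.ModC

/-!
K-2F4-C (keystone 108905): the twisting automorphism `σ` of `F₄(K)` (characteristic 2) preserves
`U`, `V`, `H`, `N`, the subgroups `U_n⁻`, and fixes the representatives `s1F`, `s2F`.
Port of `Lib/Helper24/ReeN.lean` + `ReeCell.lean` to `chevF4 / barF / lamF`.
-/

set_option autoImplicit false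
set_option linter.unusedSimpArgs false
set_option linter.unusedVariables false
set_option maxRecDepth 100000

namespace Cfsg.Agent.Lib.Helper37.F4

open Cfsg.Lie Cfsg.Agent.Lib.Helper24 Cfsg.Agent.Lib.Helper33.F4 Cfsg.Agent.Lib.Helper33.TwBN

theorem neg_lt48 : ∀ r < 48, chevF4.neg r < 48 := by decide

theorem lamF_barF_mul : ∀ r < 48, lamF (barF r) * lamF r = 2 := by decide

section nochar

variable {K : Type*} [Field K] {e : ℕ}

/-- the preimage of a subgroup under the twisting automorphism -/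
def sigPre (S : SigmaF K e) (T : Subgroup (GL chevF4.Idx K)) : Subgroup (GL chevF4.Idx K) where
  carrier := {x | x ∈ chevF4.group K ∧ S.ext x ∈ T}
  one_mem' := ⟨Subgroup.one_mem _, by rw [S.ext_one]; exact Subgroup.one_mem _⟩
  mul_mem' := by
    rintro a b ⟨ha, ha'⟩ ⟨hb, hb'⟩
    exact ⟨Subgroup.mul_mem _ ha hb, by rw [S.ext_mul ha hb]; exact Subgroup.mul_mem _ ha' hb'⟩
  inv_mem' := by
    rintro a ⟨ha, ha'⟩
    exact ⟨Subgroup.inv_mem _ ha, by rw [S.ext_inv ha]; exact Subgroup.inv_mem _ ha'⟩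

theorem mem_sigPre (S : SigmaF K e) (T : Subgroup (GL chevF4.Idx K)) (x : GL chevF4.Idx K) :
    x ∈ sigPre S T ↔ x ∈ chevF4.group K ∧ S.ext x ∈ T := Iff.rfl

theorem pos_le_sigPre (S : SigmaF K e) :
    chevF4.posUnipotent K ≤ sigPre S (chevF4.posUnipotent K) := by
  conv_lhs => unfold ChevalleyDatum.posUnipotent
  rw [Subgroup.closure_le]
  rintro g ⟨r, t, hr, hg⟩
  rw [(envF4 K).hF.eq_xGL g r t hg, SetLike.mem_coe, mem_sigPre, S.ext_xF r hr.1]
  exact ⟨(envF4 K).hF.xGL_mem_group _ _, (envF4 K).hF.xGL_mem_pos _ (barF_pos r hr.1 hr) _⟩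

theorem neg_le_sigPre (S : SigmaF K e) :
    chevF4.negUnipotent K ≤ sigPre S (chevF4.negUnipotent K) := by
  conv_lhs => unfold ChevalleyDatum.negUnipotent
  rw [Subgroup.closure_le]
  rintro g ⟨r, t, hr, hg⟩
  rw [(envF4 K).hF.eq_xGL g r t hg, SetLike.mem_coe, mem_sigPre, S.ext_xF r hr.1]
  exact ⟨(envF4 K).hF.xGL_mem_group _ _, (envF4 K).hF.xGL_mem_neg _ (barF_negRoot r hr.1 hr) _⟩

/-- `σ` transports the set of the roots made negative -/
theorem negSet_ext (S : SigmaF K e) (hθ : ∀ t : K, t ^ (2 * e * e) = t)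
    (n : GL chevF4.Idx K) (hn : n ∈ chevF4.group K) (r : ℕ) (hr : r < 48)
    (h : NegSet chevF4 K n r) : NegSet chevF4 K (S.ext n) (barF r) := by
  rintro y ⟨z, hz, rfl⟩
  obtain ⟨s, rfl⟩ := (envF4 K).hF.exists_of_mem_rootSubgroup (barF r) z hz
  simp only [MulEquiv.coe_toMonoidHom, MulAut.conj_apply]
  have hs : s = (s ^ (lamF (barF r) * e)) ^ (lamF r * e) := by
    rw [← pow_mul, show lamF (barF r) * e * (lamF r * e) = (lamF (barF r) * lamF r) * e * e by ring,
      lamF_barF_mul r hr, hθ]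
  have e1 : (envF4 K).hF.xGL (barF r) s = S.ext ((envF4 K).hF.xGL r (s ^ (lamF (barF r) * e))) := by
    rw [S.ext_xF r hr, ← hs]
  have hxG := (envF4 K).hF.xGL_mem_group (F := K) r (s ^ (lamF (barF r) * e))
  rw [e1, ← S.ext_inv hn, ← S.ext_mul hn hxG,
    ← S.ext_mul (Subgroup.mul_mem _ hn hxG) (Subgroup.inv_mem _ hn)]
  apply (neg_le_sigPre S _).2
  apply h
  exact ⟨(envF4 K).hF.xGL r (s ^ (lamF (barF r) * e)),
    Subgroup.subset_closure ⟨s ^ (lamF (barF r) * e), rfl⟩, by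
    simp only [MulEquiv.coe_toMonoidHom, MulAut.conj_apply]⟩

theorem Un_le_sigPre (S : SigmaF K e) (hθ : ∀ t : K, t ^ (2 * e * e) = t)
    (n : GL chevF4.Idx K) (hn : n ∈ chevF4.group K) :
    Un chevF4 K n ≤ sigPre S (Un chevF4 K (S.ext n)) := by
  unfold Un
  conv_lhs => unfold rootClosure
  rw [Subgroup.closure_le]
  rintro g ⟨r, t, ⟨hr, hnr⟩, hg⟩
  rw [(envF4 K).hF.eq_xGL g r t hg, SetLike.mem_coe, mem_sigPre, S.ext_xF r hr.1]
  exact ⟨(envF4 K).hF.xGL_mem_group _ _, (envF4 K).hF.xGL_mem_rootClosure _ _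
    ⟨barF_pos r hr.1 hr, negSet_ext S hθ n hn r hr.1 hnr⟩ _⟩

end nochar

section char2

variable {K : Type*} [Field K] [CharP K 2] {e : ℕ}

/-- `σ` on the elements `n_r(t)` -/
theorem ext_nGL' (S : SigmaF K e) (r : ℕ) (hr : r < 48) (t : K) :
    S.ext ((envF4 K).hF.nGL r t) = (envF4 K).hF.nGL (barF r) (t ^ (lamF r * e)) := by
  unfold Facts.nGL ChevalleyDatum.nWord
  have hneg : chevF4.neg r < 48 := neg_lt48 r hr
  rw [S.ext_wordGL _ (by
    intro p hp
    simp only [List.mem_cons, List.not_mem_nil, or_false] at hp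
    rcases hp with rfl | rfl | rfl
    · exact hr
    · exact hneg
    · exact hr)]
  simp only [List.map_cons, List.map_nil]
  rw [barF_neg r hr, lamF_neg r hr]
  simp only [CharTwo.neg_eq, inv_pow]

/-- `σ` on the generators `h_r(t)` of `H` -/
theorem ext_hGL (S : SigmaF K e) (r : ℕ) (hr : r < 48) (t : K) :
    S.ext ((envF4 K).hF.wordGL (chevF4.hWord r t)) =
      (envF4 K).hF.wordGL (chevF4.hWord (barF r) (t ^ (lamF r * e))) := by
  rw [hWordGL, hWordGL, S.ext_mul (a := (envF4 K).hF.nGL r t) (b := (envF4 K).hF.nGL r (-1))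
    ((envF4 K).hF.wordGL_mem_group (chevF4.nWord r t))
    ((envF4 K).hF.wordGL_mem_group (chevF4.nWord r (-1))),
    ext_nGL' S r hr, ext_nGL' S r hr]
  simp only [CharTwo.neg_eq, one_pow]

theorem diag_le_sigPre (S : SigmaF K e) :
    chevF4.diagonalSubgroup K ≤ sigPre S (chevF4.diagonalSubgroup K) := by
  conv_lhs => unfold ChevalleyDatum.diagonalSubgroup
  rw [Subgroup.closure_le]
  rintro g ⟨r, t, hr, ht, hg⟩
  have hg' : g = (envF4 K).hF.wordGL (chevF4.hWord r t) := (envF4 K).hF.eq_wordGL g _ hg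
  rw [hg', SetLike.mem_coe, mem_sigPre, ext_hGL S r hr]
  refine ⟨(envF4 K).hF.wordGL_mem_group _, Subgroup.subset_closure
    ⟨barF r, t ^ (lamF r * e), barF_lt r hr, pow_ne_zero _ ht, ?_⟩⟩
  rw [(envF4 K).hF.wordGL_val]
  rfl

theorem mono_le_sigPre (S : SigmaF K e) :
    chevF4.monomialSubgroup K ≤ sigPre S (chevF4.monomialSubgroup K) := by
  conv_lhs => unfold ChevalleyDatum.monomialSubgroup
  apply sup_le
  · intro x hx
    have := diag_le_sigPre S hx
    exact ⟨this.1, diagonal_le_monomial chevF4 K this.2⟩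
  · rw [Subgroup.closure_le]
    rintro g ⟨r, hr, hg⟩
    have hg' : g = (envF4 K).hF.nGL r 1 := by
      apply Units.ext
      rw [hg]
      unfold Facts.nGL
      rw [(envF4 K).hF.wordGL_val]
      rfl
    rw [hg', SetLike.mem_coe, mem_sigPre, ext_nGL' S r hr, one_pow]
    exact ⟨(envF4 K).hF.wordGL_mem_group _,
      (envF4 K).hF.nGL_mem_monomial _ (barF_lt r hr) 1 one_ne_zero⟩

/-- the interchange of the fundamental roots: `p₁ ↔ p₄`, `p₂ ↔ p₃` -/
def swF (i : ℕ) : ℕ := 3 - i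

theorem simple_lt48 : ∀ i < 4, chevF4.simple i < 48 := by decide

theorem barF_simple : ∀ i < 4, barF (chevF4.simple i) = chevF4.simple (swF i) := by decide

theorem ext_nS (S : SigmaF K e) (i : ℕ) (hi : i < 4) :
    S.ext ((envF4 K).hF.nS i) = (envF4 K).hF.nS (swF i) := by
  unfold Facts.nS
  rw [ext_nGL' S _ (simple_lt48 i hi), one_pow, barF_simple i hi]

theorem ext_nW (S : SigmaF K e) (w : List ℕ) (hw : ∀ i ∈ w, i < 4) :
    S.ext ((envF4 K).hF.nW w) = (envF4 K).hF.nW (w.map swF) := by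
  induction w with
  | nil =>
    have : (envF4 K).hF.nW (F := K) [] = 1 := by simp [Facts.nW]
    rw [List.map_nil, this, S.ext_one]
  | cons i w ih =>
    have hw' : ∀ j ∈ w, j < 4 := fun j hj => hw j (List.mem_cons_of_mem _ hj)
    have hcons : ∀ (j : ℕ) (L : List ℕ), (envF4 K).hF.nW (F := K) (j :: L) =
        (envF4 K).hF.nS j * (envF4 K).hF.nW L := by
      intro j L; simp [Facts.nW]
    rw [List.map_cons, hcons, hcons, S.ext_mul
      ((envF4 K).hF.monomial_le_group ((envF4 K).hF.nS_mem_monomial i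
        (Facts.simple_lt (envF4 K).hH i (hw i List.mem_cons_self))))
      ((envF4 K).hF.monomial_le_group ((envF4 K).nW_mem w hw')),
      ext_nS S i (hw i List.mem_cons_self), ih hw']

/-- the symbolic word of `n_r(1)` in characteristic 2 (`s = -r`) -/
def nwP (r s : ℕ) : List (ℕ × Poly) := [(r, Poly.one), (s, Poly.one), (r, Poly.one)]

theorem nGL_one_eq (r : ℕ) :
    (envF4 K).hF.nGL r (1 : K) =
      (envF4 K).hF.wordGL (denW (0 : K) 0 0 0 (nwP r (chevF4.neg r))) := by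
  rw [Facts.nGL_def]
  simp [Facts.wordGL, denW, nwP, CharTwo.neg_eq, mul_assoc]

theorem wordGL_app (w w' : List (ℕ × K)) :
    (envF4 K).hF.wordGL (w ++ w') = (envF4 K).hF.wordGL w * (envF4 K).hF.wordGL w' := by
  simp [Facts.wordGL, List.map_append, List.prod_append]

omit [CharP K 2] in
theorem denW_app (w w' : List (ℕ × Poly)) :
    denW (0 : K) 0 0 0 (w ++ w') = denW (0 : K) 0 0 0 w ++ denW (0 : K) 0 0 0 w' := by
  simp [denW]

theorem wordGL_eq_of_check (w1 w2 : List (ℕ × Poly))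
    (h : Cfsg.Agent.Lib.Helper76.ModC.checkWordEqModC 2 chevF4 w1 w2 = true) :
    (envF4 K).hF.wordGL (denW (0 : K) 0 0 0 w1) = (envF4 K).hF.wordGL (denW (0 : K) 0 0 0 w2) := by
  apply Units.ext
  rw [Facts.wordGL_val, Facts.wordGL_val]
  exact Cfsg.Agent.Lib.Helper76.ModC.wordMat_eq_of_checkModC 2 chevF4 (0 : K) 0 0 0 w1 w2 h

theorem s1_check : Cfsg.Agent.Lib.Helper76.ModC.checkWordEqModC 2 chevF4
    (nwP 24 23 ++ nwP 33 14) (nwP 33 14 ++ nwP 24 23) = true := by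
  decide +kernel

theorem s2_check : Cfsg.Agent.Lib.Helper76.ModC.checkWordEqModC 2 chevF4
    (nwP 25 22 ++ (nwP 27 20 ++ (nwP 25 22 ++ nwP 27 20)))
    (nwP 27 20 ++ (nwP 25 22 ++ (nwP 27 20 ++ nwP 25 22))) = true := by
  decide +kernel

theorem simple0 : chevF4.simple 0 = 33 := by decide
theorem simple1 : chevF4.simple 1 = 27 := by decide
theorem simple2 : chevF4.simple 2 = 25 := by decide
theorem simple3 : chevF4.simple 3 = 24 := by decide
theorem neg33 : chevF4.neg 33 = 14 := by decide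
theorem neg27 : chevF4.neg 27 = 20 := by decide
theorem neg25 : chevF4.neg 25 = 22 := by decide
theorem neg24 : chevF4.neg 24 = 23 := by decide

theorem ext_s1F' (S : SigmaF K e) : S.ext (s1F K) = s1F K := by
  unfold s1F
  rw [ext_nW S [0, 3] (by decide)]
  have e1 : (envF4 K).hF.nW (F := K) ([0, 3].map swF) =
      (envF4 K).hF.nGL 24 1 * (envF4 K).hF.nGL 33 1 := by
    simp [Facts.nW, Facts.nS, swF, simple0, simple3]
  have e2 : (envF4 K).hF.nW (F := K) [0, 3] =
      (envF4 K).hF.nGL 33 1 * (envF4 K).hF.nGL 24 1 := by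
    simp [Facts.nW, Facts.nS, simple0, simple3]
  rw [e1, e2, nGL_one_eq, nGL_one_eq, neg33, neg24, ← wordGL_app, ← wordGL_app, ← denW_app,
    ← denW_app]
  exact wordGL_eq_of_check _ _ s1_check

theorem ext_s2F' (S : SigmaF K e) : S.ext (s2F K) = s2F K := by
  unfold s2F
  rw [ext_nW S [1, 2, 1, 2] (by decide)]
  have e1 : (envF4 K).hF.nW (F := K) ([1, 2, 1, 2].map swF) =
      (envF4 K).hF.nGL 25 1 * ((envF4 K).hF.nGL 27 1 *
        ((envF4 K).hF.nGL 25 1 * (envF4 K).hF.nGL 27 1)) := by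
    simp [Facts.nW, Facts.nS, swF, simple1, simple2]
  have e2 : (envF4 K).hF.nW (F := K) [1, 2, 1, 2] =
      (envF4 K).hF.nGL 27 1 * ((envF4 K).hF.nGL 25 1 *
        ((envF4 K).hF.nGL 27 1 * (envF4 K).hF.nGL 25 1)) := by
    simp [Facts.nW, Facts.nS, simple1, simple2]
  rw [e1, e2, nGL_one_eq, nGL_one_eq, neg27, neg25, ← wordGL_app, ← wordGL_app, ← wordGL_app,
    ← wordGL_app, ← wordGL_app, ← wordGL_app, ← denW_app, ← denW_app, ← denW_app, ← denW_app,
    ← denW_app, ← denW_app]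
  exact wordGL_eq_of_check _ _ s2_check

end char2

/-! ### the statements of the keystone, with the exact signatures -/

section spec

variable {K : Type*} [Field K] [CharP K 2] {e : ℕ} (S : SigmaF K e)

theorem ext_pos (g : GL chevF4.Idx K) (hg : g ∈ chevF4.posUnipotent K) : S.ext g ∈ chevF4.posUnipotent K :=
  (pos_le_sigPre S hg).2

theorem ext_neg (g : GL chevF4.Idx K) (hg : g ∈ chevF4.negUnipotent K) : S.ext g ∈ chevF4.negUnipotent K :=
  (neg_le_sigPre S hg).2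

/-- `n_r(t) = x_r(t) x_{-r}(-t⁻¹) x_r(t)` (`Facts.nGL_def`), characteristic 2: `(-t⁻¹)^k = -(t^k)⁻¹`; `barF_neg`. -/
theorem ext_nGL (r : ℕ) (hr : r < 48) (t : K) (ht : t ≠ 0) :
    S.ext ((envF4 K).hF.nGL r t) = (envF4 K).hF.nGL (barF r) (t ^ (lamF r * e)) :=
  ext_nGL' S r hr t

theorem ext_diag (g : GL chevF4.Idx K) (hg : g ∈ chevF4.diagonalSubgroup K) :
    S.ext g ∈ chevF4.diagonalSubgroup K :=
  (diag_le_sigPre S hg).2

theorem ext_mono (g : GL chevF4.Idx K) (hg : g ∈ chevF4.monomialSubgroup K) :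
    S.ext g ∈ chevF4.monomialSubgroup K :=
  (mono_le_sigPre S hg).2

/-- `Un chevF4 K n = rootClosure (r > 0 ∧ n X_r n⁻¹ ≤ V)` (Lib/Helper33/TwBNChev.lean); surjectivity of t ↦ t^(lamF r * e) from hθ. -/
theorem ext_Un (hθ : ∀ t : K, t ^ (2 * e * e) = t) (n : GL chevF4.Idx K)
    (hn : n ∈ chevF4.monomialSubgroup K) (u : GL chevF4.Idx K)
    (hu : u ∈ Un chevF4 K n) : S.ext u ∈ Un chevF4 K (S.ext n) :=
  (Un_le_sigPre S hθ n ((envF4 K).hF.monomial_le_group hn) hu).2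

theorem ext_s1F : S.ext (s1F K) = s1F K := ext_s1F' S

theorem ext_s2F : S.ext (s2F K) = s2F K := ext_s2F' S

end spec

end Cfsg.Agent.Lib.Helper37.F4
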