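import Mathlib

/-!
# A presentation of `SL₂(F)` (Steinberg's relations in rank one)

If `X Y : F → T` are additive maps into a group `T` such that, with `n(t) = X(t) Y(-t⁻¹) X(t)` and
`h(t) = n(t) n(-1)`, one has `n(t) X(s) n(t)⁻¹ = Y(-t⁻² s)` and `h(ts) = h(t) h(s)`, then there is a
homomorphism `SL₂(F) → T` with `[[1,t],[0,1]] ↦ X(t)` and `[[1,0],[t,1]] ↦ Y(t)`.
-/

set_option autoImplicit false

namespace Cfsg.Agent.Lib.Helper37.SL2

variable {F : Type*} [Field F] {T : Type*} [Group T]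

/-- `n(t) = X(t) Y(-t⁻¹) X(t)` -/
def nn (X Y : F → T) (t : F) : T := X t * Y (-t⁻¹) * X t

/-- `h(t) = n(t) n(-1)` -/
def hh (X Y : F → T) (t : F) : T := nn X Y t * nn X Y (-1)

/-- the rank-one relations -/
structure Rel (X Y : F → T) : Prop where
  X_add : ∀ s t : F, X (s + t) = X s * X t
  Y_add : ∀ s t : F, Y (s + t) = Y s * Y t
  n_X : ∀ t : F, t ≠ 0 → ∀ s : F, nn X Y t * X s * (nn X Y t)⁻¹ = Y (-(t⁻¹ ^ 2 * s))
  h_mul : ∀ t s : F, t ≠ 0 → s ≠ 0 → hh X Y (t * s) = hh X Y t * hh X Y s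

namespace Rel

variable {X Y : F → T}

theorem X_zero (R : Rel X Y) : X 0 = 1 := by
  have h : X 0 * X 0 = X 0 * 1 := by rw [mul_one, ← R.X_add, add_zero]
  exact mul_left_cancel h

theorem Y_zero (R : Rel X Y) : Y 0 = 1 := by
  have h : Y 0 * Y 0 = Y 0 * 1 := by rw [mul_one, ← R.Y_add, add_zero]
  exact mul_left_cancel h

theorem X_neg (R : Rel X Y) (s : F) : X (-s) = (X s)⁻¹ := by
  apply eq_inv_of_mul_eq_one_left
  rw [← R.X_add, neg_add_cancel, R.X_zero]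

theorem Y_neg (R : Rel X Y) (s : F) : Y (-s) = (Y s)⁻¹ := by
  apply eq_inv_of_mul_eq_one_left
  rw [← R.Y_add, neg_add_cancel, R.Y_zero]

theorem nn_neg (R : Rel X Y) (t : F) : nn X Y (-t) = (nn X Y t)⁻¹ := by
  unfold nn
  rw [inv_neg, neg_neg, R.X_neg, mul_inv_rev, mul_inv_rev, ← R.Y_neg, neg_neg, mul_assoc]

theorem conj_X (R : Rel X Y) {t : F} (ht : t ≠ 0) (s : F) :
    nn X Y t * X s = Y (-(t⁻¹ ^ 2 * s)) * nn X Y t := by
  rw [← R.n_X t ht s]; group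

theorem n_Y (R : Rel X Y) {t : F} (ht : t ≠ 0) (s : F) :
    nn X Y t * Y s * (nn X Y t)⁻¹ = X (-(t ^ 2 * s)) := by
  have h := R.n_X (-t) (neg_ne_zero.mpr ht) (-(t ^ 2 * s))
  rw [R.nn_neg, inv_inv] at h
  have e : -((-t)⁻¹ ^ 2 * -(t ^ 2 * s)) = s := by
    field_simp
  rw [e] at h
  rw [← h]; group

theorem conj_Y (R : Rel X Y) {t : F} (ht : t ≠ 0) (s : F) :
    nn X Y t * Y s = X (-(t ^ 2 * s)) * nn X Y t := by
  rw [← R.n_Y ht s]; group

theorem hh_one (R : Rel X Y) : hh X Y 1 = 1 := by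
  unfold hh
  rw [R.nn_neg, mul_inv_cancel]

theorem nn_eq (R : Rel X Y) (t : F) : nn X Y t = hh X Y t * nn X Y 1 := by
  unfold hh
  rw [R.nn_neg]; group

theorem hh_inv (R : Rel X Y) {t : F} (ht : t ≠ 0) : (hh X Y t)⁻¹ = hh X Y t⁻¹ := by
  symm
  apply eq_inv_of_mul_eq_one_left
  rw [← R.h_mul _ _ (inv_ne_zero ht) ht, inv_mul_cancel₀ ht, R.hh_one]

theorem h_X (R : Rel X Y) {t : F} (ht : t ≠ 0) (s : F) :
    hh X Y t * X s = X (t ^ 2 * s) * hh X Y t := by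
  unfold hh
  have h1 : nn X Y (-1) * X s = Y (-s) * nn X Y (-1) := by
    rw [R.conj_X (neg_ne_zero.mpr one_ne_zero)]
    congr 2
    rw [inv_neg, inv_one, neg_sq, one_pow, one_mul]
  have h2 : nn X Y t * Y (-s) = X (t ^ 2 * s) * nn X Y t := by
    rw [R.conj_Y ht]
    congr 2
    ring
  rw [mul_assoc, h1, ← mul_assoc, h2, mul_assoc]

theorem h_Y (R : Rel X Y) {t : F} (ht : t ≠ 0) (s : F) :
    hh X Y t * Y s = Y (t⁻¹ ^ 2 * s) * hh X Y t := by
  unfold hh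
  have h1 : nn X Y (-1) * Y s = X (-s) * nn X Y (-1) := by
    rw [R.conj_Y (neg_ne_zero.mpr one_ne_zero)]
    congr 2
    rw [neg_sq, one_pow, one_mul]
  have h2 : nn X Y t * X (-s) = Y (t⁻¹ ^ 2 * s) * nn X Y t := by
    rw [R.conj_X ht]
    congr 2
    ring
  rw [mul_assoc, h1, ← mul_assoc, h2, mul_assoc]

/-- the other expression of `n(t)` -/
theorem nn_alt (R : Rel X Y) {t : F} (ht : t ≠ 0) :
    nn X Y t = Y (-t⁻¹) * X t * Y (-t⁻¹) := by
  have h := R.conj_X ht t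
  have e : -(t⁻¹ ^ 2 * t) = -t⁻¹ := by
    field_simp
  rw [e] at h
  -- `n = Y n X⁻¹`
  have h2 : nn X Y t = Y (-t⁻¹) * nn X Y t * (X t)⁻¹ := by rw [← h]; group
  conv_lhs => rw [h2]
  unfold nn
  group

theorem X_eq (R : Rel X Y) {b : F} (hb : b ≠ 0) :
    X b = Y b⁻¹ * nn X Y b * Y b⁻¹ := by
  rw [R.nn_alt hb, R.Y_neg]; group

theorem n1_conj_nn (R : Rel X Y) {t : F} (ht : t ≠ 0) :
    nn X Y 1 * nn X Y t = nn X Y t⁻¹ * nn X Y 1 := by
  have hX : ∀ s : F, nn X Y 1 * X s = Y (-s) * nn X Y 1 := by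
    intro s
    rw [R.conj_X one_ne_zero]
    congr 2
    rw [inv_one, one_pow, one_mul]
  have hY : ∀ s : F, nn X Y 1 * Y s = X (-s) * nn X Y 1 := by
    intro s
    rw [R.conj_Y one_ne_zero]
    congr 2
    rw [one_pow, one_mul]
  rw [R.nn_alt (inv_ne_zero ht), inv_inv]
  rw [show nn X Y t = X t * Y (-t⁻¹) * X t from rfl]
  rw [← mul_assoc, ← mul_assoc, hX, mul_assoc (Y (-t)), hY, neg_neg, mul_assoc (Y (-t)),
    mul_assoc (X t⁻¹), hX]
  group

theorem n1_conj_hh (R : Rel X Y) {t : F} (ht : t ≠ 0) :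
    nn X Y 1 * hh X Y t = hh X Y t⁻¹ * nn X Y 1 := by
  unfold hh
  rw [← mul_assoc, R.n1_conj_nn ht, R.nn_neg]
  group

theorem n_h (R : Rel X Y) {x t : F} (hx : x ≠ 0) (ht : t ≠ 0) :
    nn X Y x * hh X Y t = nn X Y (x * t⁻¹) := by
  rw [R.nn_eq x, mul_assoc, R.n1_conj_hh ht, ← mul_assoc, ← R.h_mul _ _ hx (inv_ne_zero ht),
    ← R.nn_eq]

theorem n1_sq (R : Rel X Y) : nn X Y 1 * nn X Y 1 = hh X Y (-1) := by
  have h1 : hh X Y (-1) * hh X Y (-1) = 1 := by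
    rw [← R.h_mul _ _ (neg_ne_zero.mpr one_ne_zero) (neg_ne_zero.mpr one_ne_zero), neg_mul_neg,
      one_mul, R.hh_one]
  have h2 : hh X Y (-1) = (nn X Y 1 * nn X Y 1)⁻¹ := by
    unfold hh
    rw [R.nn_neg, mul_inv_rev]
  have h3 : hh X Y (-1) = (hh X Y (-1))⁻¹ := eq_inv_of_mul_eq_one_left h1
  rw [h3, h2, inv_inv]

/-- the key computation in the big cell -/
theorem key (R : Rel X Y) {x b : F} (hx : x ≠ 0) (hb : b ≠ 0) :
    nn X Y x * X b * nn X Y 1 = X (-(x ^ 2 * b⁻¹)) * nn X Y (-(x * b⁻¹)) * X (-b⁻¹) := by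
  have h1 : Y b⁻¹ * nn X Y 1 = nn X Y 1 * X (-b⁻¹) := by
    have := R.conj_X one_ne_zero (-b⁻¹)
    rw [inv_one, one_pow, one_mul, neg_neg] at this
    exact this.symm
  have h2 : nn X Y b * nn X Y 1 = hh X Y (-b) := by
    rw [R.nn_eq b, mul_assoc, R.n1_sq, ← R.h_mul _ _ hb (neg_ne_zero.mpr one_ne_zero), mul_neg,
      mul_one]
  have h3 : nn X Y x * hh X Y (-b) = nn X Y (-(x * b⁻¹)) := by
    rw [R.n_h hx (neg_ne_zero.mpr hb), inv_neg, mul_neg]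
  rw [R.X_eq hb]
  calc nn X Y x * (Y b⁻¹ * nn X Y b * Y b⁻¹) * nn X Y 1
      = (nn X Y x * Y b⁻¹) * nn X Y b * (Y b⁻¹ * nn X Y 1) := by group
    _ = (X (-(x ^ 2 * b⁻¹)) * nn X Y x) * nn X Y b * (nn X Y 1 * X (-b⁻¹)) := by
        rw [R.conj_Y hx, h1]
    _ = X (-(x ^ 2 * b⁻¹)) * (nn X Y x * (nn X Y b * nn X Y 1)) * X (-b⁻¹) := by group
    _ = X (-(x ^ 2 * b⁻¹)) * nn X Y (-(x * b⁻¹)) * X (-b⁻¹) := by rw [h2, h3]

end Rel

/-! ### The generators of `SL₂(F)` -/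

/-- `[[1,s],[0,1]]` -/
def uu (s : F) : Matrix.SpecialLinearGroup (Fin 2) F :=
  ⟨!![1, s; 0, 1], by simp [Matrix.det_fin_two]⟩

/-- `[[1,0],[s,1]]` -/
def ll (s : F) : Matrix.SpecialLinearGroup (Fin 2) F :=
  ⟨!![1, 0; s, 1], by simp [Matrix.det_fin_two]⟩

/-- `[[0,1],[-1,0]]` -/
def w1 : Matrix.SpecialLinearGroup (Fin 2) F :=
  ⟨!![0, 1; -1, 0], by simp [Matrix.det_fin_two]⟩

/-- `[[t,0],[0,t⁻¹]]` -/
def dd (t : F) (ht : t ≠ 0) : Matrix.SpecialLinearGroup (Fin 2) F :=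
  ⟨!![t, 0; 0, t⁻¹], by simp [Matrix.det_fin_two, mul_inv_cancel₀ ht]⟩

theorem det_eq (g : Matrix.SpecialLinearGroup (Fin 2) F) : g 0 0 * g 1 1 - g 0 1 * g 1 0 = 1 := by
  have := g.det_coe
  rwa [Matrix.det_fin_two] at this

theorem mul_uu (g : Matrix.SpecialLinearGroup (Fin 2) F) (s : F) :
    (g * uu s) 0 0 = g 0 0 ∧ (g * uu s) 0 1 = g 0 0 * s + g 0 1 ∧
      (g * uu s) 1 0 = g 1 0 ∧ (g * uu s) 1 1 = g 1 0 * s + g 1 1 := by
  refine ⟨?_, ?_, ?_, ?_⟩ <;>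
    rw [Matrix.SpecialLinearGroup.coe_mul, Matrix.mul_apply, Fin.sum_univ_two] <;> simp [uu]

theorem mul_dd (g : Matrix.SpecialLinearGroup (Fin 2) F) (t : F) (ht : t ≠ 0) :
    (g * dd t ht) 0 0 = g 0 0 * t ∧ (g * dd t ht) 0 1 = g 0 1 * t⁻¹ ∧
      (g * dd t ht) 1 0 = g 1 0 * t ∧ (g * dd t ht) 1 1 = g 1 1 * t⁻¹ := by
  refine ⟨?_, ?_, ?_, ?_⟩ <;>
    rw [Matrix.SpecialLinearGroup.coe_mul, Matrix.mul_apply, Fin.sum_univ_two] <;> simp [dd]

theorem mul_w1 (g : Matrix.SpecialLinearGroup (Fin 2) F) :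
    (g * (w1 : Matrix.SpecialLinearGroup (Fin 2) F)) 0 0 = -g 0 1 ∧
      (g * (w1 : Matrix.SpecialLinearGroup (Fin 2) F)) 0 1 = g 0 0 ∧
      (g * (w1 : Matrix.SpecialLinearGroup (Fin 2) F)) 1 0 = -g 1 1 ∧
      (g * (w1 : Matrix.SpecialLinearGroup (Fin 2) F)) 1 1 = g 1 0 := by
  refine ⟨?_, ?_, ?_, ?_⟩ <;>
    rw [Matrix.SpecialLinearGroup.coe_mul, Matrix.mul_apply, Fin.sum_univ_two] <;> simp [w1]

/-! ### The map -/

/-- the map `SL₂(F) → T` defined through the Bruhat normal form -/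
noncomputable def toT (X Y : F → T) (g : Matrix.SpecialLinearGroup (Fin 2) F) : T :=
  open Classical in
  if g 1 0 = 0 then hh X Y (g 0 0) * X (g 0 1 / g 0 0)
  else X (g 0 0 / g 1 0) * nn X Y (-(g 1 0)⁻¹) * X (g 1 1 / g 1 0)

variable {X Y : F → T}

theorem toT_one (R : Rel X Y) : toT X Y (1 : Matrix.SpecialLinearGroup (Fin 2) F) = 1 := by
  unfold toT
  simp [R.hh_one, R.X_zero]

theorem toT_mul_uu (R : Rel X Y) (g : Matrix.SpecialLinearGroup (Fin 2) F) (s : F) :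
    toT X Y (g * uu s) = toT X Y g * X s := by
  obtain ⟨h00, h01, h10, h11⟩ := mul_uu g s
  have hdet := det_eq g
  unfold toT
  rw [h00, h01, h10, h11]
  by_cases hc : g 1 0 = 0
  · rw [if_pos hc, if_pos hc]
    have ha : g 0 0 ≠ 0 := by
      intro ha
      rw [ha, hc] at hdet
      simp at hdet
    have e : (g 0 0 * s + g 0 1) / g 0 0 = g 0 1 / g 0 0 + s := by
      field_simp
      ring
    rw [e, R.X_add, mul_assoc]
  · rw [if_neg hc, if_neg hc]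
    have e : (g 1 0 * s + g 1 1) / g 1 0 = g 1 1 / g 1 0 + s := by
      field_simp
      ring
    rw [e, R.X_add, mul_assoc, mul_assoc, mul_assoc]

theorem toT_mul_dd (R : Rel X Y) (g : Matrix.SpecialLinearGroup (Fin 2) F) (t : F) (ht : t ≠ 0) :
    toT X Y (g * dd t ht) = toT X Y g * hh X Y t := by
  obtain ⟨h00, h01, h10, h11⟩ := mul_dd g t ht
  have hdet := det_eq g
  unfold toT
  rw [h00, h01, h10, h11]
  by_cases hc : g 1 0 = 0
  · have hc' : g 1 0 * t = 0 := by rw [hc, zero_mul]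
    rw [if_pos hc, if_pos hc']
    have ha : g 0 0 ≠ 0 := by
      intro ha
      rw [ha, hc] at hdet
      simp at hdet
    rw [R.h_mul _ _ ha ht, mul_assoc, mul_assoc]
    congr 1
    have e : g 0 1 / g 0 0 = t ^ 2 * (g 0 1 * t⁻¹ / (g 0 0 * t)) := by
      field_simp
    rw [e, ← R.h_X ht]
  · have hc' : g 1 0 * t ≠ 0 := mul_ne_zero hc ht
    rw [if_neg hc, if_neg hc']
    have e1 : g 0 0 * t / (g 1 0 * t) = g 0 0 / g 1 0 := by
      field_simp
    have e2 : g 1 1 / g 1 0 = t ^ 2 * (g 1 1 * t⁻¹ / (g 1 0 * t)) := by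
      field_simp
    have e3 : -(g 1 0 * t)⁻¹ = -(g 1 0)⁻¹ * t⁻¹ := by
      field_simp
    rw [e1, e2, mul_assoc, mul_assoc, mul_assoc, ← R.h_X ht, ← mul_assoc (nn X Y _),
      R.n_h (neg_ne_zero.mpr (inv_ne_zero hc)) ht, e3]

theorem toT_mul_w1 (R : Rel X Y) (g : Matrix.SpecialLinearGroup (Fin 2) F) :
    toT X Y (g * w1) = toT X Y g * nn X Y 1 := by
  obtain ⟨h00, h01, h10, h11⟩ := mul_w1 g
  have hdet := det_eq g
  unfold toT
  rw [h00, h01, h10, h11]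
  by_cases hc : g 1 0 = 0
  · -- `g` upper triangular
    have ha : g 0 0 ≠ 0 := by
      intro ha
      rw [ha, hc] at hdet
      simp at hdet
    have hd : g 1 1 ≠ 0 := by
      intro hd
      rw [hd, hc] at hdet
      simp at hdet
    have hd' : -g 1 1 ≠ 0 := neg_ne_zero.mpr hd
    have had : g 0 0 * g 1 1 = 1 := by
      rw [hc, mul_zero, sub_zero] at hdet
      exact hdet
    rw [if_pos hc, if_neg hd', hc, zero_div, R.X_zero, mul_one]
    have e1 : -g 0 1 / -g 1 1 = g 0 0 ^ 2 * (g 0 1 / g 0 0) := by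
      field_simp
      linear_combination (-(g 0 1)) * had
    have e2 : -(-g 1 1)⁻¹ = g 0 0 := by
      rw [inv_neg, neg_neg]
      exact (eq_inv_of_mul_eq_one_left had).symm
    rw [e1, e2, R.h_X ha, mul_assoc, ← R.nn_eq]
  · by_cases hd : g 1 1 = 0
    · -- `g = u * n`
      have hd' : -g 1 1 = 0 := by rw [hd, neg_zero]
      have hbc : g 0 1 * g 1 0 = -1 := by
        rw [hd, mul_zero, zero_sub] at hdet
        linear_combination -hdet
      have hb : g 0 1 ≠ 0 := by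
        intro hb
        rw [hb, zero_mul] at hbc
        simp at hbc
      rw [if_neg hc, if_pos hd', hd, zero_div, R.X_zero, mul_one]
      have hcinv : (g 1 0)⁻¹ ≠ 0 := inv_ne_zero hc
      have e0 : -g 0 1 = (g 1 0)⁻¹ := by
        field_simp
        linear_combination -hbc
      have e1 : nn X Y (-(g 1 0)⁻¹) * nn X Y 1 = hh X Y (g 1 0)⁻¹ := by
        rw [R.nn_eq (-(g 1 0)⁻¹), mul_assoc, R.n1_sq,
          ← R.h_mul _ _ (neg_ne_zero.mpr hcinv) (neg_ne_zero.mpr one_ne_zero), neg_mul_neg, mul_one]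
      have e2 : g 0 0 / g 1 0 = (g 1 0)⁻¹ ^ 2 * (g 0 0 / (g 1 0)⁻¹) := by
        field_simp
      rw [mul_assoc, e1, e0, e2, ← R.h_X hcinv]
    · -- the big cell
      have hd' : -g 1 1 ≠ 0 := neg_ne_zero.mpr hd
      rw [if_neg hc, if_neg hd']
      have hx : -(g 1 0)⁻¹ ≠ 0 := neg_ne_zero.mpr (inv_ne_zero hc)
      have hb : g 1 1 / g 1 0 ≠ 0 := div_ne_zero hd hc
      have e1 : g 0 0 / g 1 0 + -((-(g 1 0)⁻¹) ^ 2 * (g 1 1 / g 1 0)⁻¹) = -g 0 1 / -g 1 1 := by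
        field_simp
        linear_combination hdet
      have e2 : -(-(g 1 0)⁻¹ * (g 1 1 / g 1 0)⁻¹) = -(-g 1 1)⁻¹ := by
        field_simp
      have e3 : -(g 1 1 / g 1 0)⁻¹ = g 1 0 / -g 1 1 := by
        field_simp
      symm
      calc X (g 0 0 / g 1 0) * nn X Y (-(g 1 0)⁻¹) * X (g 1 1 / g 1 0) * nn X Y 1
          = X (g 0 0 / g 1 0) * (nn X Y (-(g 1 0)⁻¹) * X (g 1 1 / g 1 0) * nn X Y 1) := by group
        _ = X (g 0 0 / g 1 0) * (X (-((-(g 1 0)⁻¹) ^ 2 * (g 1 1 / g 1 0)⁻¹)) *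
              nn X Y (-(-(g 1 0)⁻¹ * (g 1 1 / g 1 0)⁻¹)) * X (-(g 1 1 / g 1 0)⁻¹)) := by
            rw [R.key hx hb]
        _ = X (g 0 0 / g 1 0 + -((-(g 1 0)⁻¹) ^ 2 * (g 1 1 / g 1 0)⁻¹)) *
              nn X Y (-(-(g 1 0)⁻¹ * (g 1 1 / g 1 0)⁻¹)) * X (-(g 1 1 / g 1 0)⁻¹) := by
            rw [R.X_add]; group
        _ = X (-g 0 1 / -g 1 1) * nn X Y (-(-g 1 1)⁻¹) * X (g 1 0 / -g 1 1) := by
            rw [e1, e2, e3]

/-! ### Generation and multiplicativity -/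

/-- the generators -/
def gens (F : Type*) [Field F] : Set (Matrix.SpecialLinearGroup (Fin 2) F) :=
  {g | (∃ s, g = uu s) ∨ (∃ t, ∃ ht : t ≠ 0, g = dd t ht) ∨ g = w1}

theorem ext4 (g g' : Matrix.SpecialLinearGroup (Fin 2) F) (h00 : g 0 0 = g' 0 0)
    (h01 : g 0 1 = g' 0 1) (h10 : g 1 0 = g' 1 0) (h11 : g 1 1 = g' 1 1) : g = g' := by
  ext i j
  fin_cases i <;> fin_cases j
  · exact h00
  · exact h01
  · exact h10
  · exact h11

theorem uu_apply (s : F) : (uu s) 0 0 = 1 ∧ (uu s) 0 1 = s ∧ (uu s) 1 0 = 0 ∧ (uu s) 1 1 = 1 := by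
  simp [uu]

theorem dd_apply (t : F) (ht : t ≠ 0) :
    (dd t ht) 0 0 = t ∧ (dd t ht) 0 1 = 0 ∧ (dd t ht) 1 0 = 0 ∧ (dd t ht) 1 1 = t⁻¹ := by
  simp [dd]

theorem mem_closure_gens (g : Matrix.SpecialLinearGroup (Fin 2) F) :
    g ∈ Submonoid.closure (gens F) := by
  have hdet := det_eq g
  have hu : ∀ s : F, uu s ∈ Submonoid.closure (gens F) :=
    fun s => Submonoid.subset_closure (Or.inl ⟨s, rfl⟩)
  have hd : ∀ (t : F) (ht : t ≠ 0), dd t ht ∈ Submonoid.closure (gens F) :=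
    fun t ht => Submonoid.subset_closure (Or.inr (Or.inl ⟨t, ht, rfl⟩))
  have hw : (w1 : Matrix.SpecialLinearGroup (Fin 2) F) ∈ Submonoid.closure (gens F) :=
    Submonoid.subset_closure (Or.inr (Or.inr rfl))
  by_cases hc : g 1 0 = 0
  · have ha : g 0 0 ≠ 0 := by
      intro ha
      rw [ha, hc] at hdet
      simp at hdet
    have had : g 0 0 * g 1 1 = 1 := by
      rw [hc, mul_zero, sub_zero] at hdet
      exact hdet
    have e : g = dd (g 0 0) ha * uu (g 0 1 / g 0 0) := by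
      obtain ⟨m00, m01, m10, m11⟩ := mul_uu (dd (g 0 0) ha) (g 0 1 / g 0 0)
      obtain ⟨d00, d01, d10, d11⟩ := dd_apply (g 0 0) ha
      apply ext4
      · rw [m00, d00]
      · rw [m01, d00, d01, add_zero]
        field_simp
      · rw [m10, d10, hc]
      · rw [m11, d10, d11, zero_mul, zero_add]
        exact eq_inv_of_mul_eq_one_right had
    rw [e]
    exact Submonoid.mul_mem _ (hd _ ha) (hu _)
  · have hc' : -(g 1 0)⁻¹ ≠ 0 := neg_ne_zero.mpr (inv_ne_zero hc)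
    have e : g = uu (g 0 0 / g 1 0) * dd (-(g 1 0)⁻¹) hc' * w1 * uu (g 1 1 / g 1 0) := by
      obtain ⟨m00, m01, m10, m11⟩ :=
        mul_uu (uu (g 0 0 / g 1 0) * dd (-(g 1 0)⁻¹) hc' * w1) (g 1 1 / g 1 0)
      obtain ⟨w00, w01, w10, w11⟩ := mul_w1 (uu (g 0 0 / g 1 0) * dd (-(g 1 0)⁻¹) hc')
      obtain ⟨k00, k01, k10, k11⟩ := mul_dd (uu (g 0 0 / g 1 0)) (-(g 1 0)⁻¹) hc'
      obtain ⟨u00, u01, u10, u11⟩ := uu_apply (g 0 0 / g 1 0)
      apply ext4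
      · rw [m00, w00, k01, u01]
        field_simp
      · rw [m01, w00, w01, k01, k00, u01, u00]
        field_simp
        linear_combination -hdet
      · rw [m10, w10, k11, u11]
        field_simp
      · rw [m11, w10, w11, k11, k10, u11, u10, zero_mul, add_zero]
        field_simp
    rw [e]
    exact Submonoid.mul_mem _ (Submonoid.mul_mem _ (Submonoid.mul_mem _ (hu _) (hd _ hc')) hw) (hu _)

theorem toT_mul (R : Rel X Y) (g g' : Matrix.SpecialLinearGroup (Fin 2) F) :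
    toT X Y (g * g') = toT X Y g * toT X Y g' := by
  have key : ∀ g' ∈ Submonoid.closure (gens F),
      ∀ g : Matrix.SpecialLinearGroup (Fin 2) F, toT X Y (g * g') = toT X Y g * toT X Y g' := by
    intro g' hg'
    induction hg' using Submonoid.closure_induction with
    | mem x hx =>
      intro g
      rcases hx with ⟨s, rfl⟩ | ⟨t, ht, rfl⟩ | rfl
      · have h1 := toT_mul_uu R 1 s
        rw [one_mul, toT_one R, one_mul] at h1
        rw [toT_mul_uu R, h1]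
      · have h1 := toT_mul_dd R 1 t ht
        rw [one_mul, toT_one R, one_mul] at h1
        rw [toT_mul_dd R, h1]
      · have h1 := toT_mul_w1 R 1
        rw [one_mul, toT_one R, one_mul] at h1
        rw [toT_mul_w1 R, h1]
    | one =>
      intro g
      rw [mul_one, toT_one R, mul_one]
    | mul x y _ _ hx hy =>
      intro g
      rw [← mul_assoc, hy, hx, hy x, mul_assoc]
  exact key g' (mem_closure_gens g') g

theorem toT_uu (R : Rel X Y) (s : F) : toT X Y (uu s) = X s := by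
  have h1 := toT_mul_uu R 1 s
  rw [one_mul, toT_one R, one_mul] at h1
  exact h1

theorem toT_ll (R : Rel X Y) (s : F) : toT X Y (ll s) = Y s := by
  have e : (ll s) 0 0 = 1 ∧ (ll s) 0 1 = 0 ∧ (ll s) 1 0 = s ∧ (ll s) 1 1 = 1 := by
    simp [ll]
  obtain ⟨e00, e01, e10, e11⟩ := e
  unfold toT
  rw [e00, e01, e10, e11]
  by_cases hs : s = 0
  · rw [if_pos hs, R.hh_one, zero_div, R.X_zero, mul_one, hs, R.Y_zero]
  · rw [if_neg hs]
    unfold nn
    rw [inv_neg, neg_neg, inv_inv, one_div, R.X_neg]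
    group

theorem toT_mem (X Y : F → T) (g : Matrix.SpecialLinearGroup (Fin 2) F) :
    toT X Y g ∈ Subgroup.closure (Set.range X ∪ Set.range Y) := by
  have hX : ∀ s, X s ∈ Subgroup.closure (Set.range X ∪ Set.range Y) :=
    fun s => Subgroup.subset_closure (Or.inl ⟨s, rfl⟩)
  have hY : ∀ s, Y s ∈ Subgroup.closure (Set.range X ∪ Set.range Y) :=
    fun s => Subgroup.subset_closure (Or.inr ⟨s, rfl⟩)
  have hn : ∀ s, nn X Y s ∈ Subgroup.closure (Set.range X ∪ Set.range Y) :=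
    fun s => Subgroup.mul_mem _ (Subgroup.mul_mem _ (hX _) (hY _)) (hX _)
  unfold toT
  split_ifs
  · exact Subgroup.mul_mem _ (Subgroup.mul_mem _ (hn _) (hn _)) (hX _)
  · exact Subgroup.mul_mem _ (Subgroup.mul_mem _ (hX _) (hn _)) (hX _)

/-- the homomorphism `SL₂(F) → T` given by the rank-one relations -/
theorem exists_hom (R : Rel X Y) :
    ∃ φ : Matrix.SpecialLinearGroup (Fin 2) F →* T,
      (∀ t : F, φ (uu t) = X t) ∧ (∀ t : F, φ (ll t) = Y t) ∧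
        ∀ g, φ g ∈ Subgroup.closure (Set.range X ∪ Set.range Y) :=
  ⟨MonoidHom.mk' (toT X Y) (toT_mul R), toT_uu R, toT_ll R, toT_mem X Y⟩

theorem eq_uu (g : Matrix.SpecialLinearGroup (Fin 2) F) (t : F)
    (h : (g : Matrix (Fin 2) (Fin 2) F) = !![1, t; 0, 1]) : g = uu t :=
  Subtype.ext h

theorem eq_ll (g : Matrix.SpecialLinearGroup (Fin 2) F) (t : F)
    (h : (g : Matrix (Fin 2) (Fin 2) F) = !![1, 0; t, 1]) : g = ll t :=
  Subtype.ext h

end Cfsg.Agent.Lib.Helper37.SL2
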