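import Cfsg.Agent.Lib.Helper37.G2CentMain

/-!
# Centralisers of products of commuting root elements: the generic part (S2179)

Words of pairwise commuting root elements, their ordered form, the normal form of the elements of a subgroup
`Q = ∏_{k ∈ Ψ} X_k` generated by pairwise commuting root subgroups, and the argument on the cells `P_J n_m B`:
an element of `G` centralising `t ∈ Q` lies in `P_J`, provided that for every representative `n_m ≠ 1` some root
of the support of `t` is not the image under `n_m` of a root of `Ψ`.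
-/

set_option autoImplicit false
set_option linter.unusedSimpArgs false
set_option linter.unusedVariables false
set_option linter.unusedSectionVars false

namespace Cfsg.Agent.Lib.Helper37.CellCent

open Cfsg.Lie Matrix
open Cfsg.Agent.Lib.Helper24
open Cfsg.Agent.Lib.Helper37.G2Cent

section words

variable {F : Type*} [Field F] {D : ChevalleyDatum}

/-- the root elements of the word commute pairwise -/
def WComm (hF : Facts D) (l : List (ℕ × F)) : Prop :=
  ∀ p ∈ l, ∀ q ∈ l, Commute (hF.xGL p.1 p.2) (hF.xGL q.1 q.2)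

theorem WComm.tail {hF : Facts D} {p : ℕ × F} {l : List (ℕ × F)} (h : WComm hF (p :: l)) :
    WComm hF l :=
  fun a ha b hb => h a (List.mem_cons_of_mem _ ha) b (List.mem_cons_of_mem _ hb)

theorem WComm.sublist {hF : Facts D} {l l' : List (ℕ × F)} (h : WComm hF l)
    (hs : ∀ p ∈ l', p ∈ l) : WComm hF l' :=
  fun a ha b hb => h a (hs a ha) b (hs b hb)

theorem wordGL_nil' (hF : Facts D) : hF.wordGL ([] : List (ℕ × F)) = 1 := by
  simp [Facts.wordGL]

theorem commute_wordGL (hF : Facts D) (a : GL D.Idx F) (l : List (ℕ × F))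
    (h : ∀ q ∈ l, Commute a (hF.xGL q.1 q.2)) : Commute a (hF.wordGL l) := by
  induction l with
  | nil => rw [wordGL_nil']; exact Commute.one_right a
  | cons q l ih =>
    rw [hF.wordGL_cons]
    exact (h q List.mem_cons_self).mul_right (ih fun q' hq' => h q' (List.mem_cons_of_mem _ hq'))

/-- the total coefficient of the root `r` in a word -/
def coef : List (ℕ × F) → ℕ → F
  | [], _ => 0
  | p :: l, r => (if p.1 = r then p.2 else 0) + coef l r

theorem coef_eq_zero (l : List (ℕ × F)) (r : ℕ) (h : ∀ p ∈ l, p.1 ≠ r) : coef l r = 0 := by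
  induction l with
  | nil => rfl
  | cons p l ih =>
    simp only [coef]
    rw [if_neg (h p List.mem_cons_self), zero_add]
    exact ih fun q hq => h q (List.mem_cons_of_mem _ hq)

theorem coef_map_self (Ψ : List ℕ) (hnd : Ψ.Nodup) (e : ℕ → F) (ρ : ℕ) (hρ : ρ ∈ Ψ) :
    coef (Ψ.map fun k => (k, e k)) ρ = e ρ := by
  induction Ψ with
  | nil => exact absurd hρ List.not_mem_nil
  | cons b Ψ ih =>
    obtain ⟨hb, hnd'⟩ := List.nodup_cons.mp hnd
    simp only [List.map_cons, coef]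
    by_cases hbρ : b = ρ
    · subst hbρ
      rw [if_pos rfl, coef_eq_zero, add_zero]
      intro p hp
      rw [List.mem_map] at hp
      obtain ⟨k, hk, rfl⟩ := hp
      rintro rfl
      exact hb hk
    · rw [if_neg hbρ, zero_add]
      exact ih hnd' ((List.mem_cons.mp hρ).resolve_left (fun h => hbρ h.symm))

theorem commute_xGL_coef (hF : Facts D) (a : GL D.Idx F) (l : List (ℕ × F)) (s : ℕ)
    (h : ∀ q ∈ l, Commute a (hF.xGL q.1 q.2)) : Commute a (hF.xGL s (coef l s)) := by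
  induction l with
  | nil =>
    simp only [coef]
    rw [hF.xGL_zero]
    exact Commute.one_right a
  | cons q l ih =>
    simp only [coef]
    rw [← hF.xGL_mul]
    refine Commute.mul_right ?_ (ih fun q' hq' => h q' (List.mem_cons_of_mem _ hq'))
    by_cases hq : q.1 = s
    · rw [if_pos hq, ← hq]
      exact h q List.mem_cons_self
    · rw [if_neg hq, hF.xGL_zero]
      exact Commute.one_right a

theorem ordProd_zero (hF : Facts D) (L : List ℕ) (t : ℕ → F) (h : ∀ r ∈ L, t r = 0) :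
    hF.ordProd L t = 1 := by
  induction L with
  | nil => exact hF.ordProd_nil t
  | cons b L ih =>
    rw [hF.ordProd_cons, h b List.mem_cons_self, hF.xGL_zero, one_mul]
    exact ih fun r hr => h r (List.mem_cons_of_mem _ hr)

/-- inserting a root element, which commutes with the earlier factors, into an ordered product -/
theorem ordProd_insert (hF : Facts D) (L : List ℕ) (hs : L.Pairwise (· < ·)) (r : ℕ) (hr : r ∈ L)
    (a : F) (t : ℕ → F) (hc : ∀ s ∈ L, s < r → Commute (hF.xGL r a) (hF.xGL s (t s))) :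
    hF.ordProd L (fun s => (if r = s then a else 0) + t s) = hF.xGL r a * hF.ordProd L t := by
  induction L with
  | nil => exact absurd hr List.not_mem_nil
  | cons b L ih =>
    obtain ⟨hb, hs'⟩ := List.pairwise_cons.mp hs
    rw [hF.ordProd_cons, hF.ordProd_cons]
    by_cases hbr : r = b
    · subst hbr
      have e : hF.ordProd L (fun s => (if r = s then a else 0) + t s) = hF.ordProd L t := by
        apply hF.ordProd_congr
        intro s hsL
        have : r < s := hb s hsL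
        rw [if_neg (by omega), zero_add]
      rw [e, if_pos rfl, ← hF.xGL_mul, mul_assoc]
    · have hrL : r ∈ L := (List.mem_cons.mp hr).resolve_left hbr
      have hbr' : b < r := hb r hrL
      rw [if_neg hbr, zero_add,
        ih hs' hrL (fun s hsL hsr => hc s (List.mem_cons_of_mem _ hsL) hsr)]
      have hcm := hc b List.mem_cons_self hbr'
      rw [← mul_assoc, ← hcm.eq, mul_assoc]

/-- a word of pairwise commuting root elements, in its ordered form -/
theorem wordGL_eq_ordProd (hF : Facts D) (L : List ℕ) (hs : L.Pairwise (· < ·))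
    (l : List (ℕ × F)) (hl : ∀ p ∈ l, p.1 ∈ L) (hc : WComm hF l) :
    hF.wordGL l = hF.ordProd L (coef l) := by
  induction l with
  | nil =>
    rw [wordGL_nil', ordProd_zero]
    intro r _
    rfl
  | cons p l ih =>
    rw [hF.wordGL_cons, ih (fun q hq => hl q (List.mem_cons_of_mem _ hq)) hc.tail]
    have hins := ordProd_insert hF L hs p.1 (hl p List.mem_cons_self) p.2 (coef l)
      (fun s _ _ => commute_xGL_coef hF _ l s
        (fun q hq => hc p List.mem_cons_self q (List.mem_cons_of_mem _ hq)))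
    rw [← hins]
    rfl

/-- splitting a word of pairwise commuting root elements along a predicate on the roots -/
theorem wordGL_filter_mul (hF : Facts D) (P : ℕ → Prop) [DecidablePred P] (l : List (ℕ × F))
    (hc : WComm hF l) :
    hF.wordGL l = hF.wordGL (l.filter fun p => decide (P p.1)) *
      hF.wordGL (l.filter fun p => decide (¬ P p.1)) := by
  induction l with
  | nil => simp [wordGL_nil']
  | cons p l ih =>
    rw [hF.wordGL_cons, ih hc.tail]
    by_cases hP : P p.1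
    · rw [List.filter_cons_of_pos (by simpa using hP), List.filter_cons_of_neg (by simpa using hP),
        hF.wordGL_cons, mul_assoc]
    · rw [List.filter_cons_of_neg (by simpa using hP), List.filter_cons_of_pos (by simpa using hP),
        hF.wordGL_cons]
      have hcm : Commute (hF.xGL p.1 p.2) (hF.wordGL (l.filter fun p => decide (P p.1))) := by
        apply commute_wordGL
        intro q hq
        exact hc p List.mem_cons_self q (List.mem_cons_of_mem _ (List.mem_filter.mp hq).1)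
      rw [← mul_assoc, hcm.eq, mul_assoc]

/-- the conjugate of a word by an element permuting the root subgroups -/
theorem conj_wordGL (hF : Facts D) (n : GL D.Idx F) (π : ℕ → ℕ) (l : List (ℕ × F))
    (h : ∀ p ∈ l, ∃ η : F, ∀ t : F, n * hF.xGL p.1 t * n⁻¹ = hF.xGL (π p.1) (η * t))
    (hc : WComm hF l) :
    ∃ l' : List (ℕ × F), (∀ q ∈ l', ∃ p ∈ l, q.1 = π p.1) ∧ WComm hF l' ∧
      (∀ q ∈ l', ∃ p ∈ l, hF.xGL q.1 q.2 = n * hF.xGL p.1 p.2 * n⁻¹) ∧
      n * hF.wordGL l * n⁻¹ = hF.wordGL l' := by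
  induction l with
  | nil =>
    refine ⟨[], fun q hq => absurd hq List.not_mem_nil, fun a ha => absurd ha List.not_mem_nil,
      fun q hq => absurd hq List.not_mem_nil, ?_⟩
    rw [wordGL_nil']
    group
  | cons p l ih =>
    obtain ⟨l', h1, _, h3, h4⟩ := ih (fun q hq => h q (List.mem_cons_of_mem _ hq)) hc.tail
    obtain ⟨η, hη⟩ := h p List.mem_cons_self
    have h3' : ∀ q ∈ (π p.1, η * p.2) :: l', ∃ p' ∈ p :: l,
        hF.xGL q.1 q.2 = n * hF.xGL p'.1 p'.2 * n⁻¹ := by
      intro q hq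
      rcases List.mem_cons.mp hq with rfl | hq
      · exact ⟨p, List.mem_cons_self, (hη p.2).symm⟩
      · obtain ⟨p', hp', e⟩ := h3 q hq
        exact ⟨p', List.mem_cons_of_mem _ hp', e⟩
    refine ⟨(π p.1, η * p.2) :: l', ?_, ?_, h3', ?_⟩
    · intro q hq
      rcases List.mem_cons.mp hq with rfl | hq
      · exact ⟨p, List.mem_cons_self, rfl⟩
      · obtain ⟨p', hp', e⟩ := h1 q hq
        exact ⟨p', List.mem_cons_of_mem _ hp', e⟩
    · intro a ha b hb
      obtain ⟨pa, hpa, ea⟩ := h3' a ha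
      obtain ⟨pb, hpb, eb⟩ := h3' b hb
      rw [ea, eb]
      have := hc pa hpa pb hpb
      show (n * hF.xGL pa.1 pa.2 * n⁻¹) * (n * hF.xGL pb.1 pb.2 * n⁻¹) =
        (n * hF.xGL pb.1 pb.2 * n⁻¹) * (n * hF.xGL pa.1 pa.2 * n⁻¹)
      have e1 : (n * hF.xGL pa.1 pa.2 * n⁻¹) * (n * hF.xGL pb.1 pb.2 * n⁻¹) =
          n * (hF.xGL pa.1 pa.2 * hF.xGL pb.1 pb.2) * n⁻¹ := by group
      have e2 : (n * hF.xGL pb.1 pb.2 * n⁻¹) * (n * hF.xGL pa.1 pa.2 * n⁻¹) =
          n * (hF.xGL pb.1 pb.2 * hF.xGL pa.1 pa.2) * n⁻¹ := by group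
      rw [e1, e2, this.eq]
    · rw [hF.wordGL_cons, hF.wordGL_cons, ← h4, ← hη p.2]
      group

theorem wordGL_inv (hF : Facts D) (l : List (ℕ × F)) :
    (hF.wordGL l)⁻¹ = hF.wordGL (l.reverse.map fun p => (p.1, -p.2)) := by
  induction l with
  | nil => simp [wordGL_nil']
  | cons p l ih =>
    rw [hF.wordGL_cons, _root_.mul_inv_rev, ih, List.reverse_cons, List.map_append, hF.wordGL_append',
      hF.xGL_inv]
    simp [Facts.wordGL]

/-- the elements of a subgroup generated by root subgroups are words -/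
theorem exists_word_of_mem_rootClosure (hF : Facts D) (R : ℕ → Prop) (g : GL D.Idx F)
    (hg : g ∈ rootClosure D F R) : ∃ l : List (ℕ × F), (∀ p ∈ l, R p.1) ∧ g = hF.wordGL l := by
  unfold rootClosure at hg
  induction hg using Subgroup.closure_induction with
  | mem x hx =>
    obtain ⟨s, u, hs, hxe⟩ := hx
    refine ⟨[(s, u)], ?_, ?_⟩
    · intro p hp
      rw [List.mem_singleton] at hp
      rw [hp]
      exact hs
    · rw [hF.eq_xGL x s u hxe]
      simp [Facts.wordGL]
  | one => exact ⟨[], fun p hp => absurd hp List.not_mem_nil, (wordGL_nil' hF).symm⟩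
  | mul x y _ _ hx hy =>
    obtain ⟨l₁, h₁, rfl⟩ := hx
    obtain ⟨l₂, h₂, rfl⟩ := hy
    refine ⟨l₁ ++ l₂, ?_, (hF.wordGL_append' l₁ l₂).symm⟩
    intro p hp
    rcases List.mem_append.mp hp with h | h
    · exact h₁ p h
    · exact h₂ p h
  | inv x _ hx =>
    obtain ⟨l, h, rfl⟩ := hx
    refine ⟨l.reverse.map fun p => (p.1, -p.2), ?_, wordGL_inv hF l⟩
    intro p hp
    rw [List.mem_map] at hp
    obtain ⟨q, hq, rfl⟩ := hp
    exact h q (List.mem_reverse.mp hq)

end words

section setup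

variable {F : Type*} [Field F] {D : ChevalleyDatum} {tab : List ℕ} {orb : List (ℕ × ℕ × ℕ)}

/-- the hypotheses on the subgroup `Q = ∏_{k ∈ Ψ} X_k`, the support `T` and the parabolic subgroup `Pt` -/
structure Setup (E : Env D F tab orb) (Ψ T : List ℕ) (Pt : Subgroup (GL D.Idx F)) : Prop where
  sorted : Ψ.Pairwise (· < ·)
  pos : ∀ k ∈ Ψ, D.IsPosRoot k
  TΨ : ∀ ρ ∈ T, ρ ∈ Ψ
  comm : ∀ k ∈ Ψ, ∀ k' ∈ Ψ, ∀ t u : F, Commute (E.hF.xGL k t) (E.hF.xGL k' u)
  normQ : Pt ≤ Subgroup.normalizer (rootClosure D F (· ∈ Ψ) : Set (GL D.Idx F))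
  normQρ : ∀ ρ ∈ T, Pt ≤ Subgroup.normalizer (rootClosure D F (· ∈ Ψ.erase ρ) : Set (GL D.Idx F))

variable {E : Env D F tab orb} {Ψ T : List ℕ} {Pt : Subgroup (GL D.Idx F)}

theorem Setup.nodup (S : Setup E Ψ T Pt) : Ψ.Nodup :=
  S.sorted.imp (fun h => ne_of_lt h)

theorem Setup.wcomm (S : Setup E Ψ T Pt) (l : List (ℕ × F)) (hl : ∀ p ∈ l, p.1 ∈ Ψ) :
    WComm E.hF l :=
  fun a ha b hb => S.comm a.1 (hl a ha) b.1 (hl b hb) a.2 b.2

theorem Setup.mem_Q_form (S : Setup E Ψ T Pt) (g : GL D.Idx F)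
    (hg : g ∈ rootClosure D F (· ∈ Ψ)) : ∃ a : ℕ → F, g = E.hF.ordProd Ψ a := by
  obtain ⟨l, hl, rfl⟩ := exists_word_of_mem_rootClosure E.hF _ g hg
  exact ⟨coef l, wordGL_eq_ordProd E.hF Ψ S.sorted l hl (S.wcomm l hl)⟩

theorem Setup.mem_Qρ_form (S : Setup E Ψ T Pt) (ρ : ℕ) (g : GL D.Idx F)
    (hg : g ∈ rootClosure D F (· ∈ Ψ.erase ρ)) :
    ∃ a : ℕ → F, a ρ = 0 ∧ g = E.hF.ordProd Ψ a := by
  obtain ⟨l, hl, rfl⟩ := exists_word_of_mem_rootClosure E.hF _ g hg
  have hl' : ∀ p ∈ l, p.1 ∈ Ψ := fun p hp => List.mem_of_mem_erase (hl p hp)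
  refine ⟨coef l, ?_, wordGL_eq_ordProd E.hF Ψ S.sorted l hl' (S.wcomm l hl')⟩
  apply coef_eq_zero
  intro p hp
  exact ((S.nodup.mem_erase_iff).mp (hl p hp)).1

theorem ordProd_mem_of (hF : Facts D) (R : ℕ → Prop) (L : List ℕ) (a : ℕ → F)
    (h : ∀ k ∈ L, a k = 0 ∨ R k) : hF.ordProd L a ∈ rootClosure D F R := by
  induction L with
  | nil => rw [hF.ordProd_nil]; exact Subgroup.one_mem _
  | cons b L ih =>
    rw [hF.ordProd_cons]
    apply Subgroup.mul_mem _ _ (ih fun k hk => h k (List.mem_cons_of_mem _ hk))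
    rcases h b List.mem_cons_self with h0 | hR
    · rw [h0, hF.xGL_zero]; exact Subgroup.one_mem _
    · exact hF.xGL_mem_rootClosure R b hR _

/-- uniqueness of the ordered form in `Q` -/
theorem Setup.inj (S : Setup E Ψ T Pt) (a a' : ℕ → F)
    (h : E.hF.ordProd Ψ a = E.hF.ordProd Ψ a') : ∀ k ∈ Ψ, a k = a' k := by
  obtain ⟨Λ, hΛ⟩ := E.hU.grade
  obtain ⟨hg0, hmono⟩ := gradeOK_spec D E.hF.cartanF Λ E.hU.half hΛ
  exact E.hF.ordProd_inj E.hU.negNe E.hU.unit Λ hg0 hmono Ψ S.sorted S.pos a a' h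

/-- the conjugates under `Pt` of an element of `Q` with non-zero coefficients on `T` -/
theorem Setup.conj_form (S : Setup E Ψ T Pt) (t₀ : ℕ → F) (ht₀ : ∀ ρ ∈ T, t₀ ρ ≠ 0)
    (p : GL D.Idx F) (hp : p ∈ Pt) :
    ∃ a : ℕ → F, p * E.hF.ordProd Ψ t₀ * p⁻¹ = E.hF.ordProd Ψ a ∧ ∀ ρ ∈ T, a ρ ≠ 0 := by
  have ht : E.hF.ordProd Ψ t₀ ∈ rootClosure D F (· ∈ Ψ) :=
    ordProd_mem_of E.hF _ Ψ t₀ (fun k hk => Or.inr hk)
  have h1 := conj_mem_of_mem_normalizer _ p _ (S.normQ hp) ht
  obtain ⟨a, e⟩ := S.mem_Q_form _ h1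
  refine ⟨a, e, ?_⟩
  intro ρ hρ h0
  have h2 : p * E.hF.ordProd Ψ t₀ * p⁻¹ ∈ rootClosure D F (· ∈ Ψ.erase ρ) := by
    rw [e]
    apply ordProd_mem_of
    intro k hk
    by_cases hkρ : k = ρ
    · left; rw [hkρ]; exact h0
    · right; exact (S.nodup.mem_erase_iff).mpr ⟨hkρ, hk⟩
  have h3 := (conj_mem_iff_of_mem_normalizer _ p _ (S.normQρ ρ hρ hp)).mp h2
  obtain ⟨b, hb0, hb⟩ := S.mem_Qρ_form ρ _ h3
  have := S.inj t₀ b hb ρ (S.TΨ ρ hρ)
  rw [hb0] at this
  exact ht₀ ρ hρ this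

/-- an element of `G` centralising an element of `Q` with non-zero coefficients on `T` lies in `Pt` -/
theorem Setup.cent_le (S : Setup E Ψ T Pt) {J K Par Pm : List ℕ} {N : ℕ}
    (hSt : StepFacts D J K Par N)
    (htab : ∀ m < N, ∀ s < D.nroots, wq (Pm.getD m 0) s = rhoW D (wordAt Par m) s)
    (hK : ∀ i < D.rank, i ∈ K) (hJP : PL D F J ≤ Pt) (hUP : D.posUnipotent F ≤ Pt)
    (hcond : ∀ m < N, m ≠ 0 → ∃ ρ ∈ T, ∀ k ∈ Ψ, wq (Pm.getD m 0) k ≠ ρ)
    (t₀ : ℕ → F) (ht₀ : ∀ ρ ∈ T, t₀ ρ ≠ 0) (g : GL D.Idx F) (hgG : g ∈ D.group F)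
    (hgC : g * E.hF.ordProd Ψ t₀ = E.hF.ordProd Ψ t₀ * g) : g ∈ Pt := by
  have hgK : g ∈ PL D F K := by
    rw [E.PL_all K hK]
    exact hgG
  obtain ⟨m, hm, p, hp, u, hu, rfl⟩ := E.cells_cover' hSt g hgK
  have hpP := hJP hp
  have huU : u ∈ D.posUnipotent F := rootClosure_pos_le _ _ _ (fun r hr => hr.1) hu
  have huP := hUP huU
  by_cases hm0 : m = 0
  · subst hm0
    rw [wordAt_zero]
    have e : E.hF.nW (F := F) [] = 1 := by simp [Facts.nW]
    rw [e, mul_one]
    exact Subgroup.mul_mem _ hpP huP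
  · exfalso
    obtain ⟨e₁, he₁, hne₁⟩ := S.conj_form t₀ ht₀ p⁻¹ (Subgroup.inv_mem _ hpP)
    obtain ⟨e₂, he₂, _⟩ := S.conj_form t₀ ht₀ u huP
    rw [inv_inv] at he₁
    have hw := E.word_lt hSt m hm
    set n := E.hF.nW (F := F) (wordAt Par m) with hndef
    set t := E.hF.ordProd Ψ t₀ with htdef
    have key : n * (u * t * u⁻¹) * n⁻¹ = p⁻¹ * t * p := by
      calc n * (u * t * u⁻¹) * n⁻¹
          = p⁻¹ * (p * n * u * t) * (p * n * u)⁻¹ * p := by group
        _ = p⁻¹ * (t * (p * n * u)) * (p * n * u)⁻¹ * p := by rw [hgC]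
        _ = _ := by group
    rw [he₁, he₂] at key
    -- the conjugate of the word by `n`
    have hΨlt : ∀ k ∈ Ψ, k < D.nroots := fun k hk => (S.pos k hk).1
    let l₂ : List (ℕ × F) := Ψ.map fun k => (k, e₂ k)
    have hl₂ : ∀ p ∈ l₂, p.1 ∈ Ψ := by
      intro p hp
      obtain ⟨k, hk, rfl⟩ := List.mem_map.mp hp
      exact hk
    have hconj : ∀ p ∈ l₂, ∃ η : F, ∀ t : F,
        n * E.hF.xGL p.1 t * n⁻¹ = E.hF.xGL (rhoW D (wordAt Par m) p.1) (η * t) := by
      intro p hp
      obtain ⟨η, _, e⟩ := E.hF.nW_conj (F := F) E.hN _ hw p.1 (hΨlt _ (hl₂ p hp))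
      exact ⟨(η : F), e⟩
    obtain ⟨l', hl'1, hl'c, _, hl'e⟩ := conj_wordGL E.hF n (rhoW D (wordAt Par m)) l₂ hconj
      (S.wcomm l₂ hl₂)
    have hord₂ : E.hF.ordProd Ψ e₂ = E.hF.wordGL l₂ := rfl
    rw [hord₂, hl'e] at key
    -- the roots of `l'`
    have hl'lt : ∀ q ∈ l', q.1 < D.nroots := by
      intro q hq
      obtain ⟨p, hp, e⟩ := hl'1 q hq
      rw [e]
      exact E.hN.rhoW_lt _ hw _ (hΨlt _ (hl₂ p hp))
    obtain ⟨ρ, hρT, hρ⟩ := hcond m hm hm0
    have hl'ρ : ∀ q ∈ l', q.1 ≠ ρ := by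
      intro q hq
      obtain ⟨p, hp, e⟩ := hl'1 q hq
      have hpΨ := hl₂ p hp
      rw [e, ← htab m hm _ (hΨlt _ hpΨ)]
      exact hρ _ hpΨ
    -- the negative part is trivial
    have hsplit := wordGL_filter_mul E.hF (fun r => D.IsPosRoot r) l' hl'c
    set lp := l'.filter fun p => decide (D.IsPosRoot p.1) with hlpdef
    set lm := l'.filter fun p => decide (¬ D.IsPosRoot p.1) with hlmdef
    have hlpU : E.hF.wordGL lp ∈ D.posUnipotent F := by
      have : E.hF.wordGL lp ∈ rootClosure D F (fun r => D.IsPosRoot r) := by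
        apply E.hF.wordGL_mem_rootClosure
        intro q hq
        have := (List.mem_filter.mp hq).2
        simpa using this
      exact rootClosure_pos_le _ _ _ (fun r hr => hr) this
    have hlmV : E.hF.wordGL lm ∈ D.negUnipotent F := by
      unfold Facts.wordGL
      apply Subgroup.list_prod_mem
      intro x hx
      simp only [List.mem_map] at hx
      obtain ⟨q, hq, rfl⟩ := hx
      have hq' := List.mem_filter.mp hq
      have hnp : ¬ D.IsPosRoot q.1 := by simpa using hq'.2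
      obtain ⟨hpn, _⟩ := rootTableOK_spec D E.hR q.1 (hl'lt q hq'.1)
      rcases hpn with h | h
      · exact absurd h hnp
      · exact E.hF.xGL_mem_neg _ h _
    have hq₁U : E.hF.ordProd Ψ e₁ ∈ D.posUnipotent F := by
      have : E.hF.ordProd Ψ e₁ ∈ rootClosure D F (fun r => D.IsPosRoot r) :=
        ordProd_mem_of E.hF _ Ψ e₁ (fun k hk => Or.inr (S.pos k hk))
      exact rootClosure_pos_le _ _ _ (fun r hr => hr) this
    have hlm1 : E.hF.wordGL lm = 1 := by
      have e : E.hF.wordGL lm = (E.hF.wordGL lp)⁻¹ * E.hF.ordProd Ψ e₁ := by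
        rw [← key, hsplit]; group
      have hB : E.hF.wordGL lm ∈ D.borelSubgroup F := by
        rw [e]
        exact pos_le_borel D F (Subgroup.mul_mem _ (Subgroup.inv_mem _ hlpU) hq₁U)
      have h1 : E.hF.wordGL lm ∈ D.borelSubgroup F ⊓ D.negUnipotent F := ⟨hB, hlmV⟩
      rw [E.hF.borel_inf_neg.1, Subgroup.mem_bot] at h1
      exact h1
    rw [hsplit, hlm1, mul_one] at key
    -- both sides in ordered form
    have hlp_pos : ∀ q ∈ lp, q.1 ∈ D.posRoots := by
      intro q hq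
      have := (List.mem_filter.mp hq).2
      exact (mem_posRoots D q.1).mpr (by simpa using this)
    have hlp_c : WComm E.hF lp := hl'c.sublist (fun q hq => (List.mem_filter.mp hq).1)
    have h1 := wordGL_eq_ordProd E.hF D.posRoots (posRoots_sorted D) lp hlp_pos hlp_c
    let l₁ : List (ℕ × F) := Ψ.map fun k => (k, e₁ k)
    have hl₁ : ∀ p ∈ l₁, p.1 ∈ Ψ := by
      intro p hp
      obtain ⟨k, hk, rfl⟩ := List.mem_map.mp hp
      exact hk
    have hord₁ : E.hF.ordProd Ψ e₁ = E.hF.wordGL l₁ := rfl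
    have h2 := wordGL_eq_ordProd E.hF D.posRoots (posRoots_sorted D) l₁
      (fun p hp => (mem_posRoots D p.1).mpr (S.pos _ (hl₁ p hp))) (S.wcomm l₁ hl₁)
    rw [hord₁, h1, h2] at key
    have h3 := E.hF.factorization_unique E.hU _ _ key ρ (S.pos ρ (S.TΨ ρ hρT))
    rw [coef_eq_zero lp ρ (fun q hq => hl'ρ q (List.mem_filter.mp hq).1),
      coef_map_self Ψ S.nodup e₁ ρ (S.TΨ ρ hρT)] at h3
    exact hne₁ ρ hρT h3.symm

end setup

section chartwo

variable {F : Type*} [Field F] {D : ChevalleyDatum} {tab : List ℕ} {orb : List (ℕ × ℕ × ℕ)}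

/-- the decidable condition, in characteristic two, for `x_r(t)` to normalise the subgroup generated by the
`X_s`, `s ∈ L`: the terms of the commutator formulas with odd coefficients stay in `L` -/
def normOK2 (D : ChevalleyDatum) (L : List ℕ) (r : ℕ) : Prop :=
  r ∈ L ∨ ∀ s ∈ L, s ≠ r ∧ s ≠ D.neg r ∧ ∀ c ∈ commTermsQ D r s, c.2.1 % 2 = 0 ∨ c.1 ∈ L

instance (D : ChevalleyDatum) (L : List ℕ) (r : ℕ) : Decidable (normOK2 D L r) := by
  unfold normOK2; infer_instance

theorem x_normalizes2 [CharP F 2] (E : Env D F tab orb) (L : List ℕ) (r : ℕ) (hr : r < D.nroots)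
    (hL : ∀ s ∈ L, s < D.nroots) (hchk : normOK2 D L r) (t : F) :
    E.hF.xGL r t ∈ Subgroup.normalizer (rootClosure D F (· ∈ L) : Set (GL D.Idx F)) := by
  rcases hchk with h | h
  · exact Subgroup.le_normalizer (E.hF.xGL_mem_rootClosure _ r h t)
  · have h20 : ((2 : ℤ) : F) = 0 := by
      have : ((2 : ℕ) : F) = 0 := CharP.cast_eq_zero F 2
      exact_mod_cast this
    have key : ∀ (t : F) (x : GL D.Idx F), x ∈ {g : GL D.Idx F | ∃ (s : ℕ) (u : F), s ∈ L ∧
        (g : Matrix D.Idx D.Idx F) = D.x F s u} →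
        (E.hF.xGL r t)⁻¹ * x * E.hF.xGL r t ∈ rootClosure D F (· ∈ L) := by
      rintro t x ⟨s, u, hs, hx⟩
      rw [E.hF.eq_xGL x s u hx]
      obtain ⟨hsr, hsn, hterms⟩ := h s hs
      have h1 := E.hcomm r hr s (hL s hs) hsr hsn t u
      have h2 : (E.hF.xGL r t)⁻¹ * E.hF.xGL s u * E.hF.xGL r t =
          E.hF.xGL s u * E.hF.wordGL (D.commWord F r s t u) := by
        rw [mul_assoc, h1]; group
      rw [h2]
      apply Subgroup.mul_mem
      · exact E.hF.xGL_mem_rootClosure _ s hs u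
      · unfold Facts.wordGL
        apply Subgroup.list_prod_mem
        intro y hy
        simp only [List.mem_map] at hy
        obtain ⟨p, hp, rfl⟩ := hy
        unfold ChevalleyDatum.commWord at hp
        simp only [List.mem_map] at hp
        obtain ⟨c, hc, rfl⟩ := hp
        rw [← E.hC.commTermsF_eq r s hr (hL s hs), ← commTermsQ_eq] at hc
        rcases hterms c hc with hev | hin
        · obtain ⟨k, hk⟩ : (2 : ℤ) ∣ c.2.1 := Int.dvd_of_emod_eq_zero hev
          have : ((c.2.1 : ℤ) : F) * (-t) ^ c.2.2.1 * u ^ c.2.2.2 = 0 := by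
            rw [hk, Int.cast_mul, h20, zero_mul, zero_mul, zero_mul]
          show E.hF.xGL c.1 (((c.2.1 : ℤ) : F) * (-t) ^ c.2.2.1 * u ^ c.2.2.2) ∈ _
          rw [this, E.hF.xGL_zero]
          exact Subgroup.one_mem _
        · exact E.hF.xGL_mem_rootClosure _ c.1 hin _
    unfold rootClosure
    apply mem_normalizer_closure
    · intro x hx
      have := key (-t) x hx
      rwa [← E.hF.xGL_inv, inv_inv] at this
    · intro x hx
      exact key t x hx

theorem rootClosure_le_normalizer2 [CharP F 2] (E : Env D F tab orb) (L L' : List ℕ)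
    (hL : ∀ s ∈ L, s < D.nroots) (hL' : ∀ s ∈ L', s < D.nroots)
    (hchk : ∀ r ∈ L', normOK2 D L r) :
    rootClosure D F (· ∈ L') ≤ Subgroup.normalizer (rootClosure D F (· ∈ L) : Set (GL D.Idx F)) := by
  unfold rootClosure
  rw [Subgroup.closure_le]
  rintro g ⟨r, u, hr, hg⟩
  rw [E.hF.eq_xGL g r u hg]
  exact x_normalizes2 E L r (hL' r hr) hL (hchk r hr) u

/-- root elements commuting in characteristic two -/
theorem commute2 [CharP F 2] (E : Env D F tab orb) (r s : ℕ)
    (h : r = s ∨ commEvenOK D r s = true) (t u : F) :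
    Commute (E.hF.xGL r t) (E.hF.xGL s u) := by
  rcases h with rfl | h
  · show E.hF.xGL r t * E.hF.xGL r u = E.hF.xGL r u * E.hF.xGL r t
    rw [E.hF.xGL_mul, E.hF.xGL_mul, add_comm]
  · exact E.commute_of_commEvenOK r s h t u

/-- the subgroup generated by the `X_r`, `r ∈ L`, centralises `x_s(u)` when the root elements do -/
theorem rootClosure_le_centralizer [CharP F 2] (E : Env D F tab orb) (L : List ℕ) (s : ℕ) (u : F)
    (h : ∀ r ∈ L, r = s ∨ commEvenOK D r s = true) :
    rootClosure D F (· ∈ L) ≤ Subgroup.centralizer {E.hF.xGL s u} := by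
  unfold rootClosure
  rw [Subgroup.closure_le]
  rintro g ⟨r, t, hr, hg⟩
  rw [E.hF.eq_xGL g r t hg, SetLike.mem_coe, Subgroup.mem_centralizer_iff]
  intro x hx
  rw [Set.mem_singleton_iff] at hx
  subst hx
  exact ((commute2 E r s (h r hr) t u).eq).symm

theorem rootClosure_congr (D : ChevalleyDatum) (F : Type*) [Field F] (R R' : ℕ → Prop)
    (h : ∀ s, R s ↔ R' s) : rootClosure D F R = rootClosure D F R' := by
  have : R = R' := funext fun s => propext (h s)
  rw [this]

end chartwo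

section steps

variable {F : Type*} [Field F] {D : ChevalleyDatum} {tab : List ℕ} {orb : List (ℕ × ℕ × ℕ)}
variable {E : Env D F tab orb} {Ψ T : List ℕ} {Pt : Subgroup (GL D.Idx F)}

/-- the commutator formula for a pair with a single term -/
theorem comm_single' (E : Env D F tab orb) (r s k : ℕ) (c : ℤ)
    (h : r < D.nroots ∧ s < D.nroots ∧ s ≠ r ∧ s ≠ D.neg r ∧ commTermsQ D r s = [(k, c, 1, 1)])
    (t u : F) :
    E.hF.xGL s u * E.hF.xGL r t =
      E.hF.xGL r t * E.hF.xGL s u * E.hF.xGL k ((c : F) * (-t) * u) := by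
  have hq := E.hcomm r h.1 s h.2.1 h.2.2.1 h.2.2.2.1 t u
  have e : D.commWord F r s t u = [(k, (c : F) * (-t) ^ 1 * u ^ 1)] := by
    unfold ChevalleyDatum.commWord
    rw [← E.hC.commTermsF_eq r s h.1 h.2.1, ← commTermsQ_eq, h.2.2.2.2]
    rfl
  rw [e] at hq
  rw [hq]
  simp [Facts.wordGL]

/-- conjugation of a root element by another one, for a pair with the single term `(k, -1, 1, 1)` -/
theorem conj_single' (E : Env D F tab orb) (r s k : ℕ)
    (h : s < D.nroots ∧ r < D.nroots ∧ r ≠ s ∧ r ≠ D.neg s ∧ commTermsQ D s r = [(k, -1, 1, 1)])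
    (hrk : ∀ t u : F, Commute (E.hF.xGL r t) (E.hF.xGL k u)) (τ t : F) :
    E.hF.xGL r τ * E.hF.xGL s t * (E.hF.xGL r τ)⁻¹ = E.hF.xGL s t * E.hF.xGL k (t * τ) := by
  have h1 := comm_single' E s r k (-1) h t τ
  have e : (((-1 : ℤ) : F)) * (-t) * τ = t * τ := by push_cast; ring
  rw [e] at h1
  rw [h1, mul_assoc, mul_assoc, ← mul_assoc (E.hF.xGL r τ), (hrk τ (t * τ)).eq,
    mul_assoc, mul_inv_cancel, mul_one]

/-- conjugation of an element of `Q` by an element commuting with all the `X_j`, `j ∈ Ψ` -/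
theorem Setup.conj_comm (S : Setup E Ψ T Pt) (g : GL D.Idx F)
    (hcomm : ∀ j ∈ Ψ, ∀ t : F, Commute g (E.hF.xGL j t)) (a : ℕ → F) :
    g * E.hF.ordProd Ψ a * g⁻¹ = E.hF.ordProd Ψ a := by
  have : Commute g (E.hF.ordProd Ψ a) := by
    unfold Facts.ordProd
    apply commute_wordGL
    intro q hq
    obtain ⟨j, hj, rfl⟩ := List.mem_map.mp hq
    exact hcomm j hj _
  rw [this.eq, mul_assoc, mul_inv_cancel, mul_one]

/-- conjugation of an element of `Q` by an element commuting with the `X_j`, `j ∈ Ψ`, `j ≠ s`, and mapping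
`x_s(t)` to `x_s(t) x_k(t τ)` -/
theorem Setup.conj_step (S : Setup E Ψ T Pt) (g : GL D.Idx F) (s k : ℕ) (hs : s ∈ Ψ) (hk : k ∈ Ψ)
    (τ : F) (hcomm : ∀ j ∈ Ψ, j ≠ s → ∀ t : F, Commute g (E.hF.xGL j t))
    (hstep : ∀ t : F, g * E.hF.xGL s t * g⁻¹ = E.hF.xGL s t * E.hF.xGL k (t * τ)) (a : ℕ → F) :
    g * E.hF.ordProd Ψ a * g⁻¹ =
      E.hF.ordProd Ψ (fun j => (if k = j then a s * τ else 0) + a j) := by
  have key : ∀ l : List (ℕ × F), (∀ p ∈ l, p.1 ∈ Ψ) →
      g * E.hF.wordGL l * g⁻¹ = E.hF.wordGL l * E.hF.xGL k (coef l s * τ) := by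
    intro l
    induction l with
    | nil =>
      intro _
      simp only [coef]
      rw [wordGL_nil', zero_mul, E.hF.xGL_zero]
      group
    | cons p l ih =>
      intro hl
      have ih' := ih (fun q hq => hl q (List.mem_cons_of_mem _ hq))
      have hkW : Commute (E.hF.xGL k (p.2 * τ)) (E.hF.wordGL l) := by
        apply commute_wordGL
        intro q hq
        exact S.comm k hk q.1 (hl q (List.mem_cons_of_mem _ hq)) _ _
      have e0 : g * E.hF.wordGL (p :: l) * g⁻¹ =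
          (g * E.hF.xGL p.1 p.2 * g⁻¹) * (g * E.hF.wordGL l * g⁻¹) := by
        rw [E.hF.wordGL_cons]; group
      rw [e0, ih']
      simp only [coef]
      by_cases hps : p.1 = s
      · rw [if_pos hps, hps, hstep p.2, add_mul, ← E.hF.xGL_mul, E.hF.wordGL_cons, hps]
        calc E.hF.xGL s p.2 * E.hF.xGL k (p.2 * τ) * (E.hF.wordGL l * E.hF.xGL k (coef l s * τ))
            = E.hF.xGL s p.2 * (E.hF.xGL k (p.2 * τ) * E.hF.wordGL l) *
                E.hF.xGL k (coef l s * τ) := by group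
          _ = E.hF.xGL s p.2 * (E.hF.wordGL l * E.hF.xGL k (p.2 * τ)) *
                E.hF.xGL k (coef l s * τ) := by rw [hkW.eq]
          _ = _ := by group
      · rw [if_neg hps, zero_add, E.hF.wordGL_cons]
        have hc := hcomm p.1 (hl p List.mem_cons_self) hps p.2
        have : g * E.hF.xGL p.1 p.2 * g⁻¹ = E.hF.xGL p.1 p.2 := by
          rw [hc.eq, mul_assoc, mul_inv_cancel, mul_one]
        rw [this, mul_assoc]
  have h1 := key (Ψ.map fun j => (j, a j)) (by
    intro p hp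
    obtain ⟨j, hj, rfl⟩ := List.mem_map.mp hp
    exact hj)
  rw [coef_map_self Ψ S.nodup a s hs] at h1
  have h2 : E.hF.ordProd Ψ a = E.hF.wordGL (Ψ.map fun j => (j, a j)) := rfl
  rw [h2, h1, ← h2]
  have hcm : Commute (E.hF.xGL k (a s * τ)) (E.hF.ordProd Ψ a) := by
    rw [h2]
    apply commute_wordGL
    intro q hq
    obtain ⟨j, hj, rfl⟩ := List.mem_map.mp hq
    exact S.comm k hk j hj _ _
  rw [← hcm.eq]
  exact (ordProd_insert E.hF Ψ S.sorted k hk (a s * τ) a
    (fun j hj _ => S.comm k hk j hj _ _)).symm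

theorem ordProd_append (hF : Facts D) (L₁ L₂ : List ℕ) (t : ℕ → F) :
    hF.ordProd (L₁ ++ L₂) t = hF.ordProd L₁ t * hF.ordProd L₂ t := by
  unfold Facts.ordProd
  rw [List.map_append, hF.wordGL_append']

end steps

end Cfsg.Agent.Lib.Helper37.CellCent
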