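import Cfsg.Agent.Lib.Helper37.ChevN
import Cfsg.Agent.Lib.Helper24.NTab
import Cfsg.Prelude.Def_LieTypes
import Cfsg.Prelude.Def_ChevB2
import Cfsg.Prelude.Def_ChevD4

set_option autoImplicit false

namespace Cfsg.Agent.Lib.Helper37.Chev

open Cfsg.Lie Cfsg.Agent.Lib.Helper24

theorem shape95_E6_0 : shapeOK95 chevE6 0 (nTabE6.getD 0 0) = true := by decide +kernel
theorem eta95_E6_0 : etaOK95 chevE6 0 (nTabE6.getD 0 0) = true := by decide +kernel
theorem shape95_E6_1 : shapeOK95 chevE6 1 (nTabE6.getD 1 0) = true := by decide +kernel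
theorem eta95_E6_1 : etaOK95 chevE6 1 (nTabE6.getD 1 0) = true := by decide +kernel
theorem shape95_E6_2 : shapeOK95 chevE6 2 (nTabE6.getD 2 0) = true := by decide +kernel
theorem eta95_E6_2 : etaOK95 chevE6 2 (nTabE6.getD 2 0) = true := by decide +kernel
theorem shape95_E6_3 : shapeOK95 chevE6 3 (nTabE6.getD 3 0) = true := by decide +kernel
theorem eta95_E6_3 : etaOK95 chevE6 3 (nTabE6.getD 3 0) = true := by decide +kernel
theorem shape95_E6_4 : shapeOK95 chevE6 4 (nTabE6.getD 4 0) = true := by decide +kernel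
theorem eta95_E6_4 : etaOK95 chevE6 4 (nTabE6.getD 4 0) = true := by decide +kernel
theorem shape95_E6_5 : shapeOK95 chevE6 5 (nTabE6.getD 5 0) = true := by decide +kernel
theorem eta95_E6_5 : etaOK95 chevE6 5 (nTabE6.getD 5 0) = true := by decide +kernel

theorem all95_E6 (i : ℕ) (hi : i < chevE6.rank) :
    shapeOK95 chevE6 i (nTabE6.getD i 0) = true ∧ etaOK95 chevE6 i (nTabE6.getD i 0) = true := by
  have hi' : i < 6 := hi
  interval_cases i
  · exact ⟨shape95_E6_0, eta95_E6_0⟩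
  · exact ⟨shape95_E6_1, eta95_E6_1⟩
  · exact ⟨shape95_E6_2, eta95_E6_2⟩
  · exact ⟨shape95_E6_3, eta95_E6_3⟩
  · exact ⟨shape95_E6_4, eta95_E6_4⟩
  · exact ⟨shape95_E6_5, eta95_E6_5⟩

end Cfsg.Agent.Lib.Helper37.Chev
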