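import Cfsg.Agent.Lib.Helper37.ChevN
import Cfsg.Agent.Lib.Helper24.NTab
import Cfsg.Prelude.Def_LieTypes
import Cfsg.Prelude.Def_ChevB2
import Cfsg.Prelude.Def_ChevD4

set_option autoImplicit false

namespace Cfsg.Agent.Lib.Helper37.Chev

open Cfsg.Lie Cfsg.Agent.Lib.Helper24

theorem shape95_E7_2 : shapeOK95 chevE7 2 (nTabE7.getD 2 0) = true := by decide +kernel
theorem eta95_E7_2 : etaOK95 chevE7 2 (nTabE7.getD 2 0) = true := by decide +kernel

end Cfsg.Agent.Lib.Helper37.Chev
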