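import Cfsg.Agent.Lib.Helper37.Chev95_E7_0
import Cfsg.Agent.Lib.Helper37.Chev95_E7_1
import Cfsg.Agent.Lib.Helper37.Chev95_E7_2
import Cfsg.Agent.Lib.Helper37.Chev95_E7_3
import Cfsg.Agent.Lib.Helper37.Chev95_E7_4
import Cfsg.Agent.Lib.Helper37.Chev95_E7_5
import Cfsg.Agent.Lib.Helper37.Chev95_E7_6

set_option autoImplicit false

namespace Cfsg.Agent.Lib.Helper37.Chev

open Cfsg.Lie Cfsg.Agent.Lib.Helper24


theorem all95_E7 (i : ℕ) (hi : i < chevE7.rank) :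
    shapeOK95 chevE7 i (nTabE7.getD i 0) = true ∧ etaOK95 chevE7 i (nTabE7.getD i 0) = true := by
  have hi' : i < 7 := hi
  interval_cases i
  · exact ⟨shape95_E7_0, eta95_E7_0⟩
  · exact ⟨shape95_E7_1, eta95_E7_1⟩
  · exact ⟨shape95_E7_2, eta95_E7_2⟩
  · exact ⟨shape95_E7_3, eta95_E7_3⟩
  · exact ⟨shape95_E7_4, eta95_E7_4⟩
  · exact ⟨shape95_E7_5, eta95_E7_5⟩
  · exact ⟨shape95_E7_6, eta95_E7_6⟩

end Cfsg.Agent.Lib.Helper37.Chev
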