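import Cfsg.Agent.Lib.Helper37.Chev95_E8_0
import Cfsg.Agent.Lib.Helper37.Chev95_E8_1
import Cfsg.Agent.Lib.Helper37.Chev95_E8_2
import Cfsg.Agent.Lib.Helper37.Chev95_E8_3
import Cfsg.Agent.Lib.Helper37.Chev95_E8_4
import Cfsg.Agent.Lib.Helper37.Chev95_E8_5
import Cfsg.Agent.Lib.Helper37.Chev95_E8_6
import Cfsg.Agent.Lib.Helper37.Chev95_E8_7

set_option autoImplicit false

namespace Cfsg.Agent.Lib.Helper37.Chev

open Cfsg.Lie Cfsg.Agent.Lib.Helper24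


theorem all95_E8 (i : ℕ) (hi : i < chevE8.rank) :
    shapeOK95 chevE8 i (nTabE8.getD i 0) = true ∧ etaOK95 chevE8 i (nTabE8.getD i 0) = true := by
  have hi' : i < 8 := hi
  interval_cases i
  · exact ⟨shape95_E8_0, eta95_E8_0⟩
  · exact ⟨shape95_E8_1, eta95_E8_1⟩
  · exact ⟨shape95_E8_2, eta95_E8_2⟩
  · exact ⟨shape95_E8_3, eta95_E8_3⟩
  · exact ⟨shape95_E8_4, eta95_E8_4⟩
  · exact ⟨shape95_E8_5, eta95_E8_5⟩
  · exact ⟨shape95_E8_6, eta95_E8_6⟩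
  · exact ⟨shape95_E8_7, eta95_E8_7⟩

end Cfsg.Agent.Lib.Helper37.Chev
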