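import Cfsg.Agent.Lib.Helper37.Chev95_G2
import Cfsg.Agent.Lib.Helper37.Chev95_B2
import Cfsg.Agent.Lib.Helper37.Chev95_D4
import Cfsg.Agent.Lib.Helper37.Chev95_F4
import Cfsg.Agent.Lib.Helper37.Chev95_E6
import Cfsg.Agent.Lib.Helper37.Chev95_E7
import Cfsg.Agent.Lib.Helper37.Chev95_E8
import Cfsg.Agent.Lib.Helper24.RFAll
import Cfsg.Agent.Lib.Helper24.FTAll

set_option autoImplicit false

namespace Cfsg.Agent.Lib.Helper37.Chev

open Cfsg.Lie Cfsg.Agent.Lib.Helper24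

theorem all95 (D : ChevalleyDatum)
    (hD : D ∈ [chevG2, chevB2, chevD4, chevF4, chevE6, chevE7, chevE8]) :
    ∃ tab, NFacts D tab ∧ ∀ i < D.rank,
      shapeOK95 D i (tab.getD i 0) = true ∧ etaOK95 D i (tab.getD i 0) = true := by
  simp only [List.mem_cons, List.not_mem_nil, or_false] at hD
  rcases hD with rfl | rfl | rfl | rfl | rfl | rfl | rfl
  · exact ⟨_, nfacts_G2, all95_G2⟩
  · exact ⟨_, nfacts_B2, all95_B2⟩
  · exact ⟨_, nfacts_D4, all95_D4⟩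
  · exact ⟨_, nfacts_F4, all95_F4⟩
  · exact ⟨_, nfacts_E6, all95_E6⟩
  · exact ⟨_, nfacts_E7, all95_E7⟩
  · exact ⟨_, nfacts_E8, all95_E8⟩

end Cfsg.Agent.Lib.Helper37.Chev
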