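import Cfsg.Agent.Lib.Helper37.ChevN
import Cfsg.Agent.Lib.Helper24.NTab
import Cfsg.Prelude.Def_LieTypes
import Cfsg.Prelude.Def_ChevB2
import Cfsg.Prelude.Def_ChevD4

set_option autoImplicit false

namespace Cfsg.Agent.Lib.Helper37.Chev

open Cfsg.Lie Cfsg.Agent.Lib.Helper24

theorem shape95_G2_0 : shapeOK95 chevG2 0 (nTabG2.getD 0 0) = true := by decide +kernel
theorem eta95_G2_0 : etaOK95 chevG2 0 (nTabG2.getD 0 0) = true := by decide +kernel
theorem shape95_G2_1 : shapeOK95 chevG2 1 (nTabG2.getD 1 0) = true := by decide +kernel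
theorem eta95_G2_1 : etaOK95 chevG2 1 (nTabG2.getD 1 0) = true := by decide +kernel

theorem all95_G2 (i : ℕ) (hi : i < chevG2.rank) :
    shapeOK95 chevG2 i (nTabG2.getD i 0) = true ∧ etaOK95 chevG2 i (nTabG2.getD i 0) = true := by
  have hi' : i < 2 := hi
  interval_cases i
  · exact ⟨shape95_G2_0, eta95_G2_0⟩
  · exact ⟨shape95_G2_1, eta95_G2_1⟩

end Cfsg.Agent.Lib.Helper37.Chev
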