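import Cfsg.Agent.Lib.Helper24.NDef

/-!
# The explicit matrix of `n_p(1)` for a fundamental root `p` (on top of the library of helper24)
-/

set_option autoImplicit false

namespace Cfsg.Agent.Lib.Helper37.Chev

open Cfsg.Lie Cfsg.Agent.Lib.Helper24

/-- integer entry `k` of a constant sparse vector -/
def cvGet (L : CV) (k : ℕ) : ℤ := (L.map fun kc => if kc.1 = k then kc.2 else 0).sum

theorem denC_eq_cvGet {F : Type*} [Field F] (D : ChevalleyDatum) (L : CV) (i : D.Idx) :
    denC (F := F) D L i = ((cvGet L (enc D i) : ℤ) : F) := by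
  unfold denC cvGet
  induction L with
  | nil => simp
  | cons kc L ih =>
    simp only [List.map_cons, List.sum_cons, ih]
    push_cast
    rfl

/-- the sign read off the column of `e_s` -/
def eta95 (D : ChevalleyDatum) (P s : ℕ) : ℤ := etaOf (mcolP P (D.rank + D.nroots) (D.rank + s))

/-- decoding of a packed column -/
def decCol (x : ℕ) : CV := (decEntry 3 1 x).map (fun e => (e.1, e.2.1))

theorem mcolP_eq_decCol (P n k : ℕ) (hk : k < n) :
    mcolP P n k = decCol ((P / 2 ^ (48 * k)) % 2 ^ 48) := by
  unfold mcolP decCol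
  rw [if_pos hk]

/-- the expected entries of the columns of `n_{p_i}`, with signs read off the table -/
def colOK95 (D : ChevalleyDatum) (i P j : ℕ) : Bool :=
  forceNat ((P / 2 ^ (48 * j)) % 2 ^ 48) fun x =>
    if j < D.rank then
      allBelow (fun k => decide (cvGet (decCol x) k =
        (if k < D.rank then (if k = j then 1 else 0) - (if k = i then D.cartan j (D.simple i) else 0)
          else 0))) (D.rank + D.nroots)
    else
      forceNat (D.reflectRoot i (j - D.rank)) fun r' =>
        allBelow (fun k => decide (cvGet (decCol x) k =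
          (if k < D.rank then 0 else if k - D.rank = r' then etaOf (decCol x) else 0)))
          (D.rank + D.nroots)

/-- all columns -/
def shapeOK95 (D : ChevalleyDatum) (i P : ℕ) : Bool :=
  allBelow (colOK95 D i P) (D.rank + D.nroots)

/-- the conditions on the signs -/
def etaOK95 (D : ChevalleyDatum) (i P : ℕ) : Bool :=
  decide (eta95 D P (D.simple i) = -1) && decide (eta95 D P (D.neg (D.simple i)) = -1) &&
  allBelow (fun s =>
    decide (eta95 D P s * eta95 D P (D.reflectRoot i s) = (-1) ^ (D.cartan i s).natAbs) &&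
      decide (eta95 D P s * eta95 D P (D.neg s) = 1)) D.nroots

theorem cMat_entry_inl {F : Type*} [Field F] (D : ChevalleyDatum) (i P : ℕ)
    (h : shapeOK95 D i P = true) (j : Fin D.rank) (row : D.Idx) :
    cMat (F := F) D (mcolP P (D.rank + D.nroots)) row (Sum.inl j) =
      Sum.elim (fun j' : Fin D.rank => (if j' = j then (1 : F) else 0) -
          (if (j' : ℕ) = i then ((D.cartan j (D.simple i) : ℤ) : F) else 0))
        (fun _ => (0 : F)) row := by
  have hj : (j : ℕ) < D.rank + D.nroots := by have := j.isLt; omega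
  have h1 := allBelow_elim _ _ h j hj
  unfold colOK95 at h1
  rw [forceNat_eq, if_pos j.isLt] at h1
  have h2 := allBelow_elim _ _ h1 (enc D row) (enc_lt D row)
  rw [decide_eq_true_eq] at h2
  change denC D (mcolP P (D.rank + D.nroots) (enc D (Sum.inl j))) row = _
  rw [denC_eq_cvGet]
  have e : enc D (Sum.inl j : D.Idx) = (j : ℕ) := rfl
  rw [e, mcolP_eq_decCol _ _ _ hj, h2]
  rcases row with j' | s'
  · have e' : enc D (Sum.inl j' : D.Idx) = (j' : ℕ) := rfl
    rw [e', if_pos j'.isLt]
    simp only [Sum.elim_inl]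
    push_cast
    congr 1
    · by_cases hjj : j' = j
      · subst hjj; simp
      · have : ¬ ((j' : ℕ) = (j : ℕ)) := fun hh => hjj (Fin.ext hh)
        simp [hjj, this]
  · have e' : enc D (Sum.inr s' : D.Idx) = D.rank + (s' : ℕ) := rfl
    rw [e', if_neg (by omega)]
    simp

theorem cMat_entry_inr {F : Type*} [Field F] (D : ChevalleyDatum) (i P : ℕ)
    (h : shapeOK95 D i P = true) (s : Fin D.nroots) (row : D.Idx) :
    cMat (F := F) D (mcolP P (D.rank + D.nroots)) row (Sum.inr s) =
      Sum.elim (fun _ => (0 : F))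
        (fun s' : Fin D.nroots =>
          if (s' : ℕ) = D.reflectRoot i s then ((eta95 D P s : ℤ) : F) else 0) row := by
  have hj : D.rank + (s : ℕ) < D.rank + D.nroots := by have := s.isLt; omega
  have h1 := allBelow_elim _ _ h (D.rank + (s : ℕ)) hj
  unfold colOK95 at h1
  rw [forceNat_eq, if_neg (by omega), forceNat_eq] at h1
  have h2 := allBelow_elim _ _ h1 (enc D row) (enc_lt D row)
  rw [decide_eq_true_eq] at h2
  change denC D (mcolP P (D.rank + D.nroots) (enc D (Sum.inr s))) row = _
  rw [denC_eq_cvGet]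
  have e : enc D (Sum.inr s : D.Idx) = D.rank + (s : ℕ) := rfl
  rw [e, mcolP_eq_decCol _ _ _ hj, h2]
  have e3 : D.rank + (s : ℕ) - D.rank = (s : ℕ) := by omega
  have e4 : etaOf (decCol ((P / 2 ^ (48 * (D.rank + (s : ℕ)))) % 2 ^ 48)) = eta95 D P s := by
    unfold eta95
    rw [mcolP_eq_decCol _ _ _ hj]
  rw [e3, e4]
  rcases row with j' | s'
  · have e' : enc D (Sum.inl j' : D.Idx) = (j' : ℕ) := rfl
    rw [e', if_pos j'.isLt]
    simp
  · have e' : enc D (Sum.inr s' : D.Idx) = D.rank + (s' : ℕ) := rfl
    rw [e', if_neg (by omega)]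
    have e5 : D.rank + (s' : ℕ) - D.rank = (s' : ℕ) := by omega
    rw [e5]
    simp only [Sum.elim_inr]
    split_ifs <;> simp

/-- the statement of S1095 for one datum and one fundamental root, from the table checks -/
theorem nMat_explicit {F : Type*} [Field F] (D : ChevalleyDatum) (hT : TableOK D) (i P : ℕ)
    (hN : nTabOK D (D.simple i) P = true) (hS : shapeOK95 D i P = true)
    (hE : etaOK95 D i P = true) :
    ∃ η : ℕ → ℤ, (∀ s < D.nroots, η s = 1 ∨ η s = -1) ∧ η (D.simple i) = -1 ∧
      η (D.neg (D.simple i)) = -1 ∧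
      (∀ s < D.nroots, η s * η (D.reflectRoot i s) = (-1) ^ (D.cartan i s).natAbs ∧
        η s * η (D.neg s) = 1) ∧
      D.nMat F (D.simple i) 1 = Matrix.of (fun (row col : D.Idx) =>
        Sum.elim
          (fun j' : Fin D.rank => Sum.elim
            (fun j : Fin D.rank => (if j' = j then (1 : F) else 0) -
              (if (j' : ℕ) = i then ((D.cartan j (D.simple i) : ℤ) : F) else 0))
            (fun _ => (0 : F)) col)
          (fun s' : Fin D.nroots => Sum.elim
            (fun _ => (0 : F))
            (fun s : Fin D.nroots =>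
              if (s' : ℕ) = D.reflectRoot i s then ((η s : ℤ) : F) else 0) col)
          row) := by
  unfold etaOK95 at hE
  simp only [Bool.and_eq_true, decide_eq_true_eq] at hE
  obtain ⟨⟨h1, h2⟩, h3⟩ := hE
  refine ⟨eta95 D P, fun s _ => etaOf_cases _, h1, h2, ?_, ?_⟩
  · intro s hs
    have := allBelow_elim _ _ h3 s hs
    simp only [Bool.and_eq_true, decide_eq_true_eq] at this
    exact this
  · rw [nMat_eq_cMat D hT _ P hN]
    ext row col
    rcases col with j | s
    · rw [cMat_entry_inl D i P hS j row]
      rcases row with j' | s' <;> rfl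
    · rw [cMat_entry_inr D i P hS s row]
      rcases row with j' | s' <;> rfl

end Cfsg.Agent.Lib.Helper37.Chev
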