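import Cfsg.Agent.Lib.Helper24.RankOne
import Cfsg.Agent.Lib.Helper37.SL2Pres

/-!
# The rank-one subgroups `⟨X_r, X_{-r}⟩` of a Chevalley group are images of `SL₂(F)`

For a fundamental root the rank-one relations are read off the conjugation formulas for `n_p` and
`h_p(c)`; the other roots are reached by conjugation with the `n_{p_i}`.
-/

set_option autoImplicit false
set_option linter.unusedSimpArgs false
set_option linter.unusedVariables false

namespace Cfsg.Agent.Lib.Helper37.ChevSL2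

open Cfsg.Lie Cfsg.Agent.Lib.Helper24 Cfsg.Agent.Lib.Helper37.SL2

/-! ### The sign twist of `SL₂(F)` -/

section twist

variable {F : Type*} [Field F]

theorem mul_apply4 (g g' : Matrix.SpecialLinearGroup (Fin 2) F) :
    (g * g') 0 0 = g 0 0 * g' 0 0 + g 0 1 * g' 1 0 ∧
      (g * g') 0 1 = g 0 0 * g' 0 1 + g 0 1 * g' 1 1 ∧
      (g * g') 1 0 = g 1 0 * g' 0 0 + g 1 1 * g' 1 0 ∧
      (g * g') 1 1 = g 1 0 * g' 0 1 + g 1 1 * g' 1 1 := by
  refine ⟨?_, ?_, ?_, ?_⟩ <;>
    rw [Matrix.SpecialLinearGroup.coe_mul, Matrix.mul_apply, Fin.sum_univ_two]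

/-- conjugation by `diag(-1, 1)`, as a map -/
def twistFun (g : Matrix.SpecialLinearGroup (Fin 2) F) : Matrix.SpecialLinearGroup (Fin 2) F :=
  ⟨!![g 0 0, -g 0 1; -g 1 0, g 1 1], by
    have := det_eq g
    rw [Matrix.det_fin_two]
    simp only [Matrix.of_apply, Matrix.cons_val', Matrix.cons_val_zero, Matrix.cons_val_one,
      Matrix.empty_val', Matrix.cons_val_fin_one, Matrix.head_cons, Matrix.head_fin_const]
    linear_combination this⟩

theorem twistFun_apply (g : Matrix.SpecialLinearGroup (Fin 2) F) :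
    (twistFun g) 0 0 = g 0 0 ∧ (twistFun g) 0 1 = -g 0 1 ∧ (twistFun g) 1 0 = -g 1 0 ∧
      (twistFun g) 1 1 = g 1 1 := by
  simp [twistFun]

/-- conjugation by `diag(-1, 1)` -/
def twist : Matrix.SpecialLinearGroup (Fin 2) F →* Matrix.SpecialLinearGroup (Fin 2) F :=
  MonoidHom.mk' twistFun (by
    intro g g'
    obtain ⟨a1, a2, a3, a4⟩ := twistFun_apply (g * g')
    obtain ⟨b1, b2, b3, b4⟩ := mul_apply4 g g'
    obtain ⟨c1, c2, c3, c4⟩ := mul_apply4 (twistFun g) (twistFun g')
    obtain ⟨d1, d2, d3, d4⟩ := twistFun_apply g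
    obtain ⟨e1, e2, e3, e4⟩ := twistFun_apply g'
    apply ext4
    · rw [a1, b1, c1, d1, d2, e1, e3]; ring
    · rw [a2, b2, c2, d1, d2, e2, e4]; ring
    · rw [a3, b3, c3, d3, d4, e1, e3]; ring
    · rw [a4, b4, c4, d3, d4, e2, e4]; ring)

theorem twist_uu (t : F) : twist (uu t) = uu (-t) := by
  show twistFun (uu t) = uu (-t)
  obtain ⟨a1, a2, a3, a4⟩ := twistFun_apply (uu t)
  obtain ⟨b1, b2, b3, b4⟩ := uu_apply t
  obtain ⟨c1, c2, c3, c4⟩ := uu_apply (-t)
  apply ext4
  · rw [a1, b1, c1]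
  · rw [a2, b2, c2]
  · rw [a3, b3, c3, neg_zero]
  · rw [a4, b4, c4]

theorem ll_apply (s : F) : (ll s) 0 0 = 1 ∧ (ll s) 0 1 = 0 ∧ (ll s) 1 0 = s ∧ (ll s) 1 1 = 1 := by
  simp [ll]

theorem twist_ll (t : F) : twist (ll t) = ll (-t) := by
  show twistFun (ll t) = ll (-t)
  obtain ⟨a1, a2, a3, a4⟩ := twistFun_apply (ll t)
  obtain ⟨b1, b2, b3, b4⟩ := ll_apply t
  obtain ⟨c1, c2, c3, c4⟩ := ll_apply (-t)
  apply ext4
  · rw [a1, b1, c1]
  · rw [a2, b2, c2, neg_zero]
  · rw [a3, b3, c3]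
  · rw [a4, b4, c4]

end twist

section chev

variable {F : Type*} [Field F] {D : ChevalleyDatum} {tab : List ℕ} {orb : List (ℕ × ℕ × ℕ)}

/-- the property proved by induction along the orbits of the fundamental roots -/
def HasSL2 (hF : Facts D) (F : Type*) [Field F] (r : ℕ) : Prop :=
  ∃ φ : Matrix.SpecialLinearGroup (Fin 2) F →* GL D.Idx F,
    (∀ t : F, φ (uu t) = hF.xGL r t) ∧ (∀ t : F, φ (ll t) = hF.xGL (D.neg r) t) ∧
      ∀ g, φ g ∈ Subgroup.closure
        (Set.range (fun t : F => hF.xGL r t) ∪ Set.range (fun t : F => hF.xGL (D.neg r) t))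

theorem conj_closure {G : Type*} [Group G] (S S' : Set G) (a : G)
    (ha : ∀ x ∈ S, a * x * a⁻¹ ∈ Subgroup.closure S') :
    ∀ n ∈ Subgroup.closure S, a * n * a⁻¹ ∈ Subgroup.closure S' := by
  intro n hn
  induction hn using Subgroup.closure_induction with
  | mem x hx => exact ha x hx
  | one => simp
  | mul x y _ _ hx hy =>
    have : a * (x * y) * a⁻¹ = (a * x * a⁻¹) * (a * y * a⁻¹) := by group
    rw [this]; exact Subgroup.mul_mem _ hx hy
  | inv x _ hx =>
    have : a * x⁻¹ * a⁻¹ = (a * x * a⁻¹)⁻¹ := by group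
    rw [this]; exact Subgroup.inv_mem _ hx

/-- the rank-one relations for a fundamental root -/
theorem rel_simple (hF : Facts D) (hN : NFacts D tab) (i : ℕ) (hi : i < D.rank)
    (hη : etaT D (tab.getD i 0) (D.simple i) = -1)
    (hp : D.simple i < D.nroots)
    (hdiag : ∀ c : F, c ≠ 0 → D.hMat F (D.simple i) c =
      Matrix.diagonal (Sum.elim (fun _ => (1 : F)) (fun s : Fin D.nroots => c ^ (D.cartan i s))))
    (hconj : ∀ (c : F), c ≠ 0 → ∀ t : F,
      D.hMat F (D.simple i) c * D.x F (D.neg (D.simple i)) t =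
        D.x F (D.neg (D.simple i)) (c ^ (D.cartan i (D.neg (D.simple i))) * t) *
          D.hMat F (D.simple i) c)
    (hcart : D.cartan i (D.neg (D.simple i)) = -2) :
    Rel (fun t : F => hF.xGL (D.simple i) t) (fun t : F => hF.xGL (D.neg (D.simple i)) t) := by
  have hnn : ∀ t : F, nn (fun t : F => hF.xGL (D.simple i) t)
      (fun t : F => hF.xGL (D.neg (D.simple i)) t) t = hF.nGL (D.simple i) t := by
    intro t
    rw [hF.nGL_def]
    rfl
  have hhval : ∀ t : F, ((hF.nGL (D.simple i) t * hF.nGL (D.simple i) (-1 : F) : GL D.Idx F) :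
      Matrix D.Idx D.Idx F) = D.hMat F (D.simple i) t := by
    intro t
    rw [Units.val_mul]
    unfold Facts.nGL
    rw [hF.wordGL_val, hF.wordGL_val]
    simp [ChevalleyDatum.hMat, ChevalleyDatum.hWord, ChevalleyDatum.wordMat, List.map_append,
      List.prod_append]
  have hhh : ∀ t : F, hh (fun t : F => hF.xGL (D.simple i) t)
      (fun t : F => hF.xGL (D.neg (D.simple i)) t) t =
        hF.nGL (D.simple i) t * hF.nGL (D.simple i) (-1 : F) := by
    intro t
    unfold hh
    rw [hnn, hnn]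
  refine ⟨fun s t => (hF.xGL_mul _ s t).symm, fun s t => (hF.xGL_mul _ s t).symm, ?_, ?_⟩
  · intro t ht s
    rw [hnn]
    -- `n(t) = h(t) n(1)`
    have e1 : hF.nGL (D.simple i) t =
        (hF.nGL (D.simple i) t * hF.nGL (D.simple i) (-1 : F)) * hF.nS i := by
      unfold Facts.nS
      rw [mul_assoc, hF.nGL_neg_one_mul, mul_one]
    have e2 := hF.nS_conj' (F := F) hN i hi (D.simple i) hp s
    rw [reflectRoot_simple, hη] at e2
    have e3 : ∀ H : GL D.Idx F, (H : Matrix D.Idx D.Idx F) = D.hMat F (D.simple i) t →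
        H * hF.xGL (D.neg (D.simple i)) (((-1 : ℤ) : F) * s) =
        hF.xGL (D.neg (D.simple i)) (-(t⁻¹ ^ 2 * s)) * H := by
      intro H hH
      apply Units.ext
      rw [Units.val_mul, Units.val_mul, hH, Facts.xGL_val, Facts.xGL_val, hconj t ht, hcart]
      congr 2
      push_cast
      rw [zpow_neg, zpow_ofNat, inv_pow]
      ring
    rw [e1]
    calc (hF.nGL (D.simple i) t * hF.nGL (D.simple i) (-1 : F)) * hF.nS i * hF.xGL (D.simple i) s *
          ((hF.nGL (D.simple i) t * hF.nGL (D.simple i) (-1 : F)) * hF.nS i)⁻¹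
        = (hF.nGL (D.simple i) t * hF.nGL (D.simple i) (-1 : F)) *
            (hF.nS i * hF.xGL (D.simple i) s * (hF.nS i)⁻¹) *
            (hF.nGL (D.simple i) t * hF.nGL (D.simple i) (-1 : F))⁻¹ := by group
      _ = hF.xGL (D.neg (D.simple i)) (-(t⁻¹ ^ 2 * s)) := by
          rw [e2, e3 _ (hhval t)]; group
  · intro t s ht hs
    rw [hhh, hhh, hhh]
    apply Units.ext
    rw [hhval (t * s), Units.val_mul, hhval t, hhval s, hdiag _ (mul_ne_zero ht hs), hdiag _ ht,
      hdiag _ hs, Matrix.diagonal_mul_diagonal]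
    congr 1
    funext idx
    rcases idx with j | s'
    · simp
    · simp [mul_zpow]

/-- the step of the induction: conjugation by `n_{p_i}` -/
theorem hasSL2_step (hF : Facts D) (hN : NFacts D tab) (hH : HNFacts D tab orb)
    (i : ℕ) (hi : i < D.rank) (r' : ℕ) (hr' : r' < D.nroots)
    (h : HasSL2 hF F r') : HasSL2 hF F (D.reflectRoot i r') := by
  obtain ⟨φ', hu, hl, hmem⟩ := h
  have hc := allBelow_elim _ _ (hH.negc i hi) r' hr'
  simp only [Bool.and_eq_true, decide_eq_true_eq] at hc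
  obtain ⟨⟨hns, hw⟩, hηn⟩ := hc
  have hw' := Nat.eq_of_beq_eq_true hw
  rw [wfast_eq D _ i (hH.perm i hi) r' hr', wfast_eq D _ i (hH.perm i hi) _ hns] at hw'
  -- conjugation of the two root subgroups
  have c1 : ∀ t : F, hF.nS i * hF.xGL r' t * (hF.nS i)⁻¹ =
      hF.xGL (D.reflectRoot i r') (((etaT D (tab.getD i 0) r' : ℤ) : F) * t) :=
    fun t => hF.nS_conj' hN i hi r' hr' t
  have c2 : ∀ t : F, hF.nS i * hF.xGL (D.neg r') t * (hF.nS i)⁻¹ =
      hF.xGL (D.neg (D.reflectRoot i r')) (((etaT D (tab.getD i 0) r' : ℤ) : F) * t) := by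
    intro t
    rw [hF.nS_conj' hN i hi _ hns t, ← hw', ← hηn]
  have hmem' : ∀ g, hF.nS i * φ' g * (hF.nS i)⁻¹ ∈ Subgroup.closure
      (Set.range (fun t : F => hF.xGL (D.reflectRoot i r') t) ∪
        Set.range (fun t : F => hF.xGL (D.neg (D.reflectRoot i r')) t)) := by
    intro g
    refine conj_closure _ _ (hF.nS i) ?_ _ (hmem g)
    rintro x (⟨t, rfl⟩ | ⟨t, rfl⟩)
    · simp only
      rw [c1]
      exact Subgroup.subset_closure (Or.inl ⟨_, rfl⟩)
    · simp only
      rw [c2]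
      exact Subgroup.subset_closure (Or.inr ⟨_, rfl⟩)
  rcases etaT_cases D (tab.getD i 0) r' with hη | hη
  · rw [hη] at c1 c2
    refine ⟨(MulAut.conj (hF.nS i)).toMonoidHom.comp φ', fun t => ?_, fun t => ?_, fun g => ?_⟩
    · simp only [MonoidHom.coe_comp, MulEquiv.coe_toMonoidHom, Function.comp_apply,
        MulAut.conj_apply]
      rw [hu, c1]
      simp
    · simp only [MonoidHom.coe_comp, MulEquiv.coe_toMonoidHom, Function.comp_apply,
        MulAut.conj_apply]
      rw [hl, c2]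
      simp
    · simp only [MonoidHom.coe_comp, MulEquiv.coe_toMonoidHom, Function.comp_apply,
        MulAut.conj_apply]
      exact hmem' g
  · rw [hη] at c1 c2
    refine ⟨(MulAut.conj (hF.nS i)).toMonoidHom.comp (φ'.comp twist),
      fun t => ?_, fun t => ?_, fun g => ?_⟩
    · simp only [MonoidHom.coe_comp, MulEquiv.coe_toMonoidHom, Function.comp_apply,
        MulAut.conj_apply]
      rw [twist_uu, hu, c1]
      simp
    · simp only [MonoidHom.coe_comp, MulEquiv.coe_toMonoidHom, Function.comp_apply,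
        MulAut.conj_apply]
      rw [twist_ll, hl, c2]
      simp
    · simp only [MonoidHom.coe_comp, MulEquiv.coe_toMonoidHom, Function.comp_apply,
        MulAut.conj_apply]
      exact hmem' _

/-- the fundamental roots are roots -/
theorem simple_lt' (hH : HNFacts D tab orb) (i : ℕ) (hi : i < D.rank) : D.simple i < D.nroots := by
  have := hH.orbit
  simp only [orbitOK, Bool.and_eq_true, simpleSuppOK, List.all_eq_true, List.mem_range,
    decide_eq_true_eq] at this
  exact (this.1 i hi).1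

/-- every root has the property -/
theorem hasSL2_all (hF : Facts D) (hN : NFacts D tab) (hH : HNFacts D tab orb)
    (hbase : ∀ j < D.rank, HasSL2 hF F (D.simple j)) :
    ∀ r < D.nroots, HasSL2 hF F r := by
  refine orbit_induction D tab orb hH.orbit (fun r => HasSL2 hF F r) ?_ ?_
  · intro j hj _ _
    exact hbase j hj
  · intro r i r' hi hr' hw _ hQ
    rw [wfast_eq D _ i (hH.perm i hi) r' hr'] at hw
    subst hw
    exact hasSL2_step hF hN hH i hi r' hr' hQ

/-- the statement on the rank-one subgroups -/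
theorem main (hF : Facts D) (r : ℕ) (h : HasSL2 hF F r) :
    ∃ φ : Matrix.SpecialLinearGroup (Fin 2) F →* GL D.Idx F,
      φ.range = D.rootSubgroup F r ⊔ D.rootSubgroup F (D.neg r) ∧
      ∀ (g : Matrix.SpecialLinearGroup (Fin 2) F) (t : F),
        ((g : Matrix (Fin 2) (Fin 2) F) = !![1, t; 0, 1] →
          ((φ g : GL D.Idx F) : Matrix D.Idx D.Idx F) = D.x F r t) ∧
        ((g : Matrix (Fin 2) (Fin 2) F) = !![1, 0; t, 1] →
          ((φ g : GL D.Idx F) : Matrix D.Idx D.Idx F) = D.x F (D.neg r) t) := by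
  obtain ⟨φ, hu, hl, hmem⟩ := h
  have hroot : ∀ s : ℕ, D.rootSubgroup F s =
      Subgroup.closure (Set.range (fun t : F => hF.xGL s t)) := by
    intro s
    unfold ChevalleyDatum.rootSubgroup
    congr 1
    ext g
    constructor
    · rintro ⟨t, hg⟩
      exact ⟨t, (hF.eq_xGL g s t hg).symm⟩
    · rintro ⟨t, rfl⟩
      exact ⟨t, rfl⟩
  refine ⟨φ, ?_, fun g t => ⟨fun hg => ?_, fun hg => ?_⟩⟩
  · rw [hroot, hroot, ← Subgroup.closure_union]
    apply le_antisymm
    · rintro _ ⟨g, rfl⟩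
      exact hmem g
    · rw [Subgroup.closure_le]
      rintro x (⟨t, rfl⟩ | ⟨t, rfl⟩)
      · exact ⟨uu t, hu t⟩
      · exact ⟨ll t, hl t⟩
  · rw [eq_uu g t hg, hu]
    rfl
  · rw [eq_ll g t hg, hl]
    rfl

end chev

end Cfsg.Agent.Lib.Helper37.ChevSL2
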