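import Cfsg.Agent.Lib.Helper37.ChevSL2
import Cfsg.Agent.Lib.Helper37.Chev95All
import Cfsg.Agent.Lib.Helper24.HNAll

/-! Table facts for the rank-one subgroups. -/

set_option autoImplicit false

namespace Cfsg.Agent.Lib.Helper37.ChevSL2

open Cfsg.Lie Cfsg.Agent.Lib.Helper24 Cfsg.Agent.Lib.Helper37.Chev

/-- `A_{p, -p} = -2` for the fundamental roots -/
def negCartanOK (D : ChevalleyDatum) : Bool :=
  (List.range D.rank).all fun i => decide (D.cartan i (D.neg (D.simple i)) = -2)

theorem negCartan_spec (D : ChevalleyDatum) (h : negCartanOK D = true) (i : ℕ) (hi : i < D.rank) :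
    D.cartan i (D.neg (D.simple i)) = -2 := by
  unfold negCartanOK at h
  simp only [List.all_eq_true, List.mem_range, decide_eq_true_eq] at h
  exact h i hi

theorem negCartan_all (D : ChevalleyDatum)
    (hD : D ∈ [chevG2, chevB2, chevD4, chevF4, chevE6, chevE7, chevE8]) :
    negCartanOK D = true := by
  simp only [List.mem_cons, List.not_mem_nil, or_false] at hD
  rcases hD with rfl | rfl | rfl | rfl | rfl | rfl | rfl <;> decide +kernel

/-- the facts on the `n_{p_i}` with the same tables -/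
theorem sl2facts_all (D : ChevalleyDatum)
    (hD : D ∈ [chevG2, chevB2, chevD4, chevF4, chevE6, chevE7, chevE8]) :
    ∃ tab orb, NFacts D tab ∧ HNFacts D tab orb ∧
      ∀ i < D.rank, etaT D (tab.getD i 0) (D.simple i) = -1 := by
  have key : ∀ (D : ChevalleyDatum) (i P : ℕ), etaOK95 D i P = true →
      etaT D P (D.simple i) = -1 := by
    intro D i P h
    unfold etaOK95 at h
    simp only [Bool.and_eq_true, decide_eq_true_eq] at h
    exact h.1.1
  simp only [List.mem_cons, List.not_mem_nil, or_false] at hD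
  rcases hD with rfl | rfl | rfl | rfl | rfl | rfl | rfl
  · exact ⟨_, _, nfacts_G2, hnfacts_G2, fun i hi => key _ _ _ (all95_G2 i hi).2⟩
  · exact ⟨_, _, nfacts_B2, hnfacts_B2, fun i hi => key _ _ _ (all95_B2 i hi).2⟩
  · exact ⟨_, _, nfacts_D4, hnfacts_D4, fun i hi => key _ _ _ (all95_D4 i hi).2⟩
  · exact ⟨_, _, nfacts_F4, hnfacts_F4, fun i hi => key _ _ _ (all95_F4 i hi).2⟩
  · exact ⟨_, _, nfacts_E6, hnfacts_E6, fun i hi => key _ _ _ (all95_E6 i hi).2⟩
  · exact ⟨_, _, nfacts_E7, hnfacts_E7, fun i hi => key _ _ _ (all95_E7 i hi).2⟩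
  · exact ⟨_, _, nfacts_E8, hnfacts_E8, fun i hi => key _ _ _ (all95_E8 i hi).2⟩

end Cfsg.Agent.Lib.Helper37.ChevSL2
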