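import Cfsg.Agent.Lib.Helper24.RootAct
import Cfsg.Agent.Lib.Helper25.CoxeterMat

/-!
`N / H ≅ W` for the Chevalley groups: general part.  The monomial subgroup `N` acts on the roots
(by conjugation of the root subgroups), the Coxeter group `W(M)` acts faithfully on the lattice
`ℤ^n`, and the two actions are intertwined by `s ↦ (A_{p_j, s})_j`.
-/

set_option autoImplicit false
set_option linter.unusedSimpArgs false
set_option linter.unusedVariables false

namespace Cfsg.Agent.Lib.Helper37.Weyl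

open Cfsg.Lie Cfsg.Agent.Lib.Helper24

section general

variable {F : Type*} [Field F] {D : ChevalleyDatum} {tab : List ℕ} {orb : List (ℕ × ℕ × ℕ)}
variable {n : ℕ} {M : CoxeterMatrix (Fin n)} {v : ℕ → Fin n → ℤ}

/-- `g` moves the root subgroups as `w` moves the root vectors -/
def Rel (v : ℕ → Fin n → ℤ) (hF : Facts D) (φ : M.Group →* Equiv.Perm (Fin n → ℤ))
    (g : GL D.Idx F) (w : M.Group) :
    Prop :=
  ∀ s < D.nroots, ∃ s' < D.nroots, v s' = φ w (v s) ∧
    ∃ c : F, c ≠ 0 ∧ ∀ t : F, g * hF.xGL s t * g⁻¹ = hF.xGL s' (c * t)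

theorem Rel.mul {hF : Facts D} {φ : M.Group →* Equiv.Perm (Fin n → ℤ)} {g₁ g₂ : GL D.Idx F}
    {w₁ w₂ : M.Group} (h₁ : Rel v hF φ g₁ w₁) (h₂ : Rel v hF φ g₂ w₂) :
    Rel v hF φ (g₁ * g₂) (w₁ * w₂) := by
  intro s hs
  obtain ⟨s2, hs2, hv2, c2, hc2, e2⟩ := h₂ s hs
  obtain ⟨s1, hs1, hv1, c1, hc1, e1⟩ := h₁ s2 hs2
  refine ⟨s1, hs1, ?_, c1 * c2, mul_ne_zero hc1 hc2, fun t => ?_⟩
  · rw [hv1, hv2, map_mul, Equiv.Perm.mul_apply]
  · have : g₁ * g₂ * hF.xGL s t * (g₁ * g₂)⁻¹ = g₁ * (g₂ * hF.xGL s t * g₂⁻¹) * g₁⁻¹ := by group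
    rw [this, e2, e1, mul_assoc]

theorem Rel.of_diag (v : ℕ → Fin n → ℤ) (hF : Facts D) (φ : M.Group →* Equiv.Perm (Fin n → ℤ)) (h : GL D.Idx F)
    (hh : h ∈ D.diagonalSubgroup F) : Rel v hF φ h 1 := by
  intro s hs
  obtain ⟨c, hc, e⟩ := hF.diag_conj h hh s hs
  exact ⟨s, hs, by rw [map_one, Equiv.Perm.one_apply], c, hc, e⟩

theorem Rel.nS (hF : Facts D) (hN : NFacts D tab) (hrank : D.rank = n)
    (φ : M.Group →* Equiv.Perm (Fin n → ℤ))
    (hφ : ∀ (i : Fin n) (s : ℕ), s < D.nroots →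
      φ (M.simple i) (v s) = v (D.reflectRoot i s)) (i : Fin n) :
    Rel (F := F) v hF φ (hF.nS i) (M.simple i) := by
  intro s hs
  have hi : (i : ℕ) < D.rank := by rw [hrank]; exact i.isLt
  exact ⟨D.reflectRoot i s, hN.reflectRoot_lt i hi s hs, (hφ i s hs).symm, _,
    etaT_cast_ne_zero D (tab.getD i 0) s, fun t => hF.nS_conj' hN i hi s hs t⟩

/-- the subgroup of the elements which, with their inverses, are related to some `w` -/
def relGL (v : ℕ → Fin n → ℤ) (hF : Facts D) (φ : M.Group →* Equiv.Perm (Fin n → ℤ))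
    (F : Type*) [Field F] :
    Subgroup (GL D.Idx F) where
  carrier := {g | ∃ w : M.Group, Rel (F := F) v hF φ g w ∧ Rel v hF φ g⁻¹ w⁻¹}
  one_mem' := by
    refine ⟨1, Rel.of_diag v hF φ 1 (Subgroup.one_mem _), ?_⟩
    rw [inv_one, inv_one]
    exact Rel.of_diag v hF φ 1 (Subgroup.one_mem _)
  mul_mem' := by
    rintro x y ⟨wx, hx, hx'⟩ ⟨wy, hy, hy'⟩
    refine ⟨wx * wy, hx.mul hy, ?_⟩
    rw [mul_inv_rev, mul_inv_rev]
    exact hy'.mul hx'
  inv_mem' := by
    rintro x ⟨wx, hx, hx'⟩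
    exact ⟨wx⁻¹, hx', by rw [inv_inv, inv_inv]; exact hx⟩

theorem monomial_le_relGL (hF : Facts D) (hN : NFacts D tab) (hH : HNFacts D tab orb)
    (hrank : D.rank = n) (φ : M.Group →* Equiv.Perm (Fin n → ℤ))
    (hφ : ∀ (i : Fin n) (s : ℕ), s < D.nroots →
      φ (M.simple i) (v s) = v (D.reflectRoot i s)) :
    D.monomialSubgroup F ≤ relGL v hF φ F := by
  have hdiag : D.diagonalSubgroup F ≤ relGL v hF φ F := by
    intro h hh
    refine ⟨1, Rel.of_diag v hF φ h hh, ?_⟩
    rw [inv_one]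
    exact Rel.of_diag v hF φ _ (Subgroup.inv_mem _ hh)
  have hnS : ∀ j < D.rank, hF.nS (F := F) j ∈ relGL v hF φ F := by
    intro j hj
    have hj' : j < n := by rw [← hrank]; exact hj
    have h1 := Rel.nS (F := F) hF hN hrank φ hφ ⟨j, hj'⟩
    have hsq : hF.nS (F := F) j * hF.nS j ∈ D.diagonalSubgroup F :=
      hF.nGL_sq_mem _ (Facts.simple_lt hH j hj)
    have h2 := Rel.of_diag v hF φ _ (Subgroup.inv_mem _ hsq)
    have h3 := h1.mul h2
    have e : (hF.nS (F := F) j)⁻¹ = hF.nS j * (hF.nS j * hF.nS j)⁻¹ := by group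
    have e' : (M.simple ⟨j, hj'⟩)⁻¹ = M.simple ⟨j, hj'⟩ * 1 := by
      rw [mul_one, inv_eq_iff_mul_eq_one]
      exact M.toCoxeterSystem.simple_mul_simple_self ⟨j, hj'⟩
    refine ⟨M.simple ⟨j, hj'⟩, h1, ?_⟩
    rw [e, e']
    exact h3
  unfold ChevalleyDatum.monomialSubgroup
  apply sup_le hdiag
  rw [Subgroup.closure_le]
  rintro g ⟨r, hr, hg⟩
  have : g = hF.nGL r (1 : F) := by
    apply Units.ext
    rw [hg]
    unfold Facts.nGL
    rw [hF.wordGL_val]
    rfl
  rw [this]
  exact hF.nGL_mem_of_simple hN hH _ hnS r hr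

theorem Rel.unique (hF : Facts D) (hR : rootTableOK D = true) (hNe : negNeOK D = true)
    (hU : corootUnitOK D = true) (φ : M.Group →* Equiv.Perm (Fin n → ℤ))
    (hfaith : ∀ w : M.Group, (∀ s < D.nroots, φ w (v s) = v s) → w = 1)
    {g : GL D.Idx F} {w w' : M.Group} (h : Rel v hF φ g w) (h' : Rel v hF φ g w') : w = w' := by
  have key : w'⁻¹ * w = 1 := by
    apply hfaith
    intro s hs
    obtain ⟨s1, hs1, hv1, c1, hc1, e1⟩ := h s hs
    obtain ⟨s2, hs2, hv2, c2, hc2, e2⟩ := h' s hs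
    have hss : s1 = s2 := by
      by_contra hne
      have h3 : hF.xGL s1 (c1 * 1) = hF.xGL s2 (c2 * 1) := by rw [← e1 1, ← e2 1]
      have := hF.xGL_eq_xGL hR hNe hU s1 s2 hs1 hs2 hne _ _ h3
      rw [mul_one] at this
      exact hc1 this
    rw [map_mul, Equiv.Perm.mul_apply, ← hv1, hss, hv2, map_inv]
    exact Equiv.Perm.inv_eq_iff_eq.mpr rfl
  exact (inv_mul_eq_one.mp key).symm

/-- the homomorphism `N → W` -/
theorem exists_hom (hF : Facts D) (hN : NFacts D tab) (hH : HNFacts D tab orb)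
    (hR : rootTableOK D = true) (hNe : negNeOK D = true) (hU : corootUnitOK D = true)
    (hrank : D.rank = n) (φ : M.Group →* Equiv.Perm (Fin n → ℤ))
    (hφ : ∀ (i : Fin n) (s : ℕ), s < D.nroots →
      φ (M.simple i) (v s) = v (D.reflectRoot i s))
    (hfaith : ∀ w : M.Group, (∀ s < D.nroots, φ w (v s) = v s) → w = 1) :
    ∃ ψ : ↥(D.monomialSubgroup F) →* M.Group,
      ∀ g : ↥(D.monomialSubgroup F), Rel v hF φ (g : GL D.Idx F) (ψ g) := by
  have hex : ∀ g : ↥(D.monomialSubgroup F), ∃ w : M.Group, Rel v hF φ (g : GL D.Idx F) w := by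
    intro g
    obtain ⟨w, hw, _⟩ := monomial_le_relGL hF hN hH hrank φ hφ g.2
    exact ⟨w, hw⟩
  choose f hf using hex
  refine ⟨MonoidHom.mk' f (fun a b => ?_), hf⟩
  refine Rel.unique hF hR hNe hU φ hfaith (hf (a * b)) ?_
  have := (hf a).mul (hf b)
  simpa using this

/-- `N / H ≅ W` -/
theorem main (hF : Facts D) (hN : NFacts D tab) (hH : HNFacts D tab orb)
    (hR : rootTableOK D = true) (hNe : negNeOK D = true) (hU : corootUnitOK D = true)
    (hrank : D.rank = n) (φ : M.Group →* Equiv.Perm (Fin n → ℤ))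
    (hφ : ∀ (i : Fin n) (s : ℕ), s < D.nroots →
      φ (M.simple i) (v s) = v (D.reflectRoot i s))
    (hinj : ∀ s < D.nroots, ∀ s' < D.nroots, v s = v s' → s = s')
    (hfaith : ∀ w : M.Group, (∀ s < D.nroots, φ w (v s) = v s) → w = 1)
    (hNG : D.monomialSubgroup F ≤ D.group F)
    (hnorm : Subgroup.normalizer (D.posUnipotent F : Set (GL D.Idx F)) ⊓ D.group F =
      D.borelSubgroup F)
    (hBN : D.borelSubgroup F ⊓ D.monomialSubgroup F = D.diagonalSubgroup F) :
    ∃ ψ : ↥(D.monomialSubgroup F) →* M.Group, Function.Surjective ψ ∧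
      ψ.ker = (D.diagonalSubgroup F).subgroupOf (D.monomialSubgroup F) ∧
      ∀ (i : Fin n) (g : ↥(D.monomialSubgroup F)),
        ((g : GL D.Idx F) : Matrix D.Idx D.Idx F) = D.nMat F (D.simple i) 1 →
          ψ g = M.simple i := by
  obtain ⟨ψ, hψ⟩ := exists_hom (F := F) hF hN hH hR hNe hU hrank φ hφ hfaith
  have huniq := fun {g : GL D.Idx F} {w w' : M.Group} (h : Rel v hF φ g w) (h' : Rel v hF φ g w') =>
    Rel.unique hF hR hNe hU φ hfaith h h'
  have hsimple : ∀ (i : Fin n) (g : ↥(D.monomialSubgroup F)),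
      ((g : GL D.Idx F) : Matrix D.Idx D.Idx F) = D.nMat F (D.simple i) 1 →
        ψ g = M.simple i := by
    intro i g hg
    have hgn : (g : GL D.Idx F) = hF.nS i := by
      apply Units.ext
      rw [hg, hF.nS_val]
    have h1 := hψ g
    rw [hgn] at h1
    exact huniq h1 (Rel.nS hF hN hrank φ hφ i)
  refine ⟨ψ, ?_, ?_, hsimple⟩
  · -- surjectivity
    rw [← MonoidHom.range_eq_top, eq_top_iff, ← M.toCoxeterSystem.subgroup_closure_range_simple,
      Subgroup.closure_le]
    rintro _ ⟨i, rfl⟩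
    have hi : (i : ℕ) < D.rank := by rw [hrank]; exact i.isLt
    have hmem : hF.nS (F := F) i ∈ D.monomialSubgroup F :=
      hF.nS_mem_monomial i (Facts.simple_lt hH i hi)
    refine ⟨⟨hF.nS i, hmem⟩, ?_⟩
    exact hsimple i ⟨hF.nS i, hmem⟩ (hF.nS_val i)
  · -- the kernel
    ext g
    rw [MonoidHom.mem_ker, Subgroup.mem_subgroupOf]
    constructor
    · intro hg1
      have h1 := hψ g
      rw [hg1] at h1
      -- `g` normalises every root subgroup
      have hfix : ∀ s < D.nroots, ∃ c : F, c ≠ 0 ∧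
          ∀ t : F, (g : GL D.Idx F) * hF.xGL s t * (g : GL D.Idx F)⁻¹ = hF.xGL s (c * t) := by
        intro s hs
        obtain ⟨s', hs', hv, c, hc, e⟩ := h1 s hs
        rw [map_one, Equiv.Perm.one_apply] at hv
        have := hinj s' hs' s hs hv
        subst this
        exact ⟨c, hc, e⟩
      have hnormU : (g : GL D.Idx F) ∈
          Subgroup.normalizer (D.posUnipotent F : Set (GL D.Idx F)) := by
        unfold ChevalleyDatum.posUnipotent
        apply mem_normalizer_closure
        · rintro x ⟨r, t, hr, hx⟩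
          obtain ⟨c, hc, e⟩ := hfix r hr.1
          rw [hF.eq_xGL x r t hx, e]
          exact Subgroup.subset_closure ⟨r, c * t, hr, hF.xGL_val r (c * t)⟩
        · rintro x ⟨r, t, hr, hx⟩
          obtain ⟨c, hc, e⟩ := hfix r hr.1
          have e2 := e (c⁻¹ * t)
          rw [← mul_assoc, mul_inv_cancel₀ hc, one_mul] at e2
          rw [hF.eq_xGL x r t hx, ← e2]
          have : (g : GL D.Idx F)⁻¹ * ((g : GL D.Idx F) * hF.xGL r (c⁻¹ * t) * (g : GL D.Idx F)⁻¹) *
              (g : GL D.Idx F) = hF.xGL r (c⁻¹ * t) := by group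
          rw [this]
          exact Subgroup.subset_closure ⟨r, c⁻¹ * t, hr, hF.xGL_val r (c⁻¹ * t)⟩
      have hB : (g : GL D.Idx F) ∈ D.borelSubgroup F := by
        rw [← hnorm]
        exact ⟨hnormU, hNG g.2⟩
      rw [← hBN]
      exact ⟨hB, g.2⟩
    · intro hgH
      exact huniq (hψ g) (Rel.of_diag v hF φ _ hgH)

end general

/-! ### The faithfulness of the action on the root vectors -/

section faithful

variable {n : ℕ}

theorem mat_eq_one_of_fix (C A Adj : Matrix (Fin n) (Fin n) ℤ) (d : ℤ) (hd : d ≠ 0)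
    (hadj : A.transpose * Adj = d • (1 : Matrix (Fin n) (Fin n) ℤ))
    (h : ∀ i, C.mulVec (A i) = A i) : C = 1 := by
  have h1 : C * A.transpose = A.transpose := by
    ext j i
    have := congrFun (h i) j
    rw [Matrix.mulVec, dotProduct] at this
    rw [Matrix.mul_apply]
    simpa [Matrix.transpose_apply] using this
  have h2 : C * (A.transpose * Adj) = A.transpose * Adj := by rw [← mul_assoc, h1]
  rw [hadj, Matrix.mul_smul, mul_one] at h2
  exact smul_right_injective _ hd h2

end faithful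

/-! ### The checks on the tables

The coordinates `(A_{p_j, s})_j` of the roots are packed into one natural number: 24 bits for each
root, 3 bits for each coordinate, shifted by 4. -/

section tables

variable {n : ℕ} {M : CoxeterMatrix (Fin n)}

/-- the packed coordinates of the root `s` -/
def keyP (V s : ℕ) : ℕ := V / 2 ^ (24 * s) % 2 ^ 24

/-- the `j`-th digit -/
def digP (k j : ℕ) : ℕ := k / 8 ^ j % 8

/-- the coordinates of the root `s` -/
def vecP (V n : ℕ) (s : ℕ) : Fin n → ℤ := fun j => (digP (keyP V s) j : ℤ) - 4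

/-- the reflection `w_{p_i}` acts on the coordinates as the `i`-th reflection of the lattice -/
def eqvOK (D : ChevalleyDatum) (V : ℕ) (tab : List ℕ) : Bool :=
  allBelow (fun i => forceNat (keyP V (D.simple i)) fun ki =>
    allBelow (fun s => forceNat (keyP V s) fun k =>
      forceNat (keyP V (wfast D.rank (tab.getD i 0) s)) fun k' =>
        forceNat (digP k i) fun e =>
          allBelow (fun j => Nat.beq (digP k' j + e * digP ki j + 16)
            (digP k j + 4 * e + 4 * digP ki j)) D.rank) D.nroots) D.rank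

/-- different roots have different coordinates -/
def injOK (V nroots n : ℕ) : Bool :=
  allBelow (fun s => forceNat (keyP V s) fun k => decide (k < 8 ^ n) &&
    allBelow (fun s' => forceNat (keyP V s') fun k' => !(Nat.beq k k')) s) nroots

theorem eq_of_digits (n : ℕ) : ∀ k k' : ℕ, k < 8 ^ n → k' < 8 ^ n →
    (∀ j < n, digP k j = digP k' j) → k = k' := by
  induction n with
  | zero =>
    intro k k' hk hk' _
    simp at hk hk'
    omega
  | succ n ih =>
    intro k k' hk hk' h
    have h0 := h 0 (Nat.succ_pos n)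
    unfold digP at h0
    simp only [pow_zero, Nat.div_one] at h0
    have h1 : k / 8 = k' / 8 := by
      apply ih
      · rw [pow_succ] at hk; omega
      · rw [pow_succ] at hk'; omega
      · intro j hj
        have := h (j + 1) (Nat.succ_lt_succ hj)
        unfold digP at this ⊢
        rw [pow_succ, mul_comm, ← Nat.div_div_eq_div_mul, ← Nat.div_div_eq_div_mul] at this
        exact this
    omega

theorem vecP_injective (V nroots n : ℕ) (h : injOK V nroots n = true) :
    ∀ s < nroots, ∀ s' < nroots, vecP V n s = vecP V n s' → s = s' := by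
  have key : ∀ s < nroots, ∀ s' < s, vecP V n s = vecP V n s' → False := by
    intro s hs s' hs' hv
    have h1 := allBelow_elim _ _ h s hs
    rw [forceNat_eq, Bool.and_eq_true, decide_eq_true_eq] at h1
    obtain ⟨hk, h2⟩ := h1
    have h3 := allBelow_elim _ _ h2 s' hs'
    rw [forceNat_eq] at h3
    have hk' : keyP V s' < 8 ^ n := by
      have h4 := allBelow_elim _ _ h s' (lt_trans hs' hs)
      rw [forceNat_eq, Bool.and_eq_true, decide_eq_true_eq] at h4
      exact h4.1
    have e : keyP V s = keyP V s' := by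
      apply eq_of_digits n _ _ hk hk'
      intro j hj
      have := congrFun hv ⟨j, hj⟩
      unfold vecP at this
      simp only at this
      omega
    rw [e] at h3
    simp at h3
  intro s hs s' hs' hv
  rcases lt_trichotomy s s' with h1 | h1 | h1
  · exact (key s' hs' s h1 hv.symm).elim
  · exact h1
  · exact (key s hs s' h1 hv).elim

theorem simple_apply (D : ChevalleyDatum) (V : ℕ) (tab : List ℕ) (h : eqvOK D V tab = true)
    (hperm : ∀ i < D.rank, permOK D (tab.getD i 0) i = true) (hrank : D.rank = n)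
    (A : Matrix (Fin n) (Fin n) ℤ) (hA : ∀ i, A i i = 2)
    (hAV : ∀ i j : Fin n, A i j = vecP V n (D.simple i) j)
    (φ : M.Group →* Equiv.Perm (Fin n → ℤ))
    (hφ : ∀ i : Fin n, φ (M.simple i) = Cfsg.Agent.Lib.Helper25.Cox.reflEquiv A hA i)
    (i : Fin n) (s : ℕ) (hs : s < D.nroots) :
    φ (M.simple i) (vecP V n s) = vecP V n (D.reflectRoot i s) := by
  rw [hφ, Cfsg.Agent.Lib.Helper25.Cox.reflEquiv_apply]
  have hi : (i : ℕ) < D.rank := by rw [hrank]; exact i.isLt
  funext j
  have hj : (j : ℕ) < D.rank := by rw [hrank]; exact j.isLt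
  have h1 := allBelow_elim _ _ h i hi
  rw [forceNat_eq] at h1
  have h2 := allBelow_elim _ _ h1 s hs
  rw [forceNat_eq, forceNat_eq, forceNat_eq] at h2
  have h3 := Nat.eq_of_beq_eq_true (allBelow_elim _ _ h2 j hj)
  rw [wfast_eq D _ i (hperm i hi) s hs] at h3
  have h4 := congrArg (Nat.cast : ℕ → ℤ) h3
  push_cast at h4
  unfold Cfsg.Agent.Lib.Helper25.Cox.refl
  rw [hAV i j]
  unfold vecP
  linear_combination -h4

theorem faithful_of (D : ChevalleyDatum) (V : ℕ) (A : Matrix (Fin n) (Fin n) ℤ)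
    (hAV : ∀ i j : Fin n, A i j = vecP V n (D.simple i) j)
    (hsimple : ∀ i : Fin n, D.simple i < D.nroots)
    (φ : M.Group →* Equiv.Perm (Fin n → ℤ)) (ψ : M.Group →* Matrix (Fin n) (Fin n) ℤ)
    (hφψ : ∀ (g : M.Group) (v : Fin n → ℤ), φ g v = (ψ g).mulVec v)
    (hψ : Function.Injective ψ)
    (Adj : Matrix (Fin n) (Fin n) ℤ) (d : ℤ) (hd : d ≠ 0)
    (hadj : A.transpose * Adj = d • (1 : Matrix (Fin n) (Fin n) ℤ)) :
    ∀ w : M.Group, (∀ s < D.nroots, φ w (vecP V n s) = vecP V n s) → w = 1 := by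
  intro w hw
  apply hψ
  rw [map_one]
  apply mat_eq_one_of_fix (ψ w) A Adj d hd hadj
  intro i
  have h1 := hw (D.simple i) (hsimple i)
  have h2 : vecP V n (D.simple i) = A i := by
    funext j
    exact (hAV i j).symm
  rw [h2, hφψ] at h1
  exact h1

end tables

end Cfsg.Agent.Lib.Helper37.Weyl
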