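import Cfsg.Agent.Lib.Helper37.ChevWeyl
import Cfsg.Agent.Lib.Helper25.CoxB2Mat
import Cfsg.Agent.Lib.Helper24.RFAll
import Cfsg.Agent.Lib.Helper24.HT_B2

/-! `N / H ≅ W` for type B2: the checks on the tables. -/

set_option autoImplicit false
set_option maxRecDepth 100000

namespace Cfsg.Agent.Lib.Helper37.Weyl

open Cfsg.Lie Cfsg.Agent.Lib.Helper24 Cfsg.Agent.Lib.Helper25.Cox

/-- the packed coordinates `(A_{p_j, s})_j` of the roots -/
def vtab_B2 : ℕ := 14217488909187852200476699235941397617277385335373858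

theorem eqv_B2 : eqvOK chevB2 vtab_B2 nTabB2 = true := by decide +kernel

theorem inj_B2 : injOK vtab_B2 8 2 = true := by decide +kernel

def adj_B2 : Matrix (Fin 2) (Fin 2) ℤ := !![2, 2; 1, 2]

theorem hAV_B2 : ∀ i j : Fin 2, B2.A i j = vecP vtab_B2 2 (chevB2.simple i) j := by
  intro i j
  fin_cases i <;> fin_cases j <;> decide +kernel

theorem hadj_B2 : B2.A.transpose * adj_B2 = (2 : ℤ) • (1 : Matrix (Fin 2) (Fin 2) ℤ) := by
  decide +kernel

theorem weyl_B2 {F : Type*} [Field F] (hF : Facts chevB2)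
    (hR : rootTableOK chevB2 = true) (hNe : negNeOK chevB2 = true)
    (hU : corootUnitOK chevB2 = true)
    (hnorm : Subgroup.normalizer (chevB2.posUnipotent F : Set (GL chevB2.Idx F)) ⊓ chevB2.group F =
      chevB2.borelSubgroup F)
    (hBN : chevB2.borelSubgroup F ⊓ chevB2.monomialSubgroup F = chevB2.diagonalSubgroup F) :
    ∃ ψ : ↥(chevB2.monomialSubgroup F) →* B2.Mx.Group, Function.Surjective ψ ∧
      ψ.ker = (chevB2.diagonalSubgroup F).subgroupOf (chevB2.monomialSubgroup F) ∧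
      ∀ (i : Fin 2) (g : ↥(chevB2.monomialSubgroup F)),
        ((g : GL chevB2.Idx F) : Matrix chevB2.Idx chevB2.Idx F) =
          chevB2.nMat F (chevB2.simple i) 1 → ψ g = B2.Mx.simple i :=
  main hF nfacts_B2 hnfacts_B2 hR hNe hU (rfl : chevB2.rank = 2) B2.φ
    (simple_apply chevB2 vtab_B2 nTabB2 eqv_B2 hnfacts_B2.perm rfl B2.A B2.hA hAV_B2 B2.φ B2.hφ')
    (vecP_injective vtab_B2 8 2 inj_B2)
    (faithful_of chevB2 vtab_B2 B2.A hAV_B2 (fun i => Facts.simple_lt hnfacts_B2 i i.isLt) B2.φ B2.ψ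
      B2.φ_eq B2.ψ_injective adj_B2 2 (by decide) hadj_B2)
    hF.monomial_le_group hnorm hBN

end Cfsg.Agent.Lib.Helper37.Weyl
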