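import Cfsg.Agent.Lib.Helper37.ChevWeyl
import Cfsg.Agent.Lib.Helper25.CoxD4Mat
import Cfsg.Agent.Lib.Helper24.RFAll
import Cfsg.Agent.Lib.Helper24.HT_D4

/-! `N / H ≅ W` for type D4: the checks on the tables. -/

set_option autoImplicit false
set_option maxRecDepth 100000

namespace Cfsg.Agent.Lib.Helper37.Weyl

open Cfsg.Lie Cfsg.Agent.Lib.Helper24 Cfsg.Agent.Lib.Helper25.Cox

/-- the packed coordinates `(A_{p_j, s})_j` of the roots -/
def vtab_D4 : ℕ := 34614314171281312079506735530824198736035155455840630772983838851444395105109869785896923572471249723146757227618081816700042842971460132913409883573290123244089857018140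

theorem eqv_D4 : eqvOK chevD4 vtab_D4 nTabD4 = true := by decide +kernel

theorem inj_D4 : injOK vtab_D4 24 4 = true := by decide +kernel

def adj_D4 : Matrix (Fin 4) (Fin 4) ℤ := !![2, 2, 1, 1; 2, 4, 2, 2; 1, 2, 2, 1; 1, 2, 1, 2]

theorem hAV_D4 : ∀ i j : Fin 4, D4.A i j = vecP vtab_D4 4 (chevD4.simple i) j := by
  intro i j
  fin_cases i <;> fin_cases j <;> decide +kernel

theorem hadj_D4 : D4.A.transpose * adj_D4 = (2 : ℤ) • (1 : Matrix (Fin 4) (Fin 4) ℤ) := by
  decide +kernel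

theorem weyl_D4 {F : Type*} [Field F] (hF : Facts chevD4)
    (hR : rootTableOK chevD4 = true) (hNe : negNeOK chevD4 = true)
    (hU : corootUnitOK chevD4 = true)
    (hnorm : Subgroup.normalizer (chevD4.posUnipotent F : Set (GL chevD4.Idx F)) ⊓ chevD4.group F =
      chevD4.borelSubgroup F)
    (hBN : chevD4.borelSubgroup F ⊓ chevD4.monomialSubgroup F = chevD4.diagonalSubgroup F) :
    ∃ ψ : ↥(chevD4.monomialSubgroup F) →* D4.Mx.Group, Function.Surjective ψ ∧
      ψ.ker = (chevD4.diagonalSubgroup F).subgroupOf (chevD4.monomialSubgroup F) ∧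
      ∀ (i : Fin 4) (g : ↥(chevD4.monomialSubgroup F)),
        ((g : GL chevD4.Idx F) : Matrix chevD4.Idx chevD4.Idx F) =
          chevD4.nMat F (chevD4.simple i) 1 → ψ g = D4.Mx.simple i :=
  main hF nfacts_D4 hnfacts_D4 hR hNe hU (rfl : chevD4.rank = 4) D4.φ
    (simple_apply chevD4 vtab_D4 nTabD4 eqv_D4 hnfacts_D4.perm rfl D4.A D4.hA hAV_D4 D4.φ D4.hφ')
    (vecP_injective vtab_D4 24 4 inj_D4)
    (faithful_of chevD4 vtab_D4 D4.A hAV_D4 (fun i => Facts.simple_lt hnfacts_D4 i i.isLt) D4.φ D4.ψ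
      D4.φ_eq D4.ψ_injective adj_D4 2 (by decide) hadj_D4)
    hF.monomial_le_group hnorm hBN

end Cfsg.Agent.Lib.Helper37.Weyl
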