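import Cfsg.Agent.Lib.Helper37.ChevWeyl
import Cfsg.Agent.Lib.Helper25.CoxE6Mat
import Cfsg.Agent.Lib.Helper24.RFAll
import Cfsg.Agent.Lib.Helper24.HT_E6

/-! `N / H ≅ W` for type E6: the checks on the tables. -/

set_option autoImplicit false
set_option maxRecDepth 100000

namespace Cfsg.Agent.Lib.Helper37.Weyl

open Cfsg.Lie Cfsg.Agent.Lib.Helper24 Cfsg.Agent.Lib.Helper25.Cox

/-- the packed coordinates `(A_{p_j, s})_j` of the roots -/
def vtab_E6 : ℕ := 135093995753556902914769983143847657279647265235885463554127847583588142958689298662747280913289767246587652832167283135144582118276036119049188844659165748629186655249026224995385335481626027363008878959000725101852300544669749239369104860370614052074358173384413911319709160472061314698591450524782763884608402935136425989014044145539878972330957600761495176522773343842492458361703614102776390577740017625688474600833493841623876846513627826440692431205507423686718469913688113655536225850133094199019329444909304092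

theorem eqv_E6 : eqvOK chevE6 vtab_E6 nTabE6 = true := by decide +kernel

theorem inj_E6 : injOK vtab_E6 72 6 = true := by decide +kernel

def adj_E6 : Matrix (Fin 6) (Fin 6) ℤ := !![4, 3, 5, 6, 4, 2; 3, 6, 6, 9, 6, 3; 5, 6, 10, 12, 8, 4; 6, 9, 12, 18, 12, 6; 4, 6, 8, 12, 10, 5; 2, 3, 4, 6, 5, 4]

theorem hAV_E6 : ∀ i j : Fin 6, E6.A i j = vecP vtab_E6 6 (chevE6.simple i) j := by
  intro i j
  fin_cases i <;> fin_cases j <;> decide +kernel

theorem hadj_E6 : E6.A.transpose * adj_E6 = (3 : ℤ) • (1 : Matrix (Fin 6) (Fin 6) ℤ) := by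
  decide +kernel

theorem weyl_E6 {F : Type*} [Field F] (hF : Facts chevE6)
    (hR : rootTableOK chevE6 = true) (hNe : negNeOK chevE6 = true)
    (hU : corootUnitOK chevE6 = true)
    (hnorm : Subgroup.normalizer (chevE6.posUnipotent F : Set (GL chevE6.Idx F)) ⊓ chevE6.group F =
      chevE6.borelSubgroup F)
    (hBN : chevE6.borelSubgroup F ⊓ chevE6.monomialSubgroup F = chevE6.diagonalSubgroup F) :
    ∃ ψ : ↥(chevE6.monomialSubgroup F) →* E6.Mx.Group, Function.Surjective ψ ∧
      ψ.ker = (chevE6.diagonalSubgroup F).subgroupOf (chevE6.monomialSubgroup F) ∧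
      ∀ (i : Fin 6) (g : ↥(chevE6.monomialSubgroup F)),
        ((g : GL chevE6.Idx F) : Matrix chevE6.Idx chevE6.Idx F) =
          chevE6.nMat F (chevE6.simple i) 1 → ψ g = E6.Mx.simple i :=
  main hF nfacts_E6 hnfacts_E6 hR hNe hU (rfl : chevE6.rank = 6) E6.φ
    (simple_apply chevE6 vtab_E6 nTabE6 eqv_E6 hnfacts_E6.perm rfl E6.A E6.hA hAV_E6 E6.φ E6.hφ')
    (vecP_injective vtab_E6 72 6 inj_E6)
    (faithful_of chevE6 vtab_E6 E6.A hAV_E6 (fun i => Facts.simple_lt hnfacts_E6 i i.isLt) E6.φ E6.ψ
      E6.φ_eq E6.ψ_injective adj_E6 3 (by decide) hadj_E6)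
    hF.monomial_le_group hnorm hBN

end Cfsg.Agent.Lib.Helper37.Weyl
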