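import Cfsg.Agent.Lib.Helper37.ChevWeyl
import Cfsg.Agent.Lib.Helper25.CoxE7Mat
import Cfsg.Agent.Lib.Helper24.RFAll
import Cfsg.Agent.Lib.Helper24.HT_E7

/-! `N / H ≅ W` for type E7: the checks on the tables. -/

set_option autoImplicit false
set_option maxRecDepth 100000

namespace Cfsg.Agent.Lib.Helper37.Weyl

open Cfsg.Lie Cfsg.Agent.Lib.Helper24 Cfsg.Agent.Lib.Helper25.Cox

/-- the packed coordinates `(A_{p_j, s})_j` of the roots -/
def vtab_E7 : ℕ := 1474276807134276173465444039984811416094661878257417939097408086936050327773393663848447915481089143326998448177701708269915044249459153541466398699544497867429577120798834390976844549478976913976870331593165811046360047552802451346463589755269725205059416773127284130612846104174873899994938839109676300614436413545646669404436607040562502105667055942456334467598218150614228894983860537827376984890338048869530090432754866283590066748598576638365513894642938732867217987315062666979006370608020114151233041863892618481696871125672148130279840741582989310969972134967683818787490886426071861666819017667453226500041928314679727637122175984539438806869167191736740426411825980590465532522207853707792219466458080047842684847353550160752227591025719970738360919184841945534294652455880846074610062213443364188246423732849026572889487522847804828874150003604126365839332543057971592909971369587230976446601251107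

theorem eqv_E7 : eqvOK chevE7 vtab_E7 nTabE7 = true := by decide +kernel

theorem inj_E7 : injOK vtab_E7 126 7 = true := by decide +kernel

def adj_E7 : Matrix (Fin 7) (Fin 7) ℤ := !![4, 4, 6, 8, 6, 4, 2; 4, 7, 8, 12, 9, 6, 3; 6, 8, 12, 16, 12, 8, 4; 8, 12, 16, 24, 18, 12, 6; 6, 9, 12, 18, 15, 10, 5; 4, 6, 8, 12, 10, 8, 4; 2, 3, 4, 6, 5, 4, 3]

theorem hAV_E7 : ∀ i j : Fin 7, E7.A i j = vecP vtab_E7 7 (chevE7.simple i) j := by
  intro i j
  fin_cases i <;> fin_cases j <;> decide +kernel

theorem hadj_E7 : E7.A.transpose * adj_E7 = (2 : ℤ) • (1 : Matrix (Fin 7) (Fin 7) ℤ) := by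
  decide +kernel

theorem weyl_E7 {F : Type*} [Field F] (hF : Facts chevE7)
    (hR : rootTableOK chevE7 = true) (hNe : negNeOK chevE7 = true)
    (hU : corootUnitOK chevE7 = true)
    (hnorm : Subgroup.normalizer (chevE7.posUnipotent F : Set (GL chevE7.Idx F)) ⊓ chevE7.group F =
      chevE7.borelSubgroup F)
    (hBN : chevE7.borelSubgroup F ⊓ chevE7.monomialSubgroup F = chevE7.diagonalSubgroup F) :
    ∃ ψ : ↥(chevE7.monomialSubgroup F) →* E7.Mx.Group, Function.Surjective ψ ∧
      ψ.ker = (chevE7.diagonalSubgroup F).subgroupOf (chevE7.monomialSubgroup F) ∧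
      ∀ (i : Fin 7) (g : ↥(chevE7.monomialSubgroup F)),
        ((g : GL chevE7.Idx F) : Matrix chevE7.Idx chevE7.Idx F) =
          chevE7.nMat F (chevE7.simple i) 1 → ψ g = E7.Mx.simple i :=
  main hF nfacts_E7 hnfacts_E7 hR hNe hU (rfl : chevE7.rank = 7) E7.φ
    (simple_apply chevE7 vtab_E7 nTabE7 eqv_E7 hnfacts_E7.perm rfl E7.A E7.hA hAV_E7 E7.φ E7.hφ')
    (vecP_injective vtab_E7 126 7 inj_E7)
    (faithful_of chevE7 vtab_E7 E7.A hAV_E7 (fun i => Facts.simple_lt hnfacts_E7 i i.isLt) E7.φ E7.ψ
      E7.φ_eq E7.ψ_injective adj_E7 2 (by decide) hadj_E7)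
    hF.monomial_le_group hnorm hBN

end Cfsg.Agent.Lib.Helper37.Weyl
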