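import Cfsg.Agent.Lib.Helper37.ChevWeyl
import Cfsg.Agent.Lib.Helper25.CoxE8Mat
import Cfsg.Agent.Lib.Helper24.RFAll
import Cfsg.Agent.Lib.Helper24.HT_E8

/-! `N / H ≅ W` for type E8: the checks on the tables. -/

set_option autoImplicit false
set_option maxRecDepth 100000

namespace Cfsg.Agent.Lib.Helper37.Weyl

open Cfsg.Lie Cfsg.Agent.Lib.Helper24 Cfsg.Agent.Lib.Helper25.Cox

/-- the packed coordinates `(A_{p_j, s})_j` of the roots -/
def vtab_E8 : ℕ := 59655652528070330002159407081028921775226319300551102310050019600365217504778207477151037466635832099070530559376169769465182626703317986196733120120481191108397440681992068203312331311415586692526840189489229835347934703275326649634524299507110552019777520244268862607934864651660000892826780985681434145503900359421686589065248188310585089327196991198403643015506406021133612341280588090535792484260706122506738960041222901282145769059452385584613702832283207152434002790446855585292789565075976475588072124074220619241762069001933952181241893969777234097035013330524368590632700047089383125939148996269357633146246554284870576955211330639947035922231632180504444169186181115996686081319656400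2698177243928784405608828283116099233216860253115408117330191443869239804032216040416679729012003814299828669642191610070686485464560550188489779409823904299299594756116897363162783790740109540383560151464690735742376604031978007681373098998718630157360438325323328231994946296283514861941640472364205191010904111587507538013376843947074296504750523582504934075006832435337386838838295106627532484116212646143939391877458130709510984959861587281943993627641689843222024595401427526284966454369564345211811420942749771480624521414603167784474969832886467605571537269646177577525117710902596999902436100599303404840513826882691426135938057724288285431852210821379074425561566036985723008871973216307602163218158484979118698929230834580037110612145654785103021698087834877033082196863123450723943973625182905237327043379183324908754396954042982713956201842371312647744458601213883550418434390469639417318904739823561656965026324127861635691276584981735765434184655722549687415600734341158647556494839989808955235778596464721061676007627573540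

theorem eqv_E8 : eqvOK chevE8 vtab_E8 nTabE8 = true := by decide +kernel

theorem inj_E8 : injOK vtab_E8 240 8 = true := by decide +kernel

def adj_E8 : Matrix (Fin 8) (Fin 8) ℤ := !![4, 5, 7, 10, 8, 6, 4, 2; 5, 8, 10, 15, 12, 9, 6, 3; 7, 10, 14, 20, 16, 12, 8, 4; 10, 15, 20, 30, 24, 18, 12, 6; 8, 12, 16, 24, 20, 15, 10, 5; 6, 9, 12, 18, 15, 12, 8, 4; 4, 6, 8, 12, 10, 8, 6, 3; 2, 3, 4, 6, 5, 4, 3, 2]

theorem hAV_E8 : ∀ i j : Fin 8, E8.A i j = vecP vtab_E8 8 (chevE8.simple i) j := by
  intro i j
  fin_cases i <;> fin_cases j <;> decide +kernel

theorem hadj_E8 : E8.A.transpose * adj_E8 = (1 : ℤ) • (1 : Matrix (Fin 8) (Fin 8) ℤ) := by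
  decide +kernel

theorem weyl_E8 {F : Type*} [Field F] (hF : Facts chevE8)
    (hR : rootTableOK chevE8 = true) (hNe : negNeOK chevE8 = true)
    (hU : corootUnitOK chevE8 = true)
    (hnorm : Subgroup.normalizer (chevE8.posUnipotent F : Set (GL chevE8.Idx F)) ⊓ chevE8.group F =
      chevE8.borelSubgroup F)
    (hBN : chevE8.borelSubgroup F ⊓ chevE8.monomialSubgroup F = chevE8.diagonalSubgroup F) :
    ∃ ψ : ↥(chevE8.monomialSubgroup F) →* E8.Mx.Group, Function.Surjective ψ ∧
      ψ.ker = (chevE8.diagonalSubgroup F).subgroupOf (chevE8.monomialSubgroup F) ∧
      ∀ (i : Fin 8) (g : ↥(chevE8.monomialSubgroup F)),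
        ((g : GL chevE8.Idx F) : Matrix chevE8.Idx chevE8.Idx F) =
          chevE8.nMat F (chevE8.simple i) 1 → ψ g = E8.Mx.simple i :=
  main hF nfacts_E8 hnfacts_E8 hR hNe hU (rfl : chevE8.rank = 8) E8.φ
    (simple_apply chevE8 vtab_E8 nTabE8 eqv_E8 hnfacts_E8.perm rfl E8.A E8.hA hAV_E8 E8.φ E8.hφ')
    (vecP_injective vtab_E8 240 8 inj_E8)
    (faithful_of chevE8 vtab_E8 E8.A hAV_E8 (fun i => Facts.simple_lt hnfacts_E8 i i.isLt) E8.φ E8.ψ
      E8.φ_eq E8.ψ_injective adj_E8 1 (by decide) hadj_E8)
    hF.monomial_le_group hnorm hBN

end Cfsg.Agent.Lib.Helper37.Weyl
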