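import Cfsg.Agent.Lib.Helper37.ChevWeyl
import Cfsg.Agent.Lib.Helper25.CoxF4Mat
import Cfsg.Agent.Lib.Helper24.RFAll
import Cfsg.Agent.Lib.Helper24.HT_F4

/-! `N / H ≅ W` for type F4: the checks on the tables. -/

set_option autoImplicit false
set_option maxRecDepth 100000

namespace Cfsg.Agent.Lib.Helper37.Weyl

open Cfsg.Lie Cfsg.Agent.Lib.Helper24 Cfsg.Agent.Lib.Helper25.Cox

/-- the packed coordinates `(A_{p_j, s})_j` of the roots -/
def vtab_F4 : ℕ := 10398834044225532830218362574630385343233771027113958419345136896562205325885387969490368024069364333706781008901469210759494976638201997552368015707553027760461545361827987705446975544513766163918708429586326673215855637278625154402145980145454717922877614354714783331655900047019068133374701024787587067653004835849843903940979419010639595300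

theorem eqv_F4 : eqvOK chevF4 vtab_F4 nTabF4 = true := by decide +kernel

theorem inj_F4 : injOK vtab_F4 48 4 = true := by decide +kernel

def adj_F4 : Matrix (Fin 4) (Fin 4) ℤ := !![2, 3, 4, 2; 3, 6, 8, 4; 2, 4, 6, 3; 1, 2, 3, 2]

theorem hAV_F4 : ∀ i j : Fin 4, F4.A i j = vecP vtab_F4 4 (chevF4.simple i) j := by
  intro i j
  fin_cases i <;> fin_cases j <;> decide +kernel

theorem hadj_F4 : F4.A.transpose * adj_F4 = (1 : ℤ) • (1 : Matrix (Fin 4) (Fin 4) ℤ) := by
  decide +kernel

theorem weyl_F4 {F : Type*} [Field F] (hF : Facts chevF4)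
    (hR : rootTableOK chevF4 = true) (hNe : negNeOK chevF4 = true)
    (hU : corootUnitOK chevF4 = true)
    (hnorm : Subgroup.normalizer (chevF4.posUnipotent F : Set (GL chevF4.Idx F)) ⊓ chevF4.group F =
      chevF4.borelSubgroup F)
    (hBN : chevF4.borelSubgroup F ⊓ chevF4.monomialSubgroup F = chevF4.diagonalSubgroup F) :
    ∃ ψ : ↥(chevF4.monomialSubgroup F) →* F4.Mx.Group, Function.Surjective ψ ∧
      ψ.ker = (chevF4.diagonalSubgroup F).subgroupOf (chevF4.monomialSubgroup F) ∧
      ∀ (i : Fin 4) (g : ↥(chevF4.monomialSubgroup F)),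
        ((g : GL chevF4.Idx F) : Matrix chevF4.Idx chevF4.Idx F) =
          chevF4.nMat F (chevF4.simple i) 1 → ψ g = F4.Mx.simple i :=
  main hF nfacts_F4 hnfacts_F4 hR hNe hU (rfl : chevF4.rank = 4) F4.φ
    (simple_apply chevF4 vtab_F4 nTabF4 eqv_F4 hnfacts_F4.perm rfl F4.A F4.hA hAV_F4 F4.φ F4.hφ')
    (vecP_injective vtab_F4 48 4 inj_F4)
    (faithful_of chevF4 vtab_F4 F4.A hAV_F4 (fun i => Facts.simple_lt hnfacts_F4 i i.isLt) F4.φ F4.ψ
      F4.φ_eq F4.ψ_injective adj_F4 1 (by decide) hadj_F4)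
    hF.monomial_le_group hnorm hBN

end Cfsg.Agent.Lib.Helper37.Weyl
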