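import Cfsg.Agent.Lib.Helper37.ChevWeyl
import Cfsg.Agent.Lib.Helper25.CoxG2Mat
import Cfsg.Agent.Lib.Helper24.RFAll
import Cfsg.Agent.Lib.Helper24.HT_G2

/-! `N / H ≅ W` for type G2: the checks on the tables. -/

set_option autoImplicit false
set_option maxRecDepth 100000

namespace Cfsg.Agent.Lib.Helper37.Weyl

open Cfsg.Lie Cfsg.Agent.Lib.Helper24 Cfsg.Agent.Lib.Helper25.Cox

/-- the packed coordinates `(A_{p_j, s})_j` of the roots -/
def vtab_G2 : ℕ := 1304282147941392529936079444221836900997014212389021909345599023114477530926546972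

theorem eqv_G2 : eqvOK chevG2 vtab_G2 nTabG2 = true := by decide +kernel

theorem inj_G2 : injOK vtab_G2 12 2 = true := by decide +kernel

def adj_G2 : Matrix (Fin 2) (Fin 2) ℤ := !![2, 3; 1, 2]

theorem hAV_G2 : ∀ i j : Fin 2, G2.A i j = vecP vtab_G2 2 (chevG2.simple i) j := by
  intro i j
  fin_cases i <;> fin_cases j <;> decide +kernel

theorem hadj_G2 : G2.A.transpose * adj_G2 = (1 : ℤ) • (1 : Matrix (Fin 2) (Fin 2) ℤ) := by
  decide +kernel

theorem weyl_G2 {F : Type*} [Field F] (hF : Facts chevG2)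
    (hR : rootTableOK chevG2 = true) (hNe : negNeOK chevG2 = true)
    (hU : corootUnitOK chevG2 = true)
    (hnorm : Subgroup.normalizer (chevG2.posUnipotent F : Set (GL chevG2.Idx F)) ⊓ chevG2.group F =
      chevG2.borelSubgroup F)
    (hBN : chevG2.borelSubgroup F ⊓ chevG2.monomialSubgroup F = chevG2.diagonalSubgroup F) :
    ∃ ψ : ↥(chevG2.monomialSubgroup F) →* G2.Mx.Group, Function.Surjective ψ ∧
      ψ.ker = (chevG2.diagonalSubgroup F).subgroupOf (chevG2.monomialSubgroup F) ∧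
      ∀ (i : Fin 2) (g : ↥(chevG2.monomialSubgroup F)),
        ((g : GL chevG2.Idx F) : Matrix chevG2.Idx chevG2.Idx F) =
          chevG2.nMat F (chevG2.simple i) 1 → ψ g = G2.Mx.simple i :=
  main hF nfacts_G2 hnfacts_G2 hR hNe hU (rfl : chevG2.rank = 2) G2.φ
    (simple_apply chevG2 vtab_G2 nTabG2 eqv_G2 hnfacts_G2.perm rfl G2.A G2.hA hAV_G2 G2.φ G2.hφ')
    (vecP_injective vtab_G2 12 2 inj_G2)
    (faithful_of chevG2 vtab_G2 G2.A hAV_G2 (fun i => Facts.simple_lt hnfacts_G2 i i.isLt) G2.φ G2.ψ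
      G2.φ_eq G2.ψ_injective adj_G2 1 (by decide) hadj_G2)
    hF.monomial_le_group hnorm hBN

end Cfsg.Agent.Lib.Helper37.Weyl
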