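import Cfsg.Agent.Lib.Helper37.TC

/-!
# Permutation representation from a coset table (lower bound) and the index theorem
-/

set_option autoImplicit false

namespace Cfsg.Agent.Lib.Helper37.TC

variable {α : Type}

/-- a coset table: images under the generators and their inverses -/
structure PermData (α : Type) where
  /-- number of points -/
  n : Nat
  /-- image under a generator -/
  fw : α → Nat → Nat
  /-- image under the inverse of a generator -/
  bw : α → Nat → Nat

/-- action of a letter -/
def stepP (P : PermData α) (l : α × Bool) (c : Nat) : Nat :=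
  bif l.2 then P.fw l.1 c else P.bw l.1 c

/-- action of a word, the last letter acting first -/
def wk (P : PermData α) : List (α × Bool) → Nat → Nat
  | [], c => c
  | l :: w, c => stepP P l (wk P w c)

/-- the table consists of mutually inverse permutations of `[0, n)` -/
def permOK (P : PermData α) (gens : List α) : Bool :=
  gens.all fun a => (List.range P.n).all fun c =>
    decide (P.fw a c < P.n) && decide (P.bw a c < P.n) &&
      (P.bw a (P.fw a c) == c) && (P.fw a (P.bw a c) == c)

/-- the word acts trivially on all points -/
def trivOK (P : PermData α) (w : List (α × Bool)) : Bool :=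
  (List.range P.n).all fun c => wk P w c == c

/-- transitivity certificate: every point `c > 0` is the image of a smaller point under a letter -/
def treeOK (P : PermData α) (letterOf : Nat → α × Bool) (bits : Nat) (tpar tlet : Nat) : Bool :=
  (List.range P.n).all fun c =>
    (c == 0) || (decide (getF tpar bits c < c) &&
      (stepP P (letterOf (getF tlet 8 c)) (getF tpar bits c) == c))

section

variable (P : PermData α) (gens : List α) (hgens : ∀ a : α, a ∈ gens)
  (hperm : permOK P gens = true)

include hgens hperm in
theorem permOK_spec (a : α) (c : Nat) (hc : c < P.n) :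
    P.fw a c < P.n ∧ P.bw a c < P.n ∧ P.bw a (P.fw a c) = c ∧ P.fw a (P.bw a c) = c := by
  unfold permOK at hperm
  simp only [List.all_eq_true, List.mem_range, Bool.and_eq_true, decide_eq_true_eq,
    beq_iff_eq] at hperm
  have := hperm a (hgens a) c hc
  tauto

/-- the permutation attached to a generator -/
def sigma (a : α) : Equiv.Perm (Fin P.n) where
  toFun i := ⟨P.fw a i, (permOK_spec P gens hgens hperm a i i.2).1⟩
  invFun i := ⟨P.bw a i, (permOK_spec P gens hgens hperm a i i.2).2.1⟩
  left_inv i := Fin.ext (permOK_spec P gens hgens hperm a i i.2).2.2.1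
  right_inv i := Fin.ext (permOK_spec P gens hgens hperm a i i.2).2.2.2

theorem lv_sigma_apply (l : α × Bool) (i : Fin P.n) :
    ((lv (sigma P gens hgens hperm) l) i : Nat) = stepP P l i := by
  rcases l with ⟨a, b⟩
  cases b
  · simp only [lv, cond_false, stepP]
    rfl
  · simp only [lv, cond_true, stepP]
    rfl

theorem wv_sigma_apply (w : List (α × Bool)) (i : Fin P.n) :
    ((wv (sigma P gens hgens hperm) w) i : Nat) = wk P w i := by
  induction w with
  | nil => simp [wv_nil, wk]
  | cons l w ih =>
    rw [wv_cons, Equiv.Perm.mul_apply, lv_sigma_apply, ih]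
    rfl

theorem wv_sigma_eq_one (w : List (α × Bool)) (h : trivOK P w = true) :
    wv (sigma P gens hgens hperm) w = 1 := by
  unfold trivOK at h
  simp only [List.all_eq_true, List.mem_range, beq_iff_eq] at h
  ext i
  rw [wv_sigma_apply]
  simpa using h i i.2

end

/-! ## The index theorem for presented groups -/

section Index

variable (rels : Set (FreeGroup α)) (SF : Set (FreeGroup α))
variable (S : Setup α) (P : PermData α)

/-- hypotheses bundled: everything that is checked by computation or by hand for a problem -/
structure Cert (ncol : Nat) (cert : List Nat) (tpar tlet : Nat) : Prop where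
  hgens : ∀ a : α, a ∈ S.gens
  hcol : ∀ l l' : α × Bool, S.col l = S.col l' →
    lv (fun a => (PresentedGroup.of a : PresentedGroup rels)) l =
      lv (fun a => (PresentedGroup.of a : PresentedGroup rels)) l'
  hrelsTC : ∀ w ∈ S.rels, FreeGroup.mk w ∈ rels
  hsubsTC : ∀ w ∈ S.subs, FreeGroup.mk w ∈ SF
  hrun : ∃ st, run S cert (initSt ncol) = some st ∧ finalOK S st P.n = true
  hpos : 0 < P.n
  hperm : permOK P S.gens = true
  hrelsP : ∀ r ∈ rels, ∃ w : List (α × Bool), r = FreeGroup.mk w ∧ trivOK P w = true
  hsubsP : ∀ s ∈ SF, ∃ w : List (α × Bool), s = FreeGroup.mk w ∧ wk P w 0 = 0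
  htree : treeOK P S.letterOf S.bits tpar tlet = true

variable {rels SF S P}
variable {ncol : Nat} {cert : List Nat} {tpar tlet : Nat}

/-- the subgroup -/
abbrev subH (rels SF : Set (FreeGroup α)) : Subgroup (PresentedGroup rels) :=
  (Subgroup.closure SF).map (PresentedGroup.mk rels)

theorem wv_of (w : List (α × Bool)) :
    wv (fun a => (PresentedGroup.of a : PresentedGroup rels)) w =
      PresentedGroup.mk rels (FreeGroup.mk w) := by
  induction w with
  | nil => rfl
  | cons l w ih =>
    rw [wv_cons, ih]
    rcases l with ⟨a, b⟩
    cases b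
    · change (PresentedGroup.mk rels (FreeGroup.of a))⁻¹ * _ = _
      rw [← map_inv, ← map_mul]
      rfl
    · change (PresentedGroup.of a) * _ = _
      change PresentedGroup.mk rels (FreeGroup.of a) * _ = _
      rw [← map_mul]
      rfl

theorem upper (h : Cert rels SF S P ncol cert tpar tlet) :
    Finite (PresentedGroup rels ⧸ subH rels SF) ∧
      Nat.card (PresentedGroup rels ⧸ subH rels SF) ≤ P.n := by
  obtain ⟨st, hst, hfin⟩ := h.hrun
  let f : α → PresentedGroup rels := fun a => PresentedGroup.of a
  have hrels : ∀ w ∈ S.rels, wv f w = 1 := by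
    intro w hw
    rw [wv_of]
    exact PresentedGroup.one_of_mem (h.hrelsTC w hw)
  have hsubs : ∀ w ∈ S.subs, wv f w •
      (QuotientGroup.mk (1 : PresentedGroup rels) : PresentedGroup rels ⧸ subH rels SF) =
      QuotientGroup.mk (1 : PresentedGroup rels) := by
    intro w hw
    rw [wv_of]
    rw [MulAction.Quotient.smul_mk, smul_eq_mul, mul_one]
    apply QuotientGroup.eq.mpr
    apply Subgroup.mul_mem _ (Subgroup.inv_mem _ ?_) (Subgroup.one_mem _)
    exact Subgroup.mem_map_of_mem _ (Subgroup.subset_closure (h.hsubsTC w hw))
  have hI := run_sound (S := S) (f := f)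
    (x0 := (QuotientGroup.mk (1 : PresentedGroup rels) : PresentedGroup rels ⧸ subH rels SF))
    h.hcol hrels hsubs cert (inv_init ncol) hst
  have hgen : Subgroup.closure (Set.range f) = ⊤ := PresentedGroup.closure_range_of rels
  exact cover hI hfin h.hgens hgen

/-- the permutation representation -/
noncomputable def rho (h : Cert rels SF S P ncol cert tpar tlet) :
    PresentedGroup rels →* Equiv.Perm (Fin P.n) :=
  PresentedGroup.toGroup (f := sigma P S.gens h.hgens h.hperm) (rels := rels) (by
    intro r hr
    obtain ⟨w, rfl, hw⟩ := h.hrelsP r hr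
    rw [← wv_eq_lift]
    exact wv_sigma_eq_one P S.gens h.hgens h.hperm w hw)

theorem rho_mk (h : Cert rels SF S P ncol cert tpar tlet) (w : List (α × Bool)) (i : Fin P.n) :
    ((rho h (PresentedGroup.mk rels (FreeGroup.mk w))) i : Nat) = wk P w i := by
  have : rho h (PresentedGroup.mk rels (FreeGroup.mk w)) =
      wv (sigma P S.gens h.hgens h.hperm) w := by
    rw [wv_eq_lift]
    rfl
  rw [this, wv_sigma_apply]

theorem rho_H (h : Cert rels SF S P ncol cert tpar tlet) (g : PresentedGroup rels)
    (hg : g ∈ subH rels SF) : rho h g ⟨0, h.hpos⟩ = ⟨0, h.hpos⟩ := by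
  have hle : subH rels SF ≤ (MulAction.stabilizer (Equiv.Perm (Fin P.n))
      (⟨0, h.hpos⟩ : Fin P.n)).comap (rho h) := by
    unfold subH
    rw [Subgroup.map_le_iff_le_comap, Subgroup.closure_le]
    intro s hs
    obtain ⟨w, rfl, hw⟩ := h.hsubsP s hs
    simp only [Subgroup.coe_comap, Set.mem_preimage, SetLike.mem_coe, MulAction.mem_stabilizer_iff]
    apply Fin.ext
    change ((rho h (PresentedGroup.mk rels (FreeGroup.mk w))) ⟨0, h.hpos⟩ : Nat) = 0
    rw [rho_mk]
    exact hw
  have := hle hg
  simpa [MulAction.mem_stabilizer_iff] using this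

/-- the map from cosets to points -/
noncomputable def phi (h : Cert rels SF S P ncol cert tpar tlet) :
    PresentedGroup rels ⧸ subH rels SF → Fin P.n :=
  fun x => Quotient.liftOn' x (fun g => rho h g ⟨0, h.hpos⟩) (by
    intro a b hab
    rw [QuotientGroup.leftRel_apply] at hab
    have := rho_H h _ hab
    rw [map_mul, map_inv, Equiv.Perm.mul_apply] at this
    have h2 := congrArg (rho h a) this
    rw [Equiv.Perm.inv_def, Equiv.apply_symm_apply] at h2
    exact h2.symm)

theorem phi_mk (h : Cert rels SF S P ncol cert tpar tlet) (g : PresentedGroup rels) :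
    phi h (g : _ ⧸ _) = rho h g ⟨0, h.hpos⟩ := rfl

theorem phi_smul (h : Cert rels SF S P ncol cert tpar tlet) (g : PresentedGroup rels)
    (x : PresentedGroup rels ⧸ subH rels SF) : phi h (g • x) = rho h g (phi h x) := by
  induction x using Quotient.inductionOn' with
  | h a =>
    change phi h ((g * a : PresentedGroup rels) : _ ⧸ _) = _
    rw [phi_mk, map_mul, Equiv.Perm.mul_apply]
    rfl

theorem phi_surj (h : Cert rels SF S P ncol cert tpar tlet) : Function.Surjective (phi h) := by
  have key : ∀ c : Nat, ∀ hc : c < P.n, ∃ x, phi h x = ⟨c, hc⟩ := by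
    intro c
    induction c using Nat.strong_induction_on with
    | _ c ih =>
      intro hc
      have ht := h.htree
      unfold treeOK at ht
      simp only [List.all_eq_true, List.mem_range, Bool.or_eq_true, beq_iff_eq,
        Bool.and_eq_true, decide_eq_true_eq] at ht
      rcases ht c hc with h0 | ⟨hlt, hstep⟩
      · subst h0
        exact ⟨((1 : PresentedGroup rels) : _ ⧸ _), by rw [phi_mk, map_one]; rfl⟩
      · obtain ⟨x, hx⟩ := ih _ hlt (lt_trans hlt hc)
        refine ⟨(PresentedGroup.mk rels (FreeGroup.mk [S.letterOf (getF tlet 8 c)])) • x, ?_⟩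
        rw [phi_smul, hx]
        apply Fin.ext
        rw [rho_mk]
        exact hstep
  intro i
  exact key i.1 i.2

theorem index_eq (h : Cert rels SF S P ncol cert tpar tlet) :
    (subH rels SF).index = P.n := by
  obtain ⟨hfin, hle⟩ := upper h
  rw [Subgroup.index_eq_card]
  apply le_antisymm hle
  have := Nat.card_le_card_of_surjective (phi h) (phi_surj h)
  simpa using this

theorem phi_bij (h : Cert rels SF S P ncol cert tpar tlet) : Function.Bijective (phi h) := by
  obtain ⟨hfin, hle⟩ := upper h
  refine ⟨?_, phi_surj h⟩
  have hcard : Nat.card (PresentedGroup rels ⧸ subH rels SF) = Nat.card (Fin P.n) := by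
    have := index_eq h
    rw [Subgroup.index_eq_card] at this
    simpa using this
  exact ((Nat.bijective_iff_surjective_and_card (phi h)).mpr ⟨phi_surj h, hcard⟩).1

end Index

/-- run the trace and perform the final check -/
def checkRun (S : Setup α) (cert : List Nat) (ncol n : Nat) : Bool :=
  match run S cert (initSt ncol) with
  | none => false
  | some st => finalOK S st n

theorem checkRun_spec {S : Setup α} {cert : List Nat} {ncol n : Nat}
    (h : checkRun S cert ncol n = true) :
    ∃ st, run S cert (initSt ncol) = some st ∧ finalOK S st n = true := by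
  unfold checkRun at h
  split at h
  · exact absurd h (by simp)
  · next st hst => exact ⟨st, hst, h⟩

end Cfsg.Agent.Lib.Helper37.TC
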