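import Cfsg.Prelude.Def_SporCoxeter
import Cfsg.Agent.Lib.Helper37.TCPerm

/-!
# Lemmas on the Coxeter-graph presentations
-/

set_option autoImplicit false

namespace Cfsg.Agent.Lib.Helper37.TC

open Cfsg.Spor

variable {α : Type} [DecidableEq α]

/-- the word `(x y)^m` -/
def coxWord (x y : α) (m : Nat) : List (α × Bool) :=
  (List.replicate m [(x, true), (y, true)]).flatten

theorem mk_coxWord (x y : α) (m : Nat) :
    FreeGroup.mk (coxWord x y m) = (FreeGroup.of x * FreeGroup.of y) ^ m := by
  induction m with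
  | zero => rfl
  | succ m ih =>
    rw [pow_succ', ← ih]
    unfold coxWord
    rw [List.replicate_succ, List.flatten_cons, ← FreeGroup.mul_mk]
    rfl

/-- every relator of the Coxeter part is the class of a `coxWord` -/
theorem coxRelators_word (edges : List (α × ℕ × α)) (r : FreeGroup α) (hr : r ∈ coxRelators edges) :
    ∃ x ∈ coxNodes edges, ∃ y ∈ coxNodes edges,
      r = FreeGroup.mk (coxWord x y (coxLabel edges x y)) := by
  obtain ⟨x, hx, y, hy, rfl⟩ := hr
  exact ⟨x, hx, y, hy, (mk_coxWord x y _).symm⟩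

theorem coxWord_mem (edges : List (α × ℕ × α)) (x y : α) (hx : x ∈ coxNodes edges)
    (hy : y ∈ coxNodes edges) :
    FreeGroup.mk (coxWord x y (coxLabel edges x y)) ∈ coxRelators edges :=
  ⟨x, hx, y, hy, mk_coxWord x y _⟩

/-- a node generator is an involution in the presented group -/
theorem cox_of_inv (edges : List (α × ℕ × α)) (extra : Set (FreeGroup α)) (x : α)
    (hx : x ∈ coxNodes edges) :
    (PresentedGroup.of x : PresentedGroup (coxRelators edges ∪ extra))⁻¹ = PresentedGroup.of x := by
  have h1 : (FreeGroup.of x * FreeGroup.of x) ^ coxLabel edges x x ∈ coxRelators edges ∪ extra :=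
    Or.inl ⟨x, hx, x, hx, rfl⟩
  have h2 : coxLabel edges x x = 1 := by simp [coxLabel]
  rw [h2, pow_one] at h1
  have h3 := PresentedGroup.one_of_mem h1
  rw [map_mul] at h3
  exact inv_eq_of_mul_eq_one_left h3

end Cfsg.Agent.Lib.Helper37.TC
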