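import Cfsg.Agent.Lib.Helper33.F4Tor
import Cfsg.Agent.Lib.Helper33.F4Sigma
import Cfsg.Agent.Lib.Helper33.ReeEngine
import Cfsg.Agent.Lib.Helper33.TwBNChev

/-!
K-2F4-B3 (keystone 108904): transport of the classes of positive roots of `F₄` by the words `wordsF`, and the
representatives `nW wordsF[k]` as products of `s1F`, `s2F`.
-/

set_option autoImplicit false
set_option linter.unusedSimpArgs false
set_option linter.unusedVariables false

namespace Cfsg.Agent.Lib.Helper37.F4

open Cfsg.Lie Cfsg.Agent.Lib.Helper24 Cfsg.Agent.Lib.Helper33.F4 Cfsg.Agent.Lib.Helper33.TwBN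

theorem wordsF_lt : ∀ k < 8, ∀ i ∈ wordsF.getD k [], i < chevF4.rank := by decide

theorem fundF_lt : ∀ k < 8, ∀ s ∈ fundF k, s < chevF4.nroots := by decide

section b3

variable {K : Type*} [Field K]

/-- conjugation by the inverse of `n_w` maps `x_{w s}(t)` to `x_s(±t)` -/
theorem nW_inv_conj (w : List ℕ) (hw : ∀ i ∈ w, i < chevF4.rank) (s : ℕ) (hs : s < chevF4.nroots)
    (t : K) : ∃ t' : K, ((envF4 K).hF.nW w)⁻¹ * (envF4 K).hF.xGL (rhoW chevF4 w s) t *
      (envF4 K).hF.nW w = (envF4 K).hF.xGL s t' := by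
  obtain ⟨η, hη, h⟩ := (envF4 K).hF.nW_conj (F := K) (envF4 K).hN w hw s hs
  refine ⟨(η : K) * t, ?_⟩
  have h1 := h ((η : K) * t)
  have hη2 : (η : K) * ((η : K) * t) = t := by
    rcases hη with rfl | rfl <;> simp
  rw [hη2] at h1
  rw [← h1]
  group

theorem conj_class (k : ℕ) (hk : k < 8) (g : GL chevF4.Idx K) :
    g ∈ rootClosure chevF4 K (· ∈ classesF.getD k []) ↔
      ((envF4 K).hF.nW (wordsF.getD k []))⁻¹ * g * (envF4 K).hF.nW (wordsF.getD k []) ∈
        rootClosure chevF4 K (· ∈ fundF k) := by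
  have hw := wordsF_lt k hk
  constructor
  · intro hg
    have hle : rootClosure chevF4 K (· ∈ classesF.getD k []) ≤
        (rootClosure chevF4 K (· ∈ fundF k)).comap
          (MulAut.conj ((envF4 K).hF.nW (F := K) (wordsF.getD k []))⁻¹).toMonoidHom := by
      conv_lhs => unfold rootClosure
      rw [Subgroup.closure_le]
      rintro x ⟨r, t, hr, hx⟩
      rw [SetLike.mem_coe, Subgroup.mem_comap]
      simp only [MulEquiv.coe_toMonoidHom, MulAut.conj_apply, inv_inv]
      rw [(envF4 K).hF.eq_xGL x r t hx]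
      have hr' : r ∈ (fundF k).map (rhoW chevF4 (wordsF.getD k [])) := by
        rw [wordsF_spec k hk]; exact hr
      rw [List.mem_map] at hr'
      obtain ⟨s, hs, rfl⟩ := hr'
      obtain ⟨t', ht'⟩ := nW_inv_conj (K := K) _ hw s (fundF_lt k hk s hs) t
      rw [ht']
      exact (envF4 K).hF.xGL_mem_rootClosure _ s hs t'
    have h1 := hle hg
    rw [Subgroup.mem_comap] at h1
    simpa [MulAut.conj_apply] using h1
  · intro hg
    have h1 := (envF4 K).conj_rootClosure_nW (wordsF.getD k []) hw (· ∈ fundF k)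
      (· ∈ classesF.getD k []) (fun s hs => ⟨fundF_lt k hk s hs, by
        rw [← wordsF_spec k hk]; exact List.mem_map_of_mem hs⟩) _ hg
    have : (envF4 K).hF.nW (wordsF.getD k []) *
        (((envF4 K).hF.nW (wordsF.getD k []))⁻¹ * g * (envF4 K).hF.nW (wordsF.getD k [])) *
        ((envF4 K).hF.nW (wordsF.getD k []))⁻¹ = g := by group
    rwa [this] at h1

theorem nW_wordsF_mem (G : Subgroup (GL chevF4.Idx K)) (h1 : s1F K ∈ G) (h2 : s2F K ∈ G) (k : ℕ)
    (hk : k < 8) : (envF4 K).hF.nW (wordsF.getD k []) ∈ G := by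
  have e1 : (envF4 K).hF.nW (F := K) [] = 1 := by simp [Facts.nW]
  unfold s1F at h1
  unfold s2F at h2
  have key : ∀ w ∈ wordsF, (envF4 K).hF.nW (F := K) w ∈ G := by
    intro w hw
    simp only [wordsF, List.mem_cons, List.not_mem_nil, or_false] at hw
    rcases hw with rfl | rfl | rfl | rfl | rfl | rfl | rfl | rfl
    · rw [e1]; exact G.one_mem
    · exact h1
    · rw [show ([0, 3, 1, 2, 1, 2] : List ℕ) = [0, 3] ++ [1, 2, 1, 2] from rfl, Facts.nW_app]
      exact G.mul_mem h1 h2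
    · rw [show ([0, 3, 1, 2, 1, 2, 0, 3] : List ℕ) = [0, 3] ++ ([1, 2, 1, 2] ++ [0, 3]) from rfl,
        Facts.nW_app, Facts.nW_app]
      exact G.mul_mem h1 (G.mul_mem h2 h1)
    · rw [show ([1, 2, 1, 2, 0, 3, 1, 2, 1, 2] : List ℕ) = [1, 2, 1, 2] ++ ([0, 3] ++ [1, 2, 1, 2]) from rfl,
        Facts.nW_app, Facts.nW_app]
      exact G.mul_mem h2 (G.mul_mem h1 h2)
    · rw [show ([1, 2, 1, 2, 0, 3] : List ℕ) = [1, 2, 1, 2] ++ [0, 3] from rfl, Facts.nW_app]
      exact G.mul_mem h2 h1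
    · exact h2
    · rw [e1]; exact G.one_mem
  by_cases hlen : k < wordsF.length
  · have : wordsF.getD k [] = wordsF[k] := by simp [List.getD, hlen]
    rw [this]
    exact key _ (List.getElem_mem hlen)
  · exfalso
    simp [wordsF] at hlen
    omega

end b3

end Cfsg.Agent.Lib.Helper37.F4
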