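import Cfsg.Agent.Lib.Helper37.CellCent
import Cfsg.Agent.Lib.Helper37.F4CentTab

/-!
# The centralisers of the involutions `x_47(1) x_44(1)` and `x_39(1) x_45(1)` of `F₄(q)`, `q` even (S2179)
-/

set_option autoImplicit false
set_option linter.unusedSimpArgs false
set_option linter.unusedVariables false
set_option linter.unusedSectionVars false
set_option maxRecDepth 100000

namespace Cfsg.Agent.Lib.Helper37.F4Cent

open Cfsg.Lie Matrix
open Cfsg.Agent.Lib.Helper24
open Cfsg.Agent.Lib.Helper37.G2Cent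
open Cfsg.Agent.Lib.Helper37.CellCent

section f4

variable {F : Type*} [Field F]

theorem posRoots_F4 : chevF4.posRoots =
    [24, 25, 26, 27, 28, 29, 30, 31, 32, 33, 34, 35, 36, 37, 38, 39, 40, 41, 42, 43, 44, 45, 46, 47] := by
  decide

/-- the positive roots and `-p₂`, `-p₃` -/
abbrev LRa : List ℕ :=
  [24, 25, 26, 27, 28, 29, 30, 31, 32, 33, 34, 35, 36, 37, 38, 39, 40, 41, 42, 43, 44, 45, 46, 47, 20, 22]

/-- the positive roots and `-p₁`, `-p₄` -/
abbrev LRb : List ℕ :=
  [24, 25, 26, 27, 28, 29, 30, 31, 32, 33, 34, 35, 36, 37, 38, 39, 40, 41, 42, 43, 44, 45, 46, 47, 14, 23]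

theorem pos_le_list (L : List ℕ) (h : ∀ r ∈ chevF4.posRoots, r ∈ L) :
    chevF4.posUnipotent F ≤ rootClosure chevF4 F (· ∈ L) := by
  unfold ChevalleyDatum.posUnipotent rootClosure
  apply Subgroup.closure_mono
  rintro g ⟨s, u, hs, hg⟩
  exact ⟨s, u, h s ((mem_posRoots chevF4 s).mpr hs), hg⟩

theorem PL_le_list (E : Env chevF4 F nTabF4 orbTabF4) (J L : List ℕ)
    (hpos : ∀ r ∈ chevF4.posRoots, r ∈ L)
    (hJ : ∀ j ∈ J, chevF4.simple j ∈ L ∧ chevF4.neg (chevF4.simple j) ∈ L) :
    PL chevF4 F J ≤ rootClosure chevF4 F (· ∈ L) ⊔ chevF4.diagonalSubgroup F := by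
  unfold PL ChevalleyDatum.parabolicSubgroup
  apply sup_le
  · unfold ChevalleyDatum.borelSubgroup
    exact sup_le_sup_right (pos_le_list L hpos) _
  · rw [Subgroup.closure_le]
    rintro g ⟨j, hj, hjr, hg⟩
    have hgn : g = E.hF.nS j := Units.ext (by rw [hg, E.hF.nS_val])
    rw [hgn]
    apply Subgroup.mem_sup_left
    unfold Facts.nS Facts.nGL
    apply E.hF.wordGL_mem_rootClosure
    intro p hp
    obtain ⟨h1, h2⟩ := hJ j hj
    simp only [ChevalleyDatum.nWord, List.mem_cons, List.not_mem_nil, or_false] at hp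
    rcases hp with rfl | rfl | rfl
    · exact h1
    · exact h2
    · exact h1

/-- the torus relation `h x_r(1) = x_r(χ_r(h)) h` -/
theorem torus_rel (E : Env chevF4 F nTabF4 orbTabF4) (h : GL chevF4.Idx F) (c : ℕ → F)
    (hc : ∀ i, c i ≠ 0)
    (hdiag : (h : Matrix chevF4.Idx chevF4.Idx F) = Matrix.diagonal
      (fun idx : chevF4.Idx => torusEntry chevF4 (List.range chevF4.rank) c (enc chevF4 idx)))
    (r : ℕ) (hr : r < chevF4.nroots) (t : F) :
    h * E.hF.xGL r t =
      E.hF.xGL r (torusEntry chevF4 (List.range chevF4.rank) c (chevF4.rank + r) * t) * h := by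
  have h1 := E.hF.torus_mul_xMat c hc ⟨r, hr⟩ t
  have h2 : (h : Matrix chevF4.Idx chevF4.Idx F) * chevF4.x F r t =
      chevF4.x F r (torusEntry chevF4 (List.range chevF4.rank) c (chevF4.rank + r) * t) *
        (h : Matrix chevF4.Idx chevF4.Idx F) := by
    rw [hdiag]
    unfold ChevalleyDatum.x
    rw [dif_pos hr, dif_pos hr]
    exact h1
  exact Units.ext (by simpa using h2)

/-- a torus element with trivial parameters outside `I` lies in the subgroup generated by the
`X_{±p_i}`, `i ∈ I` -/
theorem torus_mem (E : Env chevF4 F nTabF4 orbTabF4) (h : GL chevF4.Idx F) (c : ℕ → F)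
    (hc : ∀ i, c i ≠ 0)
    (hdiag : (h : Matrix chevF4.Idx chevF4.Idx F) = Matrix.diagonal
      (fun idx : chevF4.Idx => torusEntry chevF4 (List.range chevF4.rank) c (enc chevF4 idx)))
    (L : List ℕ)
    (hI : ∀ i < chevF4.rank, c i = 1 ∨ (chevF4.simple i ∈ L ∧ chevF4.neg (chevF4.simple i) ∈ L)) :
    h ∈ rootClosure chevF4 F (· ∈ L) := by
  have hword : h = E.hF.wordGL
      ((List.range chevF4.rank).flatMap fun i => chevF4.hWord (chevF4.simple i) (c i)) := by
    apply E.hF.eq_wordGL
    rw [hdiag, E.hF.wordMat_simple_torus simpleOK_F4 c (List.range chevF4.rank)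
      (fun i hi => ⟨List.mem_range.mp hi, hc i⟩)]
  rw [hword]
  apply E.hF.wordGL_flatMap_mem
  intro i hi
  have hi' := List.mem_range.mp hi
  rcases hI i hi' with h1 | ⟨h1, h2⟩
  · have : E.hF.wordGL (chevF4.hWord (chevF4.simple i) (c i)) = 1 := by
      apply Units.ext
      rw [E.hF.wordGL_val, h1]
      show chevF4.hMat F (chevF4.simple i) 1 = 1
      rw [E.hF.hMat_root _ (simpleOK_spec chevF4 simpleOK_F4 i hi').1 1 one_ne_zero]
      simp
    rw [this]
    exact Subgroup.one_mem _
  · apply E.hF.wordGL_mem_rootClosure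
    intro p hp
    simp only [ChevalleyDatum.hWord, ChevalleyDatum.nWord, List.mem_append, List.mem_cons,
      List.not_mem_nil, or_false] at hp
    rcases hp with (rfl | rfl | rfl) | (rfl | rfl | rfl)
    · exact h1
    · exact h2
    · exact h1
    · exact h1
    · exact h2
    · exact h1

end f4

section parta

variable {F : Type*} [Field F] [CharP F 2]

theorem comm_a : ∀ k ∈ [44, 47], ∀ k' ∈ [44, 47], k = k' ∨ commEvenOK chevF4 k k' = true := by
  decide

theorem setup_a (E : Env chevF4 F nTabF4 orbTabF4) :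
    Setup E [44, 47] [44, 47]
      (rootClosure chevF4 F (· ∈ LRa) ⊔ chevF4.diagonalSubgroup F) where
  sorted := by decide
  pos := by decide
  TΨ := by decide
  comm := fun k hk k' hk' t u => commute2 E k k' (comm_a k hk k' hk') t u
  normQ := sup_le (rootClosure_le_normalizer2 E _ LRa (by decide) (by decide) (by decide))
    (diagonal_le_normalizer_rootClosure E _ (by decide))
  normQρ := by
    intro ρ hρ
    simp only [List.mem_cons, List.not_mem_nil, or_false] at hρ
    rcases hρ with rfl | rfl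
    · have e : ([44, 47] : List ℕ).erase 44 = [47] := by decide
      rw [e]
      exact sup_le (rootClosure_le_normalizer2 E _ LRa (by decide) (by decide) (by decide))
        (diagonal_le_normalizer_rootClosure E _ (by decide))
    · have e : ([44, 47] : List ℕ).erase 47 = [44] := by decide
      rw [e]
      exact sup_le (rootClosure_le_normalizer2 E _ LRa (by decide) (by decide) (by decide))
        (diagonal_le_normalizer_rootClosure E _ (by decide))

theorem rootClosure_LRa : rootClosure chevF4 F (· ∈ LRa) =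
    chevF4.posUnipotent F ⊔ chevF4.rootSubgroup F 20 ⊔ chevF4.rootSubgroup F 22 := by
  apply le_antisymm
  · unfold rootClosure
    rw [Subgroup.closure_le]
    rintro g ⟨s, u, hs, hg⟩
    by_cases h20 : s = 20
    · subst h20
      exact Subgroup.mem_sup_left (Subgroup.mem_sup_right (Subgroup.subset_closure ⟨u, hg⟩))
    · by_cases h22 : s = 22
      · subst h22
        exact Subgroup.mem_sup_right (Subgroup.subset_closure ⟨u, hg⟩)
      · have hp : s ∈ chevF4.posRoots := by
          rw [posRoots_F4]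
          simp only [List.mem_cons, List.not_mem_nil, or_false] at hs ⊢
          omega
        exact Subgroup.mem_sup_left (Subgroup.mem_sup_left
          (Subgroup.subset_closure ⟨s, u, (mem_posRoots chevF4 s).mp hp, hg⟩))
  · refine sup_le (sup_le (pos_le_list LRa (by decide)) ?_) ?_
    · unfold ChevalleyDatum.rootSubgroup rootClosure
      apply Subgroup.closure_mono
      rintro g ⟨u, hg⟩
      exact ⟨20, u, by decide, hg⟩
    · unfold ChevalleyDatum.rootSubgroup rootClosure
      apply Subgroup.closure_mono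
      rintro g ⟨u, hg⟩
      exact ⟨22, u, by decide, hg⟩

theorem cent_a_44 : ∀ r ∈ LRa, r = 44 ∨ commEvenOK chevF4 r 44 = true := by decide
theorem cent_a_47 : ∀ r ∈ LRa, r = 47 ∨ commEvenOK chevF4 r 47 = true := by decide

/-- S2179, first part -/
theorem centralizer_F4_47_44 (w : GL chevF4.Idx F)
    (hw : (w : Matrix chevF4.Idx chevF4.Idx F) = chevF4.x F 47 1 * chevF4.x F 44 1) :
    chevF4.group F ⊓ Subgroup.centralizer {w} =
      chevF4.posUnipotent F ⊔ chevF4.rootSubgroup F 20 ⊔ chevF4.rootSubgroup F 22 := by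
  obtain ⟨E⟩ := env_of_facts (F := F) chevF4 (by simp) nTabF4 orbTabF4 nfacts_F4 hnfacts_F4
    cfacts_F4
  have S := setup_a E
  have hw1 : w = E.hF.xGL 47 1 * E.hF.xGL 44 1 :=
    Units.ext (by rw [hw, Units.val_mul, E.hF.xGL_val, E.hF.xGL_val])
  have hw2 : w = E.hF.ordProd [44, 47] (fun _ => (1 : F)) := by
    rw [hw1, E.hF.ordProd_cons, E.hF.ordProd_cons, E.hF.ordProd_nil, mul_one]
    exact (commute2 E 47 44 (Or.inr (by decide)) 1 1).eq
  rw [← rootClosure_LRa]
  have hQC : rootClosure chevF4 F (· ∈ LRa) ≤ Subgroup.centralizer {w} := by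
    intro g hg
    have h44 := rootClosure_le_centralizer E LRa 44 (1 : F) cent_a_44 hg
    have h47 := rootClosure_le_centralizer E LRa 47 (1 : F) cent_a_47 hg
    rw [Subgroup.mem_centralizer_iff] at h44 h47 ⊢
    intro x hx
    rw [Set.mem_singleton_iff] at hx
    subst hx
    rw [hw1, mul_assoc, h44 _ rfl, ← mul_assoc, h47 _ rfl, mul_assoc]
  have hQG : rootClosure chevF4 F (· ∈ LRa) ≤ chevF4.group F := by
    unfold rootClosure
    rw [Subgroup.closure_le]
    rintro g ⟨s, u, hs, hg⟩
    rw [E.hF.eq_xGL g s u hg]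
    exact E.hF.xGL_mem_group s u
  apply le_antisymm
  · rintro g ⟨hgG, hgC⟩
    have hc : g * w = w * g := (Subgroup.mem_centralizer_iff.mp hgC _ rfl).symm
    obtain ⟨hSt, htab⟩ := aStep
    have hgP := S.cent_le hSt htab (by decide)
      (PL_le_list E [1, 2] LRa (by decide) (by decide))
      (le_trans (pos_le_list LRa (by decide)) le_sup_left) aCond (fun _ => 1)
      (fun _ _ => one_ne_zero) g hgG (by rw [← hw2]; exact hc)
    obtain ⟨q, hq, h, hh, rfl⟩ := exists_mul_of_mem_sup_of_le_normalizer _ _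
      (diagonal_le_normalizer_rootClosure E LRa (by decide)) g hgP
    have hhC : h ∈ Subgroup.centralizer {w} := by
      have : h = q⁻¹ * (q * h) := by group
      rw [this]
      exact Subgroup.mul_mem _ (Subgroup.inv_mem _ (hQC hq)) hgC
    have hx : w * h = h * w := Subgroup.mem_centralizer_iff.mp hhC _ rfl
    obtain ⟨c, hc0, hdiag⟩ := E.hF.diagonal_torus h hh
    have r44 := torus_rel E h c hc0 hdiag 44 (by decide) 1
    have r47 := torus_rel E h c hc0 hdiag 47 (by decide) 1
    rw [mul_one] at r44 r47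
    rw [torusEntry_single c 44 0 (by decide) (by decide)] at r44
    rw [torusEntry_single c 47 3 (by decide) (by decide)] at r47
    have e1 : h * w = E.hF.ordProd [44, 47] (fun k => if k = 44 then c 0 else c 3) * h := by
      rw [hw2, E.hF.ordProd_cons, E.hF.ordProd_cons, E.hF.ordProd_nil, mul_one,
        E.hF.ordProd_cons, E.hF.ordProd_cons, E.hF.ordProd_nil, mul_one]
      simp only [if_true]
      have : (47 : ℕ) ≠ 44 := by decide
      rw [if_neg this, ← mul_assoc, r44, mul_assoc, r47, mul_assoc]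
    rw [← hx] at e1
    have e2 := mul_right_cancel e1
    rw [hw2] at e2
    have h44 := S.inj _ _ e2 44 (by decide)
    have h47 := S.inj _ _ e2 47 (by decide)
    simp only [if_true] at h44
    have hne : (47 : ℕ) ≠ 44 := by decide
    rw [if_neg hne] at h47
    have hhK : h ∈ rootClosure chevF4 F (· ∈ LRa) := by
      apply torus_mem E h c hc0 hdiag LRa
      intro i hi
      have hi4 : i < 4 := hi
      interval_cases i
      · left; exact h44.symm
      · right; decide
      · right; decide
      · left; exact h47.symm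
    exact Subgroup.mul_mem _ hq hhK
  · intro g hg
    exact ⟨hQG hg, hQC hg⟩

end parta

section partb

variable {F : Type*} [Field F] [CharP F 2]

/-- the roots of `Q` -/
abbrev Ψb : List ℕ := [39, 40, 44, 45, 46, 47]

/-- the roots of the centraliser -/
abbrev LKb : List ℕ :=
  [24, 28, 29, 30, 31, 32, 33, 35, 36, 37, 38, 39, 40, 41, 42, 43, 44, 45, 46, 47, 14, 23]

theorem comm_b : ∀ k ∈ Ψb, ∀ k' ∈ Ψb, k = k' ∨ commEvenOK chevF4 k k' = true := by decide

theorem setup_b (E : Env chevF4 F nTabF4 orbTabF4) :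
    Setup E Ψb [39, 45] (rootClosure chevF4 F (· ∈ LRb) ⊔ chevF4.diagonalSubgroup F) where
  sorted := by decide
  pos := by decide
  TΨ := by decide
  comm := fun k hk k' hk' t u => commute2 E k k' (comm_b k hk k' hk') t u
  normQ := sup_le (rootClosure_le_normalizer2 E _ LRb (by decide) (by decide) (by decide))
    (diagonal_le_normalizer_rootClosure E _ (by decide))
  normQρ := by
    intro ρ hρ
    simp only [List.mem_cons, List.not_mem_nil, or_false] at hρ
    rcases hρ with rfl | rfl
    · have e : Ψb.erase 39 = [40, 44, 45, 46, 47] := by decide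
      rw [e]
      exact sup_le (rootClosure_le_normalizer2 E _ LRb (by decide) (by decide) (by decide))
        (diagonal_le_normalizer_rootClosure E _ (by decide))
    · have e : Ψb.erase 45 = [39, 40, 44, 46, 47] := by decide
      rw [e]
      exact sup_le (rootClosure_le_normalizer2 E _ LRb (by decide) (by decide) (by decide))
        (diagonal_le_normalizer_rootClosure E _ (by decide))

theorem rootClosure_LKb : rootClosure chevF4 F (· ∈ LKb) =
    chevF4.rootSubgroup F 33 ⊔ chevF4.rootSubgroup F 14 ⊔ chevF4.rootSubgroup F 24 ⊔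
      chevF4.rootSubgroup F 23 ⊔
      Subgroup.closure {g : GL chevF4.Idx F | ∃ (r : ℕ) (c : F), chevF4.IsPosRoot r ∧
        r ∉ [27, 25, 34, 26] ∧ (g : Matrix chevF4.Idx chevF4.Idx F) = chevF4.x F r c} := by
  apply le_antisymm
  · unfold rootClosure
    rw [Subgroup.closure_le]
    rintro g ⟨s, u, hs, hg⟩
    by_cases h33 : s = 33
    · subst h33
      exact Subgroup.mem_sup_left (Subgroup.mem_sup_left (Subgroup.mem_sup_left
        (Subgroup.mem_sup_left (Subgroup.subset_closure ⟨u, hg⟩))))
    by_cases h14 : s = 14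
    · subst h14
      exact Subgroup.mem_sup_left (Subgroup.mem_sup_left (Subgroup.mem_sup_left
        (Subgroup.mem_sup_right (Subgroup.subset_closure ⟨u, hg⟩))))
    by_cases h24 : s = 24
    · subst h24
      exact Subgroup.mem_sup_left (Subgroup.mem_sup_left (Subgroup.mem_sup_right
        (Subgroup.subset_closure ⟨u, hg⟩)))
    by_cases h23 : s = 23
    · subst h23
      exact Subgroup.mem_sup_left (Subgroup.mem_sup_right (Subgroup.subset_closure ⟨u, hg⟩))
    apply Subgroup.mem_sup_right
    apply Subgroup.subset_closure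
    have hp : s ∈ chevF4.posRoots := by
      rw [posRoots_F4]
      simp only [List.mem_cons, List.not_mem_nil, or_false] at hs ⊢
      omega
    refine ⟨s, u, (mem_posRoots chevF4 s).mp hp, ?_, hg⟩
    simp only [List.mem_cons, List.not_mem_nil, or_false] at hs ⊢
    omega
  · have hroot : ∀ x, x ∈ LKb → chevF4.rootSubgroup F x ≤ rootClosure chevF4 F (· ∈ LKb) := by
      intro x hx
      unfold ChevalleyDatum.rootSubgroup rootClosure
      apply Subgroup.closure_mono
      rintro g ⟨u, hg⟩
      exact ⟨x, u, hx, hg⟩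
    refine sup_le (sup_le (sup_le (sup_le (hroot 33 (by decide)) (hroot 14 (by decide)))
      (hroot 24 (by decide))) (hroot 23 (by decide))) ?_
    unfold rootClosure
    apply Subgroup.closure_mono
    rintro g ⟨r, c, hr, hnr, hg⟩
    refine ⟨r, c, ?_, hg⟩
    have hp := (mem_posRoots chevF4 r).mpr hr
    rw [posRoots_F4] at hp
    simp only [List.mem_cons, List.not_mem_nil, or_false, not_or] at hp hnr ⊢
    omega

theorem torusEntry_F4 (c : ℕ → F) (r : ℕ) :
    torusEntry chevF4 (List.range chevF4.rank) c (chevF4.rank + r) =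
      c 0 ^ chevF4.cartan 0 r * (c 1 ^ chevF4.cartan 1 r * (c 2 ^ chevF4.cartan 2 r *
        (c 3 ^ chevF4.cartan 3 r * 1))) := by
  unfold torusEntry
  have : List.range chevF4.rank = [0, 1, 2, 3] := by decide
  rw [this]
  simp only [List.map_cons, List.map_nil, List.prod_cons, List.prod_nil, Eexp_root]

theorem cent_b_39 : ∀ r ∈ LKb, r = 39 ∨ commEvenOK chevF4 r 39 = true := by decide
theorem cent_b_45 : ∀ r ∈ LKb, r = 45 ∨ commEvenOK chevF4 r 45 = true := by decide

theorem centY1 : ∀ j ∈ Ψb, ∀ r ∈ [28, 29, 30, 31, 32], r = j ∨ commEvenOK chevF4 r j = true := by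
  decide
theorem centY2 : ∀ j ∈ Ψb, ∀ r ∈ [35, 36, 37, 38, 39, 40, 41, 42, 43, 44, 45, 46, 47],
    r = j ∨ commEvenOK chevF4 r j = true := by
  decide

/-- an ordered product over a list of roots commuting with the `X_j`, `j ∈ Ψ`, fixes the elements of `Q` -/
theorem conj_Y (E : Env chevF4 F nTabF4 orbTabF4) (L : List ℕ)
    (h : ∀ j ∈ Ψb, ∀ r ∈ L, r = j ∨ commEvenOK chevF4 r j = true) (τ a : ℕ → F) :
    E.hF.ordProd L τ * E.hF.ordProd Ψb a * (E.hF.ordProd L τ)⁻¹ = E.hF.ordProd Ψb a := by
  apply (setup_b E).conj_comm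
  intro j hj t
  have h1 := rootClosure_le_centralizer E L j t (h j hj) (E.hF.ordProd_mem L τ)
  exact (Subgroup.mem_centralizer_iff.mp h1 _ rfl).symm

/-- the conjugation of an element of `Q` by one of the six root elements acting non-trivially -/
theorem conj_X (E : Env chevF4 F nTabF4 orbTabF4) (r s k : ℕ) (hs : s ∈ Ψb) (hk : k ∈ Ψb)
    (h1 : ∀ j ∈ Ψb, j ≠ s → (r = j ∨ commEvenOK chevF4 r j = true))
    (h2 : s < chevF4.nroots ∧ r < chevF4.nroots ∧ r ≠ s ∧ r ≠ chevF4.neg s ∧
      commTermsQ chevF4 s r = [(k, -1, 1, 1)])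
    (h3 : r = k ∨ commEvenOK chevF4 r k = true) (τ : F) (a : ℕ → F) :
    E.hF.xGL r τ * E.hF.ordProd Ψb a * (E.hF.xGL r τ)⁻¹ =
      E.hF.ordProd Ψb (fun j => (if k = j then a s * τ else 0) + a j) :=
  (setup_b E).conj_step (E.hF.xGL r τ) s k hs hk τ
    (fun j hj hjs t => commute2 E r j (h1 j hj hjs) τ t)
    (fun t => conj_single' E r s k h2 (fun t' u => commute2 E r k h3 t' u) τ t) a

theorem cent_l_39 : ∀ r ∈ [33, 14, 24, 23], r = 39 ∨ commEvenOK chevF4 r 39 = true := by decide
theorem cent_l_45 : ∀ r ∈ [33, 14, 24, 23], r = 45 ∨ commEvenOK chevF4 r 45 = true := by decide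

/-- S2179, second part -/
theorem centralizer_F4_39_45 (v : GL chevF4.Idx F)
    (hv : (v : Matrix chevF4.Idx chevF4.Idx F) = chevF4.x F 39 1 * chevF4.x F 45 1) :
    chevF4.group F ⊓ Subgroup.centralizer {v} =
      chevF4.rootSubgroup F 33 ⊔ chevF4.rootSubgroup F 14 ⊔ chevF4.rootSubgroup F 24 ⊔
        chevF4.rootSubgroup F 23 ⊔
        Subgroup.closure {g : GL chevF4.Idx F | ∃ (r : ℕ) (c : F), chevF4.IsPosRoot r ∧
          r ∉ [27, 25, 34, 26] ∧ (g : Matrix chevF4.Idx chevF4.Idx F) = chevF4.x F r c} := by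
  obtain ⟨E⟩ := env_of_facts (F := F) chevF4 (by simp) nTabF4 orbTabF4 nfacts_F4 hnfacts_F4
    cfacts_F4
  have S := setup_b E
  have hv1 : v = E.hF.xGL 39 1 * E.hF.xGL 45 1 :=
    Units.ext (by rw [hv, Units.val_mul, E.hF.xGL_val, E.hF.xGL_val])
  have hform : ∀ x y : F, E.hF.ordProd Ψb (fun k => if k = 39 then x else if k = 45 then y else 0) =
      E.hF.xGL 39 x * E.hF.xGL 45 y := by
    intro x y
    simp [Facts.ordProd_cons, Facts.ordProd_nil, E.hF.xGL_zero]
  have hv2 : v = E.hF.ordProd Ψb (fun k => if k = 39 then (1 : F) else if k = 45 then 1 else 0) := by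
    rw [hv1, hform]
  rw [← rootClosure_LKb]
  have hQC : rootClosure chevF4 F (· ∈ LKb) ≤ Subgroup.centralizer {v} := by
    intro g hg
    have h39 := rootClosure_le_centralizer E LKb 39 (1 : F) cent_b_39 hg
    have h45 := rootClosure_le_centralizer E LKb 45 (1 : F) cent_b_45 hg
    rw [Subgroup.mem_centralizer_iff] at h39 h45 ⊢
    intro x hx
    rw [Set.mem_singleton_iff] at hx
    subst hx
    rw [hv1, mul_assoc, h45 _ rfl, ← mul_assoc, h39 _ rfl, mul_assoc]
  have hQG : rootClosure chevF4 F (· ∈ LKb) ≤ chevF4.group F := by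
    unfold rootClosure
    rw [Subgroup.closure_le]
    rintro g ⟨s, u, hs, hg⟩
    rw [E.hF.eq_xGL g s u hg]
    exact E.hF.xGL_mem_group s u
  apply le_antisymm
  · rintro g ⟨hgG, hgC⟩
    have hc : g * v = v * g := (Subgroup.mem_centralizer_iff.mp hgC _ rfl).symm
    obtain ⟨hSt, htab⟩ := bStep
    have ht₀ : ∀ ρ ∈ [39, 45],
        (fun k => if k = 39 then (1 : F) else if k = 45 then 1 else 0) ρ ≠ 0 := by
      intro ρ hρ
      simp only [List.mem_cons, List.not_mem_nil, or_false] at hρ
      rcases hρ with rfl | rfl <;> simp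
    have hgP := S.cent_le hSt htab (by decide)
      (PL_le_list E [0, 3] LRb (by decide) (by decide))
      (le_trans (pos_le_list LRb (by decide)) le_sup_left) bCond _ ht₀ g hgG
      (by rw [← hv2]; exact hc)
    obtain ⟨q, hq, h, hh, rfl⟩ := exists_mul_of_mem_sup_of_le_normalizer _ _
      (diagonal_le_normalizer_rootClosure E LRb (by decide)) g hgP
    -- `q = y l`
    have hle : rootClosure chevF4 F (· ∈ LRb) ≤
        rootClosure chevF4 F (· ∈ [25, 26, 27, 28, 29, 30, 31, 32, 34, 35, 36, 37, 38, 39, 40, 41,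
          42, 43, 44, 45, 46, 47]) ⊔ rootClosure chevF4 F (· ∈ [33, 14, 24, 23]) := by
      unfold rootClosure
      rw [Subgroup.closure_le]
      rintro x ⟨s, u, hs, hx⟩
      by_cases hsl : s ∈ [33, 14, 24, 23]
      · exact Subgroup.mem_sup_right (Subgroup.subset_closure ⟨s, u, hsl, hx⟩)
      · refine Subgroup.mem_sup_left (Subgroup.subset_closure ⟨s, u, ?_, hx⟩)
        simp only [List.mem_cons, List.not_mem_nil, or_false, not_or] at hs hsl ⊢
        omega
    have hnorm := rootClosure_le_normalizer E [25, 26, 27, 28, 29, 30, 31, 32, 34, 35, 36, 37, 38,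
      39, 40, 41, 42, 43, 44, 45, 46, 47] [33, 14, 24, 23] (by decide) (by decide) (by decide)
    obtain ⟨y, hy, l, hl, rfl⟩ := exists_mul_of_mem_sup_of_le_normalizer _ _ hnorm q (hle hq)
    have hyU : y ∈ chevF4.posUnipotent F :=
      rootClosure_pos_le _ _ _ (fun r hr => by
        apply (mem_posRoots chevF4 r).mp
        rw [posRoots_F4]
        simp only [List.mem_cons, List.not_mem_nil, or_false] at hr ⊢
        omega) hy
    obtain ⟨τ, _, hyτ⟩ := E.hF.exists_factorization E.hC E.hU E.hNR E.hcomm y hyU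
    set Y₁ := E.hF.ordProd [28, 29, 30, 31, 32] τ with hY₁
    set Y₂ := E.hF.ordProd [35, 36, 37, 38, 39, 40, 41, 42, 43, 44, 45, 46, 47] τ with hY₂
    have hy' : y = E.hF.xGL 24 (τ 24) * (E.hF.xGL 25 (τ 25) * (E.hF.xGL 26 (τ 26) *
        (E.hF.xGL 27 (τ 27) * (Y₁ * (E.hF.xGL 33 (τ 33) * (E.hF.xGL 34 (τ 34) * Y₂)))))) := by
      rw [hyτ, posRoots_F4]
      have e : ([24, 25, 26, 27, 28, 29, 30, 31, 32, 33, 34, 35, 36, 37, 38, 39, 40, 41, 42, 43, 44,
          45, 46, 47] : List ℕ) = [24, 25, 26, 27] ++ ([28, 29, 30, 31, 32] ++ ([33, 34] ++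
            [35, 36, 37, 38, 39, 40, 41, 42, 43, 44, 45, 46, 47])) := rfl
      rw [e, ordProd_append, ordProd_append, ordProd_append, ← hY₁, ← hY₂]
      simp only [Facts.ordProd_cons, Facts.ordProd_nil, mul_one, mul_assoc]
    -- the torus part
    obtain ⟨c, hc0, hdiag⟩ := E.hF.diagonal_torus h hh
    have r39 := torus_rel E h c hc0 hdiag 39 (by decide) 1
    have r45 := torus_rel E h c hc0 hdiag 45 (by decide) 1
    rw [mul_one] at r39 r45
    set χ₁ := torusEntry chevF4 (List.range chevF4.rank) c (chevF4.rank + 39) with hχ₁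
    set χ₂ := torusEntry chevF4 (List.range chevF4.rank) c (chevF4.rank + 45) with hχ₂
    have hhv : h * v = E.hF.xGL 39 χ₁ * E.hF.xGL 45 χ₂ * h := by
      rw [hv1, ← mul_assoc, r39, mul_assoc, r45, mul_assoc]
    have hlv : l * (E.hF.xGL 39 χ₁ * E.hF.xGL 45 χ₂) = E.hF.xGL 39 χ₁ * E.hF.xGL 45 χ₂ * l := by
      have h39 := rootClosure_le_centralizer E [33, 14, 24, 23] 39 χ₁ cent_l_39 hl
      have h45 := rootClosure_le_centralizer E [33, 14, 24, 23] 45 χ₂ cent_l_45 hl
      rw [Subgroup.mem_centralizer_iff] at h39 h45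
      rw [← mul_assoc, ← h39 _ rfl, mul_assoc, ← h45 _ rfl, mul_assoc]
    have key : y * (E.hF.xGL 39 χ₁ * E.hF.xGL 45 χ₂) * y⁻¹ = v := by
      have e1 : y * l * h * v = y * (E.hF.xGL 39 χ₁ * E.hF.xGL 45 χ₂) * (l * h) := by
        rw [mul_assoc (y * l), hhv, ← mul_assoc (y * l), mul_assoc y l, hlv]
        group
      rw [e1] at hc
      have e2 : v * (y * l * h) = v * y * (l * h) := by group
      rw [e2] at hc
      have := mul_right_cancel hc
      rw [this]
      group
    rw [← hform, hy'] at key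
    -- the chain of conjugations
    have hchain : ∀ (g₁ g₂ g₃ g₄ g₅ g₆ g₇ g₈ z : GL chevF4.Idx F),
        g₁ * (g₂ * (g₃ * (g₄ * (g₅ * (g₆ * (g₇ * g₈)))))) * z *
          (g₁ * (g₂ * (g₃ * (g₄ * (g₅ * (g₆ * (g₇ * g₈)))))))⁻¹ =
        g₁ * (g₂ * (g₃ * (g₄ * (g₅ * (g₆ * (g₇ * (g₈ * z * g₈⁻¹) * g₇⁻¹) * g₆⁻¹) * g₅⁻¹) * g₄⁻¹) *
          g₃⁻¹) * g₂⁻¹) * g₁⁻¹ := by
      intros; group
    rw [hchain, conj_Y E _ centY2,
      conj_X E 34 39 44 (by decide) (by decide) (by decide) (by decide) (by decide),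
      conj_X E 33 40 44 (by decide) (by decide) (by decide) (by decide) (by decide),
      conj_Y E _ centY1,
      conj_X E 27 39 40 (by decide) (by decide) (by decide) (by decide) (by decide),
      conj_X E 26 45 47 (by decide) (by decide) (by decide) (by decide) (by decide),
      conj_X E 25 45 46 (by decide) (by decide) (by decide) (by decide) (by decide),
      conj_X E 24 46 47 (by decide) (by decide) (by decide) (by decide) (by decide), hv2] at key
    have k39 := S.inj _ _ key 39 (by decide)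
    have k40 := S.inj _ _ key 40 (by decide)
    have k44 := S.inj _ _ key 44 (by decide)
    have k45 := S.inj _ _ key 45 (by decide)
    have k46 := S.inj _ _ key 46 (by decide)
    have k47 := S.inj _ _ key 47 (by decide)
    simp at k39 k40 k44 k45 k46 k47
    have hχ₁0 : χ₁ ≠ 0 := by rw [k39]; exact one_ne_zero
    have hχ₂0 : χ₂ ≠ 0 := by rw [k45]; exact one_ne_zero
    have t27 : τ 27 = 0 := k40.resolve_left hχ₁0
    have t34 : τ 34 = 0 := k44.resolve_left hχ₁0
    have t25 : τ 25 = 0 := k46.resolve_left hχ₂0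
    have t26 : τ 26 = 0 := by
      rw [t25, k45] at k47
      simpa using k47
    -- the unipotent part
    have hyK : y ∈ rootClosure chevF4 F (· ∈ LKb) := by
      rw [hyτ]
      apply ordProd_mem_of
      intro k hk
      rw [posRoots_F4] at hk
      by_cases h25 : k = 25
      · left; rw [h25]; exact t25
      by_cases h26 : k = 26
      · left; rw [h26]; exact t26
      by_cases h27 : k = 27
      · left; rw [h27]; exact t27
      by_cases h34 : k = 34
      · left; rw [h34]; exact t34
      right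
      simp only [List.mem_cons, List.not_mem_nil, or_false] at hk ⊢
      omega
    have hlK : l ∈ rootClosure chevF4 F (· ∈ LKb) :=
      rootClosure_mono_list [33, 14, 24, 23] LKb (by decide) hl
    -- the torus part
    have e39 : χ₁ = (c 1)⁻¹ * c 2 := by
      rw [hχ₁, torusEntry_F4]
      have h0 : chevF4.cartan 0 39 = 0 := by decide
      have h1 : chevF4.cartan 1 39 = -1 := by decide
      have h2 : chevF4.cartan 2 39 = 1 := by decide
      have h3 : chevF4.cartan 3 39 = 0 := by decide
      rw [h0, h1, h2, h3]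
      simp
    have e45 : χ₂ = (c 1) ^ 2 * (c 2)⁻¹ := by
      rw [hχ₂, torusEntry_F4]
      have h0 : chevF4.cartan 0 45 = 0 := by decide
      have h1 : chevF4.cartan 1 45 = 2 := by decide
      have h2 : chevF4.cartan 2 45 = -1 := by decide
      have h3 : chevF4.cartan 3 45 = 0 := by decide
      rw [h0, h1, h2, h3]
      simp
    have hc1 := hc0 1
    have hc2 := hc0 2
    have hc21 : c 2 = c 1 := by
      have := e39.symm.trans k39
      field_simp at this
      exact this
    have hc1' : c 1 = 1 := by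
      have := e45.symm.trans k45
      rw [hc21] at this
      field_simp at this
      exact this
    have hhK : h ∈ rootClosure chevF4 F (· ∈ LKb) := by
      apply torus_mem E h c hc0 hdiag LKb
      intro i hi
      have hi4 : i < 4 := hi
      interval_cases i
      · right; decide
      · left; exact hc1'
      · left; rw [hc21]; exact hc1'
      · right; decide
    exact Subgroup.mul_mem _ (Subgroup.mul_mem _ hyK hlK) hhK
  · intro g hg
    exact ⟨hQG hg, hQC hg⟩

end partb

end Cfsg.Agent.Lib.Helper37.F4Cent
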