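import Cfsg.Agent.Lib.Helper37.G2CentTab
import Cfsg.Agent.Lib.Helper24.CentTab

/-!
# The centraliser of the short root involution `x_{2a+b}(1)` of `G₂(q)`, `q` even (S2180)

`Q = X_9 X_10 X_11` is normal in the parabolic subgroup `P_b`; an element `g = p n_m u` of a cell `P_b n_m B`
(`n_m` one of the six representatives of `W_b \ W`) centralising `t = x_9(1)` has `m = 0`, by the unique
factorisation in `U` and `U ∩ V = 1`; then `g ∈ P_b = U_b L_b`, and the commutator formula gives the rest.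
-/

set_option autoImplicit false
set_option linter.unusedSimpArgs false
set_option linter.unusedVariables false
set_option maxRecDepth 100000

namespace Cfsg.Agent.Lib.Helper37.G2Cent

open Cfsg.Lie Matrix
open Cfsg.Agent.Lib.Helper24

section generic

variable {F : Type*} [Field F] {D : ChevalleyDatum} {tab : List ℕ} {orb : List (ℕ × ℕ × ℕ)}

/-- no commutator terms: the root elements commute -/
theorem comm_nil (E : Env D F tab orb) (a b : ℕ) (ha : a < D.nroots) (hb : b < D.nroots)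
    (hab : b ≠ a) (hneg : b ≠ D.neg a) (hnil : commTermsQ D a b = []) (t u : F) :
    E.hF.xGL b u * E.hF.xGL a t = E.hF.xGL a t * E.hF.xGL b u := by
  have h := E.hcomm a ha b hb hab hneg t u
  have e : D.commWord F a b t u = [] := by
    unfold ChevalleyDatum.commWord
    rw [← E.hC.commTermsF_eq a b ha hb, ← commTermsQ_eq, hnil]
    rfl
  rw [e] at h
  rw [h]
  simp [Facts.wordGL]

/-- the decidable condition for `x_r(t)` to normalise the subgroup generated by the `X_s`, `s ∈ L` -/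
def normOK (D : ChevalleyDatum) (L : List ℕ) (r : ℕ) : Prop :=
  r ∈ L ∨ ∀ s ∈ L, s ≠ r ∧ s ≠ D.neg r ∧ ∀ c ∈ commTermsQ D r s, c.1 ∈ L

instance (D : ChevalleyDatum) (L : List ℕ) (r : ℕ) : Decidable (normOK D L r) := by
  unfold normOK; infer_instance

theorem x_normalizes (E : Env D F tab orb) (L : List ℕ) (r : ℕ) (hr : r < D.nroots)
    (hL : ∀ s ∈ L, s < D.nroots) (hchk : normOK D L r) (t : F) :
    E.hF.xGL r t ∈ Subgroup.normalizer (rootClosure D F (· ∈ L) : Set (GL D.Idx F)) := by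
  rcases hchk with h | h
  · exact Subgroup.le_normalizer (E.hF.xGL_mem_rootClosure _ r h t)
  · apply E.hF.xGL_mem_normalizer_rootClosure E.hC _ r hr hL
    · intro s hs
      exact E.hcomm r hr s (hL s hs) (h s hs).1 (h s hs).2.1
    · intro s hs c hc
      exact (h s hs).2.2 c hc

/-- the subgroup generated by the `X_r`, `r ∈ L'`, normalises the one generated by the `X_s`, `s ∈ L` -/
theorem rootClosure_le_normalizer (E : Env D F tab orb) (L L' : List ℕ)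
    (hL : ∀ s ∈ L, s < D.nroots) (hL' : ∀ s ∈ L', s < D.nroots)
    (hchk : ∀ r ∈ L', normOK D L r) :
    rootClosure D F (· ∈ L') ≤ Subgroup.normalizer (rootClosure D F (· ∈ L) : Set (GL D.Idx F)) := by
  unfold rootClosure
  rw [Subgroup.closure_le]
  rintro g ⟨r, u, hr, hg⟩
  rw [E.hF.eq_xGL g r u hg]
  exact x_normalizes E L r (hL' r hr) hL (hchk r hr) u

theorem diagonal_le_normalizer_rootClosure (E : Env D F tab orb) (L : List ℕ)
    (hL : ∀ s ∈ L, s < D.nroots) :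
    D.diagonalSubgroup F ≤ Subgroup.normalizer (rootClosure D F (· ∈ L) : Set (GL D.Idx F)) := by
  unfold ChevalleyDatum.diagonalSubgroup
  rw [Subgroup.closure_le]
  rintro g ⟨r', c, hr', hc, hg⟩
  exact E.hF.hgen_mem_normalizer_rootClosure _ hL g r' hr' c hc hg

theorem rootClosure_mono_list (L L' : List ℕ) (h : ∀ s ∈ L, s ∈ L') :
    rootClosure D F (· ∈ L) ≤ rootClosure D F (· ∈ L') := by
  unfold rootClosure
  apply Subgroup.closure_mono
  rintro g ⟨s, u, hs, hg⟩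
  exact ⟨s, u, h s hs, hg⟩

/-- conjugation by an element of the normaliser -/
theorem conj_mem_of_mem_normalizer {G : Type*} [Group G] (K : Subgroup G) (g x : G)
    (hg : g ∈ Subgroup.normalizer (K : Set G)) (hx : x ∈ K) : g * x * g⁻¹ ∈ K :=
  (Subgroup.mem_normalizer_iff.mp hg x).mp hx

theorem conj_mem_iff_of_mem_normalizer {G : Type*} [Group G] (K : Subgroup G) (g x : G)
    (hg : g ∈ Subgroup.normalizer (K : Set G)) : g * x * g⁻¹ ∈ K ↔ x ∈ K :=
  (Subgroup.mem_normalizer_iff.mp hg x).symm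

end generic

section g2

variable {F : Type*} [Field F]

theorem posRoots_G2 : chevG2.posRoots = [6, 7, 8, 9, 10, 11] := by decide

/-- the coefficients of an ordered product of six root elements -/
def tf (a6 a7 a8 a9 a10 a11 : F) : ℕ → F := fun r =>
  if r = 6 then a6 else if r = 7 then a7 else if r = 8 then a8 else if r = 9 then a9
  else if r = 10 then a10 else if r = 11 then a11 else 0

theorem ordProd_tf (hF : Facts chevG2) (a6 a7 a8 a9 a10 a11 : F) :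
    hF.ordProd chevG2.posRoots (tf a6 a7 a8 a9 a10 a11) =
      hF.xGL 6 a6 * (hF.xGL 7 a7 * (hF.xGL 8 a8 * (hF.xGL 9 a9 *
        (hF.xGL 10 a10 * hF.xGL 11 a11)))) := by
  rw [posRoots_G2]
  simp [Facts.ordProd_cons, Facts.ordProd_nil, tf]

/-- uniqueness of the ordered factorisation in `U` -/
theorem prod6_inj (E : Env chevG2 F nTabG2 orbTabG2) (a6 a7 a8 a9 a10 a11 b6 b7 b8 b9 b10 b11 : F)
    (h : E.hF.xGL 6 a6 * (E.hF.xGL 7 a7 * (E.hF.xGL 8 a8 * (E.hF.xGL 9 a9 *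
        (E.hF.xGL 10 a10 * E.hF.xGL 11 a11)))) =
      E.hF.xGL 6 b6 * (E.hF.xGL 7 b7 * (E.hF.xGL 8 b8 * (E.hF.xGL 9 b9 *
        (E.hF.xGL 10 b10 * E.hF.xGL 11 b11))))) :
    a6 = b6 ∧ a7 = b7 ∧ a8 = b8 ∧ a9 = b9 ∧ a10 = b10 ∧ a11 = b11 := by
  rw [← ordProd_tf E.hF, ← ordProd_tf E.hF] at h
  have key := E.hF.factorization_unique E.hU _ _ h
  have h6 := key 6 (by decide)
  have h7 := key 7 (by decide)
  have h8 := key 8 (by decide)
  have h9 := key 9 (by decide)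
  have h10 := key 10 (by decide)
  have h11 := key 11 (by decide)
  simp [tf] at h6 h7 h8 h9 h10 h11
  exact ⟨h6, h7, h8, h9, h10, h11⟩

/-- existence of the ordered factorisation, for an upper set of positive roots -/
theorem exists_ordProd_G2 (E : Env chevG2 F nTabG2 orbTabG2) (L : List ℕ)
    (hsort : L.Pairwise (· < ·)) (hpos : ∀ r ∈ L, chevG2.IsPosRoot r)
    (hup : ∀ r ∈ L, ∀ s, chevG2.IsPosRoot s → r < s → s ∈ L)
    (g : GL chevG2.Idx F) (hg : g ∈ rootClosure chevG2 F (· ∈ L)) :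
    ∃ t : ℕ → F, g = E.hF.ordProd L t := by
  have hneg : ∀ r s, chevG2.IsPosRoot r → chevG2.IsPosRoot s → s ≠ chevG2.neg r := by
    intro r s hr hs h
    have h1 := (posHalf_spec chevG2 E.hU.half r).mp hr
    have h2 := (posHalf_spec chevG2 E.hU.half s).mp hs
    have h3 : chevG2.neg r = chevG2.nroots - 1 - r :=
      Nat.eq_of_beq_eq_true (allBelow_elim _ _ E.hNR r hr.1)
    have h4 := posHalf_even chevG2 E.hU.half
    omega
  obtain ⟨t, _, ht⟩ := E.hF.exists_ordProd E.hC E.hcomm hneg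
    (fun r s hr hs hrs c hc => E.hU.convex.spec E.hU.half r s hr hs hrs c hc)
    L hsort hpos hup g hg
  exact ⟨t, ht⟩

theorem mem_Q (E : Env chevG2 F nTabG2 orbTabG2) (g : GL chevG2.Idx F)
    (hg : g ∈ rootClosure chevG2 F (· ∈ [9, 10, 11])) :
    ∃ α β γ : F, g = E.hF.xGL 9 α * (E.hF.xGL 10 β * E.hF.xGL 11 γ) := by
  obtain ⟨t, ht⟩ := exists_ordProd_G2 E [9, 10, 11] (by decide) (by decide) (by
    intro r hr s hs hrs
    have := (mem_posRoots chevG2 s).mpr hs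
    rw [posRoots_G2] at this
    simp only [List.mem_cons, List.not_mem_nil, or_false] at hr this ⊢
    omega) g hg
  refine ⟨t 9, t 10, t 11, ?_⟩
  rw [ht]
  simp [Facts.ordProd_cons, Facts.ordProd_nil]

theorem mem_Q' (E : Env chevG2 F nTabG2 orbTabG2) (g : GL chevG2.Idx F)
    (hg : g ∈ rootClosure chevG2 F (· ∈ [10, 11])) :
    ∃ β γ : F, g = E.hF.xGL 10 β * E.hF.xGL 11 γ := by
  obtain ⟨t, ht⟩ := exists_ordProd_G2 E [10, 11] (by decide) (by decide) (by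
    intro r hr s hs hrs
    have := (mem_posRoots chevG2 s).mpr hs
    rw [posRoots_G2] at this
    simp only [List.mem_cons, List.not_mem_nil, or_false] at hr this ⊢
    omega) g hg
  refine ⟨t 10, t 11, ?_⟩
  rw [ht]
  simp [Facts.ordProd_cons, Facts.ordProd_nil]

theorem mem_Ub (E : Env chevG2 F nTabG2 orbTabG2) (g : GL chevG2.Idx F)
    (hg : g ∈ rootClosure chevG2 F (· ∈ [7, 8, 9, 10, 11])) :
    ∃ a b α β γ : F, g = E.hF.xGL 7 a * (E.hF.xGL 8 b * (E.hF.xGL 9 α *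
      (E.hF.xGL 10 β * E.hF.xGL 11 γ))) := by
  obtain ⟨t, ht⟩ := exists_ordProd_G2 E [7, 8, 9, 10, 11] (by decide) (by decide) (by
    intro r hr s hs hrs
    have := (mem_posRoots chevG2 s).mpr hs
    rw [posRoots_G2] at this
    simp only [List.mem_cons, List.not_mem_nil, or_false] at hr this ⊢
    omega) g hg
  refine ⟨t 7, t 8, t 9, t 10, t 11, ?_⟩
  rw [ht]
  simp [Facts.ordProd_cons, Facts.ordProd_nil]

/-- root elements of `G₂` without commutator terms commute -/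
theorem cm (E : Env chevG2 F nTabG2 orbTabG2) (a b : ℕ)
    (h : a < chevG2.nroots ∧ b < chevG2.nroots ∧ b ≠ a ∧ b ≠ chevG2.neg a ∧
      commTermsQ chevG2 a b = []) (t u : F) :
    E.hF.xGL a t * E.hF.xGL b u = E.hF.xGL b u * E.hF.xGL a t :=
  (comm_nil E a b h.1 h.2.1 h.2.2.1 h.2.2.2.1 h.2.2.2.2 t u).symm

/-- the commutator formula for a pair with a single term -/
theorem comm_single (E : Env chevG2 F nTabG2 orbTabG2) (r s k : ℕ) (c : ℤ)
    (h : r < chevG2.nroots ∧ s < chevG2.nroots ∧ s ≠ r ∧ s ≠ chevG2.neg r ∧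
      commTermsQ chevG2 r s = [(k, c, 1, 1)]) (t u : F) :
    E.hF.xGL s u * E.hF.xGL r t =
      E.hF.xGL r t * E.hF.xGL s u * E.hF.xGL k ((c : F) * (-t) * u) := by
  have hq := E.hcomm r h.1 s h.2.1 h.2.2.1 h.2.2.2.1 t u
  have e : chevG2.commWord F r s t u = [(k, (c : F) * (-t) ^ 1 * u ^ 1)] := by
    unfold ChevalleyDatum.commWord
    rw [← E.hC.commTermsF_eq r s h.1 h.2.1, ← commTermsQ_eq, h.2.2.2.2]
    rfl
  rw [e] at hq
  rw [hq]
  simp [Facts.wordGL]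

/-- `x_8(u) x_9(t) x_8(u)⁻¹ = x_9(t) x_11(3tu)` -/
theorem conj_8_9 (E : Env chevG2 F nTabG2 orbTabG2) (t u : F) :
    E.hF.xGL 8 u * E.hF.xGL 9 t * (E.hF.xGL 8 u)⁻¹ =
      E.hF.xGL 9 t * E.hF.xGL 11 (((-3 : ℤ) : F) * (-t) * u) := by
  rw [comm_single E 9 8 11 (-3) (by decide) t u]
  have hc := cm E 11 8 (by decide) (((-3 : ℤ) : F) * (-t) * u) u
  calc E.hF.xGL 9 t * E.hF.xGL 8 u * E.hF.xGL 11 (((-3 : ℤ) : F) * (-t) * u) * (E.hF.xGL 8 u)⁻¹
      = E.hF.xGL 9 t * ((E.hF.xGL 8 u * E.hF.xGL 11 (((-3 : ℤ) : F) * (-t) * u)) *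
          (E.hF.xGL 8 u)⁻¹) := by group
    _ = _ := by rw [← hc]; group

/-- `x_7(u) x_9(t) x_7(u)⁻¹ = x_9(t) x_10(3tu)` -/
theorem conj_7_9 (E : Env chevG2 F nTabG2 orbTabG2) (t u : F) :
    E.hF.xGL 7 u * E.hF.xGL 9 t * (E.hF.xGL 7 u)⁻¹ =
      E.hF.xGL 9 t * E.hF.xGL 10 (((-3 : ℤ) : F) * (-t) * u) := by
  rw [comm_single E 9 7 10 (-3) (by decide) t u]
  have hc := cm E 10 7 (by decide) (((-3 : ℤ) : F) * (-t) * u) u
  calc E.hF.xGL 9 t * E.hF.xGL 7 u * E.hF.xGL 10 (((-3 : ℤ) : F) * (-t) * u) * (E.hF.xGL 7 u)⁻¹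
      = E.hF.xGL 9 t * ((E.hF.xGL 7 u * E.hF.xGL 10 (((-3 : ℤ) : F) * (-t) * u)) *
          (E.hF.xGL 7 u)⁻¹) := by group
    _ = _ := by rw [← hc]; group

/-- `P_b ≤ ⟨X_r : r > 0 or r = -b⟩ H` -/
theorem PL_le (E : Env chevG2 F nTabG2 orbTabG2) :
    PL chevG2 F [1] ≤
      rootClosure chevG2 F (· ∈ [6, 7, 8, 9, 10, 11, 5]) ⊔ chevG2.diagonalSubgroup F := by
  have hU : chevG2.posUnipotent F ≤ rootClosure chevG2 F (· ∈ [6, 7, 8, 9, 10, 11, 5]) := by
    unfold ChevalleyDatum.posUnipotent rootClosure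
    apply Subgroup.closure_mono
    rintro g ⟨s, u, hs, hg⟩
    have := (mem_posRoots chevG2 s).mpr hs
    rw [posRoots_G2] at this
    refine ⟨s, u, ?_, hg⟩
    simp only [List.mem_cons, List.not_mem_nil, or_false] at this ⊢
    omega
  unfold PL ChevalleyDatum.parabolicSubgroup
  apply sup_le
  · unfold ChevalleyDatum.borelSubgroup
    exact sup_le_sup_right hU _
  · rw [Subgroup.closure_le]
    rintro g ⟨j, hj, hjr, hg⟩
    have hj1 : j = 1 := by simpa using hj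
    subst hj1
    have hgn : g = E.hF.nS 1 := Units.ext (by rw [hg, E.hF.nS_val])
    rw [hgn]
    apply Subgroup.mem_sup_left
    unfold Facts.nS Facts.nGL
    apply E.hF.wordGL_mem_rootClosure
    intro p hp
    have h6 : chevG2.simple 1 = 6 := by decide
    have h5 : chevG2.neg 6 = 5 := by decide
    simp only [ChevalleyDatum.nWord, List.mem_cons, List.not_mem_nil, or_false, h6, h5] at hp
    rcases hp with rfl | rfl | rfl <;> simp

/-- `⟨X_r : r > 0 or r = -b⟩ H` normalises `⟨X_s : s ∈ L⟩` when the root elements do -/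
theorem Pt_le_normalizer (E : Env chevG2 F nTabG2 orbTabG2) (L : List ℕ)
    (hL : ∀ s ∈ L, s < chevG2.nroots) (hchk : ∀ r ∈ [6, 7, 8, 9, 10, 11, 5], normOK chevG2 L r) :
    rootClosure chevG2 F (· ∈ [6, 7, 8, 9, 10, 11, 5]) ⊔ chevG2.diagonalSubgroup F ≤
      Subgroup.normalizer (rootClosure chevG2 F (· ∈ L) : Set (GL chevG2.Idx F)) :=
  sup_le (rootClosure_le_normalizer E L _ hL (by decide) hchk)
    (diagonal_le_normalizer_rootClosure E L hL)

theorem Pt_le_normalizer_Q (E : Env chevG2 F nTabG2 orbTabG2) :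
    rootClosure chevG2 F (· ∈ [6, 7, 8, 9, 10, 11, 5]) ⊔ chevG2.diagonalSubgroup F ≤
      Subgroup.normalizer (rootClosure chevG2 F (· ∈ [9, 10, 11]) : Set (GL chevG2.Idx F)) :=
  Pt_le_normalizer E _ (by decide) (by decide)

theorem Pt_le_normalizer_Q' (E : Env chevG2 F nTabG2 orbTabG2) :
    rootClosure chevG2 F (· ∈ [6, 7, 8, 9, 10, 11, 5]) ⊔ chevG2.diagonalSubgroup F ≤
      Subgroup.normalizer (rootClosure chevG2 F (· ∈ [10, 11]) : Set (GL chevG2.Idx F)) :=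
  Pt_le_normalizer E _ (by decide) (by decide)

/-- an element of `Q'` has no `X_9`-part -/
theorem not_mem_Q' (E : Env chevG2 F nTabG2 orbTabG2) (α β γ : F)
    (h : E.hF.xGL 9 α * (E.hF.xGL 10 β * E.hF.xGL 11 γ) ∈ rootClosure chevG2 F (· ∈ [10, 11])) :
    α = 0 := by
  obtain ⟨β', γ', e⟩ := mem_Q' E _ h
  have h1 : E.hF.xGL 6 0 * (E.hF.xGL 7 0 * (E.hF.xGL 8 0 * (E.hF.xGL 9 α *
        (E.hF.xGL 10 β * E.hF.xGL 11 γ)))) =
      E.hF.xGL 6 0 * (E.hF.xGL 7 0 * (E.hF.xGL 8 0 * (E.hF.xGL 9 0 *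
        (E.hF.xGL 10 β' * E.hF.xGL 11 γ')))) := by
    simp only [E.hF.xGL_zero, one_mul]
    exact e
  exact (prod6_inj E _ _ _ _ _ _ _ _ _ _ _ _ h1).2.2.2.1

/-- the conjugate of `t = x_9(1)` by an element of `P_b` lies in `Q`, with a non-trivial `X_9`-part -/
theorem conj_t (E : Env chevG2 F nTabG2 orbTabG2) (p : GL chevG2.Idx F)
    (hp : p ∈ rootClosure chevG2 F (· ∈ [6, 7, 8, 9, 10, 11, 5]) ⊔ chevG2.diagonalSubgroup F) :
    ∃ α β γ : F, α ≠ 0 ∧
      p * E.hF.xGL 9 1 * p⁻¹ = E.hF.xGL 9 α * (E.hF.xGL 10 β * E.hF.xGL 11 γ) := by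
  have ht : E.hF.xGL 9 (1 : F) ∈ rootClosure chevG2 F (· ∈ [9, 10, 11]) :=
    E.hF.xGL_mem_rootClosure _ 9 (by simp) 1
  have h1 := conj_mem_of_mem_normalizer _ p _ (Pt_le_normalizer_Q E hp) ht
  obtain ⟨α, β, γ, e⟩ := mem_Q E _ h1
  refine ⟨α, β, γ, ?_, e⟩
  rintro rfl
  have h2 : p * E.hF.xGL 9 1 * p⁻¹ ∈ rootClosure chevG2 F (· ∈ [10, 11]) := by
    rw [e, E.hF.xGL_zero, one_mul]
    exact Subgroup.mul_mem _ (E.hF.xGL_mem_rootClosure _ 10 (by simp) β)
      (E.hF.xGL_mem_rootClosure _ 11 (by simp) γ)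
  have h3 := (conj_mem_iff_of_mem_normalizer _ p _ (Pt_le_normalizer_Q' E hp)).mp h2
  have h4 : E.hF.xGL 9 (1 : F) * (E.hF.xGL 10 0 * E.hF.xGL 11 0) ∈
      rootClosure chevG2 F (· ∈ [10, 11]) := by
    simpa [E.hF.xGL_zero] using h3
  exact one_ne_zero (not_mem_Q' E 1 0 0 h4)

theorem pos_le_LR :
    chevG2.posUnipotent F ≤ rootClosure chevG2 F (· ∈ [6, 7, 8, 9, 10, 11, 5]) := by
  unfold ChevalleyDatum.posUnipotent rootClosure
  apply Subgroup.closure_mono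
  rintro g ⟨s, u, hs, hg⟩
  have := (mem_posRoots chevG2 s).mpr hs
  rw [posRoots_G2] at this
  refine ⟨s, u, ?_, hg⟩
  simp only [List.mem_cons, List.not_mem_nil, or_false] at this ⊢
  omega

theorem conj_mul3 {G : Type*} [Group G] (n a b c : G) :
    n * (a * (b * c)) * n⁻¹ = (n * a * n⁻¹) * ((n * b * n⁻¹) * (n * c * n⁻¹)) := by group

/-- an element of `G` centralising `t = x_9(1)` lies in `P_b` -/
theorem cent_le_Pt (E : Env chevG2 F nTabG2 orbTabG2) (g : GL chevG2.Idx F)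
    (hgG : g ∈ chevG2.group F) (hgC : g * E.hF.xGL 9 1 = E.hF.xGL 9 1 * g) :
    g ∈ rootClosure chevG2 F (· ∈ [6, 7, 8, 9, 10, 11, 5]) ⊔ chevG2.diagonalSubgroup F := by
  have hgK : g ∈ PL chevG2 F [0, 1] := by
    rw [E.PL_all [0, 1] (by decide)]
    exact hgG
  obtain ⟨hSt, htab⟩ := cStep
  obtain ⟨m, hm, p, hp, u, hu, rfl⟩ := E.cells_cover' hSt g hgK
  have hpP := PL_le E hp
  have huU : u ∈ chevG2.posUnipotent F := rootClosure_pos_le _ _ _ (fun r hr => hr.1) hu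
  have huP : u ∈ rootClosure chevG2 F (· ∈ [6, 7, 8, 9, 10, 11, 5]) ⊔ chevG2.diagonalSubgroup F :=
    Subgroup.mem_sup_left (pos_le_LR huU)
  by_cases hm0 : m = 0
  · subst hm0
    rw [wordAt_zero]
    have e : E.hF.nW (F := F) [] = 1 := by simp [Facts.nW]
    rw [e, mul_one]
    exact Subgroup.mul_mem _ hpP huP
  · exfalso
    obtain ⟨α₁, β₁, γ₁, hα₁, e₁⟩ := conj_t E p⁻¹ (Subgroup.inv_mem _ hpP)
    obtain ⟨α₂, β₂, γ₂, hα₂, e₂⟩ := conj_t E u huP
    rw [inv_inv] at e₁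
    have hw := E.word_lt hSt m hm
    set n := E.hF.nW (F := F) (wordAt cPar m) with hndef
    have key : n * (u * E.hF.xGL 9 1 * u⁻¹) * n⁻¹ = p⁻¹ * E.hF.xGL 9 1 * p := by
      have h1 : E.hF.xGL 9 (1 : F) = (p * n * u)⁻¹ * (p * n * u * E.hF.xGL 9 1) := by group
      rw [hgC] at h1
      have h2 : E.hF.xGL 9 (1 : F) * (p * n * u)⁻¹ = (p * n * u)⁻¹ * E.hF.xGL 9 1 := by
        calc E.hF.xGL 9 (1 : F) * (p * n * u)⁻¹
            = (p * n * u)⁻¹ * (E.hF.xGL 9 1 * (p * n * u)) * (p * n * u)⁻¹ := by rw [← h1]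
          _ = _ := by group
      calc n * (u * E.hF.xGL 9 1 * u⁻¹) * n⁻¹
          = p⁻¹ * (p * n * u * E.hF.xGL 9 1) * (p * n * u)⁻¹ * p := by group
        _ = p⁻¹ * (E.hF.xGL 9 1 * (p * n * u)) * (p * n * u)⁻¹ * p := by rw [hgC]
        _ = _ := by group
    obtain ⟨η₁, hη₁, c9⟩ := E.hF.nW_conj (F := F) E.hN _ hw 9 (by decide)
    obtain ⟨η₂, hη₂, c10⟩ := E.hF.nW_conj (F := F) E.hN _ hw 10 (by decide)
    obtain ⟨η₃, hη₃, c11⟩ := E.hF.nW_conj (F := F) E.hN _ hw 11 (by decide)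
    rw [← htab m hm 9 (by decide)] at c9
    rw [← htab m hm 10 (by decide)] at c10
    rw [← htab m hm 11 (by decide)] at c11
    rw [← hndef] at c9 c10 c11
    rcases cImg m hm hm0 with ⟨h9, (⟨h10, h11⟩ | ⟨h10, h11⟩)⟩ | h9
    · rw [h9] at c9; rw [h10] at c10; rw [h11] at c11
      rw [e₂, e₁, conj_mul3, c9, c10, c11] at key
      have hc := cm E 8 6 (by decide) ((η₁ : F) * α₂) ((η₂ : F) * β₂)
      have h1 : E.hF.xGL 6 ((η₂ : F) * β₂) * (E.hF.xGL 7 0 * (E.hF.xGL 8 ((η₁ : F) * α₂) *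
            (E.hF.xGL 9 0 * (E.hF.xGL 10 0 * E.hF.xGL 11 ((η₃ : F) * γ₂))))) =
          E.hF.xGL 6 0 * (E.hF.xGL 7 0 * (E.hF.xGL 8 0 * (E.hF.xGL 9 α₁ *
            (E.hF.xGL 10 β₁ * E.hF.xGL 11 γ₁)))) := by
        simp only [E.hF.xGL_zero, one_mul]
        rw [← key, ← mul_assoc, ← hc, mul_assoc]
      exact hα₁ (prod6_inj E _ _ _ _ _ _ _ _ _ _ _ _ h1).2.2.2.1.symm
    · rw [h9] at c9; rw [h10] at c10; rw [h11] at c11
      rw [e₂, e₁, conj_mul3, c9, c10, c11] at key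
      have hc := cm E 8 6 (by decide) ((η₁ : F) * α₂) ((η₃ : F) * γ₂)
      have hc' := cm E 11 6 (by decide) ((η₂ : F) * β₂) ((η₃ : F) * γ₂)
      have h1 : E.hF.xGL 6 ((η₃ : F) * γ₂) * (E.hF.xGL 7 0 * (E.hF.xGL 8 ((η₁ : F) * α₂) *
            (E.hF.xGL 9 0 * (E.hF.xGL 10 0 * E.hF.xGL 11 ((η₂ : F) * β₂))))) =
          E.hF.xGL 6 0 * (E.hF.xGL 7 0 * (E.hF.xGL 8 0 * (E.hF.xGL 9 α₁ *
            (E.hF.xGL 10 β₁ * E.hF.xGL 11 γ₁)))) := by
        simp only [E.hF.xGL_zero, one_mul]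
        rw [← key, hc', ← mul_assoc (E.hF.xGL 8 _), hc, mul_assoc]
      exact hα₁ (prod6_inj E _ _ _ _ _ _ _ _ _ _ _ _ h1).2.2.2.1.symm
    · have hv : n * u * n⁻¹ ∈ chevG2.negUnipotent F := rootClosure_neg_conj n u hu
      have ht' : n * E.hF.xGL 9 1 * n⁻¹ ∈ chevG2.negUnipotent F := by
        rw [c9]
        rcases h9 with h | h <;> rw [h] <;> exact E.hF.xGL_mem_neg _ (by decide) _
      have e3 : p⁻¹ * E.hF.xGL 9 1 * p = (n * u * n⁻¹) * (n * E.hF.xGL 9 1 * n⁻¹) * (n * u * n⁻¹)⁻¹ := by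
        rw [← key]; group
      have hV : p⁻¹ * E.hF.xGL 9 1 * p ∈ chevG2.negUnipotent F := by
        rw [e3]
        exact Subgroup.mul_mem _ (Subgroup.mul_mem _ hv ht') (Subgroup.inv_mem _ hv)
      have hB : p⁻¹ * E.hF.xGL 9 1 * p ∈ chevG2.borelSubgroup F := by
        rw [e₁]
        apply pos_le_borel
        exact Subgroup.mul_mem _ (E.hF.xGL_mem_pos 9 (by decide) _)
          (Subgroup.mul_mem _ (E.hF.xGL_mem_pos 10 (by decide) _) (E.hF.xGL_mem_pos 11 (by decide) _))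
      have h1 : p⁻¹ * E.hF.xGL 9 1 * p ∈ chevG2.borelSubgroup F ⊓ chevG2.negUnipotent F := ⟨hB, hV⟩
      rw [E.hF.borel_inf_neg.1, Subgroup.mem_bot, e₁] at h1
      have h2 : E.hF.xGL 6 0 * (E.hF.xGL 7 0 * (E.hF.xGL 8 0 * (E.hF.xGL 9 α₁ *
            (E.hF.xGL 10 β₁ * E.hF.xGL 11 γ₁)))) =
          E.hF.xGL 6 0 * (E.hF.xGL 7 0 * (E.hF.xGL 8 0 * (E.hF.xGL 9 0 *
            (E.hF.xGL 10 0 * E.hF.xGL 11 0)))) := by
        simp only [E.hF.xGL_zero, one_mul]
        exact h1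
      exact hα₁ (prod6_inj E _ _ _ _ _ _ _ _ _ _ _ _ h2).2.2.2.1

/-- `⟨X_b, X_{-b}⟩` centralises `X_9` -/
theorem LL_comm (E : Env chevG2 F nTabG2 orbTabG2) (l : GL chevG2.Idx F)
    (hl : l ∈ rootClosure chevG2 F (· ∈ [6, 5])) (χ : F) :
    l * E.hF.xGL 9 χ = E.hF.xGL 9 χ * l := by
  have hle : rootClosure chevG2 F (· ∈ [6, 5]) ≤ Subgroup.centralizer {E.hF.xGL 9 χ} := by
    unfold rootClosure
    rw [Subgroup.closure_le]
    rintro g ⟨s, u, hs, hg⟩
    rw [E.hF.eq_xGL g s u hg, SetLike.mem_coe, Subgroup.mem_centralizer_iff]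
    intro x hx
    rw [Set.mem_singleton_iff] at hx
    subst hx
    simp only [List.mem_cons, List.not_mem_nil, or_false] at hs
    rcases hs with rfl | rfl
    · exact cm E 9 6 (by decide) χ u
    · exact cm E 9 5 (by decide) χ u
  exact (Subgroup.mem_centralizer_iff.mp (hle hl) _ rfl).symm

/-- the elements of `P_b` centralising `t = x_9(1)` -/
theorem Pt_cent_le [CharP F 2] (E : Env chevG2 F nTabG2 orbTabG2) (g : GL chevG2.Idx F)
    (hg : g ∈ rootClosure chevG2 F (· ∈ [6, 7, 8, 9, 10, 11, 5]) ⊔ chevG2.diagonalSubgroup F)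
    (hgC : g * E.hF.xGL 9 1 = E.hF.xGL 9 1 * g) :
    g ∈ rootClosure chevG2 F (· ∈ [9, 10, 11, 6, 5]) := by
  obtain ⟨q, hq, h, hh, rfl⟩ := exists_mul_of_mem_sup_of_le_normalizer _ _
    (diagonal_le_normalizer_rootClosure E [6, 7, 8, 9, 10, 11, 5] (by decide)) g hg
  have hle : rootClosure chevG2 F (· ∈ [6, 7, 8, 9, 10, 11, 5]) ≤
      rootClosure chevG2 F (· ∈ [7, 8, 9, 10, 11]) ⊔ rootClosure chevG2 F (· ∈ [6, 5]) := by
    unfold rootClosure
    rw [Subgroup.closure_le]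
    rintro x ⟨s, u, hs, hx⟩
    simp only [List.mem_cons, List.not_mem_nil, or_false] at hs
    rcases hs with rfl | rfl | rfl | rfl | rfl | rfl | rfl
    · exact Subgroup.mem_sup_right (Subgroup.subset_closure ⟨_, u, by simp, hx⟩)
    · exact Subgroup.mem_sup_left (Subgroup.subset_closure ⟨_, u, by simp, hx⟩)
    · exact Subgroup.mem_sup_left (Subgroup.subset_closure ⟨_, u, by simp, hx⟩)
    · exact Subgroup.mem_sup_left (Subgroup.subset_closure ⟨_, u, by simp, hx⟩)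
    · exact Subgroup.mem_sup_left (Subgroup.subset_closure ⟨_, u, by simp, hx⟩)
    · exact Subgroup.mem_sup_left (Subgroup.subset_closure ⟨_, u, by simp, hx⟩)
    · exact Subgroup.mem_sup_right (Subgroup.subset_closure ⟨_, u, by simp, hx⟩)
  have hnorm := rootClosure_le_normalizer E [7, 8, 9, 10, 11] [6, 5] (by decide) (by decide)
    (by decide)
  obtain ⟨y, hy, l, hl, rfl⟩ := exists_mul_of_mem_sup_of_le_normalizer _ _ hnorm q (hle hq)
  obtain ⟨a, b, α, β, γ, rfl⟩ := mem_Ub E y hy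
  -- the torus part
  obtain ⟨c, hc, hdiag⟩ := E.hF.diagonal_torus h hh
  set τ := torusEntry chevG2 (List.range chevG2.rank) c (chevG2.rank + 9) with hτdef
  have h2 : (h : Matrix chevG2.Idx chevG2.Idx F) * chevG2.x F 9 1 =
      chevG2.x F 9 (τ * 1) * (h : Matrix chevG2.Idx chevG2.Idx F) := by
    have h1 := E.hF.torus_mul_xMat c hc ⟨9, by decide⟩ (1 : F)
    rw [hdiag]
    unfold ChevalleyDatum.x
    rw [dif_pos (by decide), dif_pos (by decide)]
    exact h1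
  have h3 : h * E.hF.xGL 9 (1 : F) = E.hF.xGL 9 (τ * 1) * h :=
    Units.ext (by simpa using h2)
  rw [mul_one] at h3
  have hτc : τ = c 0 := torusEntry_single c 9 0 (by decide) (by decide)
  -- the equation in `U`
  set q' := E.hF.xGL 9 α * (E.hF.xGL 10 β * E.hF.xGL 11 γ) with hq'def
  have hq'c : q' * E.hF.xGL 9 τ = E.hF.xGL 9 τ * q' := by
    rw [hq'def, mul_assoc, mul_assoc, ← cm E 9 11 (by decide) τ γ, ← mul_assoc (E.hF.xGL 10 β),
      ← cm E 9 10 (by decide) τ β, mul_assoc, ← mul_assoc, E.hF.xGL_mul, add_comm, ← E.hF.xGL_mul,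
      mul_assoc]
  have hl9 := LL_comm E l hl τ
  have key : E.hF.xGL 7 a * (E.hF.xGL 8 b * q') * E.hF.xGL 9 τ =
      E.hF.xGL 9 1 * (E.hF.xGL 7 a * (E.hF.xGL 8 b * q')) := by
    have e1 : E.hF.xGL 7 a * (E.hF.xGL 8 b * q') * l * h * E.hF.xGL 9 1 =
        E.hF.xGL 7 a * (E.hF.xGL 8 b * q') * E.hF.xGL 9 τ * (l * h) := by
      rw [mul_assoc _ h, h3, ← mul_assoc _ _ h, mul_assoc _ l, hl9]
      group
    rw [e1] at hgC
    have e2 : E.hF.xGL 9 1 * (E.hF.xGL 7 a * (E.hF.xGL 8 b * q') * l * h) =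
        E.hF.xGL 9 1 * (E.hF.xGL 7 a * (E.hF.xGL 8 b * q')) * (l * h) := by group
    rw [e2] at hgC
    exact mul_right_cancel hgC
  have key2 : E.hF.xGL 9 τ * (E.hF.xGL 10 (((-3 : ℤ) : F) * (-τ) * a) *
      E.hF.xGL 11 (((-3 : ℤ) : F) * (-τ) * b)) = E.hF.xGL 9 1 := by
    have e1 : E.hF.xGL 7 a * (E.hF.xGL 8 b * q') * E.hF.xGL 9 τ *
        (E.hF.xGL 7 a * (E.hF.xGL 8 b * q'))⁻¹ =
        E.hF.xGL 7 a * (E.hF.xGL 8 b * E.hF.xGL 9 τ * (E.hF.xGL 8 b)⁻¹) * (E.hF.xGL 7 a)⁻¹ := by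
      rw [mul_assoc (E.hF.xGL 7 a), mul_assoc (E.hF.xGL 8 b), hq'c]
      group
    have e2 : E.hF.xGL 7 a * (E.hF.xGL 9 τ * E.hF.xGL 11 (((-3 : ℤ) : F) * (-τ) * b)) *
        (E.hF.xGL 7 a)⁻¹ = (E.hF.xGL 7 a * E.hF.xGL 9 τ * (E.hF.xGL 7 a)⁻¹) *
          (E.hF.xGL 7 a * E.hF.xGL 11 (((-3 : ℤ) : F) * (-τ) * b) * (E.hF.xGL 7 a)⁻¹) := by group
    have e3 : E.hF.xGL 7 a * E.hF.xGL 11 (((-3 : ℤ) : F) * (-τ) * b) * (E.hF.xGL 7 a)⁻¹ =
        E.hF.xGL 11 (((-3 : ℤ) : F) * (-τ) * b) := by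
      rw [cm E 7 11 (by decide), mul_assoc, mul_inv_cancel, mul_one]
    rw [key] at e1
    have e4 : E.hF.xGL 9 (1 : F) * (E.hF.xGL 7 a * (E.hF.xGL 8 b * q')) *
        (E.hF.xGL 7 a * (E.hF.xGL 8 b * q'))⁻¹ = E.hF.xGL 9 1 := by group
    rw [e4, conj_8_9 E, e2, conj_7_9 E, e3, mul_assoc] at e1
    exact e1.symm
  have h6 : E.hF.xGL 6 0 * (E.hF.xGL 7 0 * (E.hF.xGL 8 0 * (E.hF.xGL 9 τ *
        (E.hF.xGL 10 (((-3 : ℤ) : F) * (-τ) * a) * E.hF.xGL 11 (((-3 : ℤ) : F) * (-τ) * b))))) =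
      E.hF.xGL 6 0 * (E.hF.xGL 7 0 * (E.hF.xGL 8 0 * (E.hF.xGL 9 1 *
        (E.hF.xGL 10 0 * E.hF.xGL 11 0)))) := by
    simp only [E.hF.xGL_zero, one_mul, mul_one]
    exact key2
  obtain ⟨_, _, _, hτ1, ha0, hb0⟩ := prod6_inj E _ _ _ _ _ _ _ _ _ _ _ _ h6
  have h20 : (2 : F) = 0 := by
    have : ((2 : ℕ) : F) = 0 := CharP.cast_eq_zero F 2
    exact_mod_cast this
  have h31 : ((-3 : ℤ) : F) * (-1) = 1 := by
    push_cast
    linear_combination h20
  rw [hτ1, h31, one_mul] at ha0 hb0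
  subst ha0 hb0
  -- the three factors lie in `K`
  have hK1 : rootClosure chevG2 F (· ∈ [9, 10, 11]) ≤ rootClosure chevG2 F (· ∈ [9, 10, 11, 6, 5]) :=
    rootClosure_mono_list _ _ (by decide)
  have hK2 : rootClosure chevG2 F (· ∈ [6, 5]) ≤ rootClosure chevG2 F (· ∈ [9, 10, 11, 6, 5]) :=
    rootClosure_mono_list _ _ (by decide)
  have hyK : E.hF.xGL 7 0 * (E.hF.xGL 8 0 * q') ∈ rootClosure chevG2 F (· ∈ [9, 10, 11, 6, 5]) := by
    rw [E.hF.xGL_zero, E.hF.xGL_zero, one_mul, one_mul, hq'def]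
    apply hK1
    exact Subgroup.mul_mem _ (E.hF.xGL_mem_rootClosure _ 9 (by simp) α)
      (Subgroup.mul_mem _ (E.hF.xGL_mem_rootClosure _ 10 (by simp) β)
        (E.hF.xGL_mem_rootClosure _ 11 (by simp) γ))
  have hc0 : c 0 = 1 := by rw [← hτc, hτ1]
  have hword : h = E.hF.wordGL
      ((List.range chevG2.rank).flatMap fun i => chevG2.hWord (chevG2.simple i) (c i)) := by
    apply E.hF.eq_wordGL
    rw [hdiag, E.hF.wordMat_simple_torus simpleOK_G2 c (List.range chevG2.rank)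
      (fun i hi => ⟨List.mem_range.mp hi, hc i⟩)]
  have hhK : h ∈ rootClosure chevG2 F (· ∈ [6, 5]) := by
    rw [hword]
    apply E.hF.wordGL_flatMap_mem
    intro i hi
    have hi' := List.mem_range.mp hi
    by_cases hii : i = 0
    · subst hii
      have : E.hF.wordGL (chevG2.hWord (chevG2.simple 0) (c 0)) = 1 := by
        apply Units.ext
        rw [E.hF.wordGL_val, hc0]
        show chevG2.hMat F (chevG2.simple 0) 1 = 1
        rw [E.hF.hMat_root _ (simpleOK_spec chevG2 simpleOK_G2 0 hi').1 1 one_ne_zero]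
        simp
      rw [this]
      exact Subgroup.one_mem _
    · have hi1 : i = 1 := by
        have : chevG2.rank = 2 := by decide
        omega
      subst hi1
      apply E.hF.wordGL_mem_rootClosure
      intro p hp
      have h6' : chevG2.simple 1 = 6 := by decide
      have h5' : chevG2.neg 6 = 5 := by decide
      simp only [ChevalleyDatum.hWord, ChevalleyDatum.nWord, List.mem_append, List.mem_cons,
        List.not_mem_nil, or_false, h6', h5'] at hp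
      rcases hp with (rfl | rfl | rfl) | (rfl | rfl | rfl) <;> simp
  exact Subgroup.mul_mem _ (Subgroup.mul_mem _ hyK (hK2 hl)) (hK2 hhK)

/-- the closure of the root elements for five roots, as a join of root subgroups -/
theorem rootClosure_five (D : ChevalleyDatum) (F : Type*) [Field F] (a b c d e : ℕ) :
    rootClosure D F (· ∈ [a, b, c, d, e]) =
      D.rootSubgroup F a ⊔ D.rootSubgroup F b ⊔ D.rootSubgroup F c ⊔ D.rootSubgroup F d ⊔
        D.rootSubgroup F e := by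
  apply le_antisymm
  · unfold rootClosure
    rw [Subgroup.closure_le]
    rintro g ⟨s, u, hs, hg⟩
    simp only [List.mem_cons, List.not_mem_nil, or_false] at hs
    rcases hs with rfl | rfl | rfl | rfl | rfl
    · exact Subgroup.mem_sup_left (Subgroup.mem_sup_left (Subgroup.mem_sup_left
        (Subgroup.mem_sup_left (Subgroup.subset_closure ⟨u, hg⟩))))
    · exact Subgroup.mem_sup_left (Subgroup.mem_sup_left (Subgroup.mem_sup_left
        (Subgroup.mem_sup_right (Subgroup.subset_closure ⟨u, hg⟩))))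
    · exact Subgroup.mem_sup_left (Subgroup.mem_sup_left (Subgroup.mem_sup_right
        (Subgroup.subset_closure ⟨u, hg⟩)))
    · exact Subgroup.mem_sup_left (Subgroup.mem_sup_right (Subgroup.subset_closure ⟨u, hg⟩))
    · exact Subgroup.mem_sup_right (Subgroup.subset_closure ⟨u, hg⟩)
  · have hroot : ∀ x, x ∈ [a, b, c, d, e] →
        D.rootSubgroup F x ≤ rootClosure D F (· ∈ [a, b, c, d, e]) := by
      intro x hx
      unfold ChevalleyDatum.rootSubgroup rootClosure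
      apply Subgroup.closure_mono
      rintro g ⟨u, hg⟩
      exact ⟨x, u, hx, hg⟩
    exact sup_le (sup_le (sup_le (sup_le (hroot a (by simp)) (hroot b (by simp)))
      (hroot c (by simp))) (hroot d (by simp))) (hroot e (by simp))

/-- S2180, second part: the centraliser of `t = x_{2a+b}(1)` -/
theorem centralizer_G2_9 [CharP F 2] (t : GL chevG2.Idx F)
    (ht : (t : Matrix chevG2.Idx chevG2.Idx F) = chevG2.x F 9 1) :
    chevG2.group F ⊓ Subgroup.centralizer {t} =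
      chevG2.rootSubgroup F 9 ⊔ chevG2.rootSubgroup F 10 ⊔ chevG2.rootSubgroup F 11 ⊔
        chevG2.rootSubgroup F 6 ⊔ chevG2.rootSubgroup F 5 := by
  obtain ⟨E⟩ := env_of_facts (F := F) chevG2 (by simp) nTabG2 orbTabG2 nfacts_G2 hnfacts_G2
    cfacts_G2
  have htx : t = E.hF.xGL 9 1 := E.hF.eq_xGL t 9 1 ht
  subst htx
  rw [← rootClosure_five]
  apply le_antisymm
  · rintro g ⟨hgG, hgC⟩
    have hc : g * E.hF.xGL 9 1 = E.hF.xGL 9 1 * g :=
      (Subgroup.mem_centralizer_iff.mp hgC _ rfl).symm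
    exact Pt_cent_le E g (cent_le_Pt E g hgG hc) hc
  · unfold rootClosure
    rw [Subgroup.closure_le]
    rintro g ⟨s, u, hs, hg⟩
    rw [E.hF.eq_xGL g s u hg]
    refine ⟨E.hF.xGL_mem_group s u, ?_⟩
    show E.hF.xGL s u ∈ Subgroup.centralizer {E.hF.xGL 9 (1 : F)}
    rw [Subgroup.mem_centralizer_iff]
    intro x hx
    rw [Set.mem_singleton_iff] at hx
    subst hx
    simp only [List.mem_cons, List.not_mem_nil, or_false] at hs
    rcases hs with rfl | rfl | rfl | rfl | rfl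
    · rw [E.hF.xGL_mul, E.hF.xGL_mul, add_comm]
    · exact cm E 9 10 (by decide) 1 u
    · exact cm E 9 11 (by decide) 1 u
    · exact cm E 9 6 (by decide) 1 u
    · exact cm E 9 5 (by decide) 1 u

end g2

end Cfsg.Agent.Lib.Helper37.G2Cent
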