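import Cfsg.Agent.Lib.Helper24.OrdS_G2

/-!
# The cosets `W_J \ W` of type `G₂` for `J = {b}` (tables for S2180)

The six representatives `1, s_a, s_a s_b, s_a s_b s_a, s_a s_b s_a s_b, s_a s_b s_a s_b s_a` of the cosets of
`W_J = ⟨s_b⟩`, in the format of the cell decomposition of `Helper24` (`P_K = ⋃ P_J n_m B`).
-/

set_option autoImplicit false
set_option maxRecDepth 100000

namespace Cfsg.Agent.Lib.Helper37.G2Cent

open Cfsg.Lie
open Cfsg.Agent.Lib.Helper24

def cPm : List ℕ := [0xb0a09080706050403020100, 0xb060809040a010702030500, 0x60b080409010a0207030005,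
  0x6010408020b000903070a05, 0x106040208000b030907050a, 0x10002040306050807090b0a]
def cPar : List ℕ := [0, 17, 32, 49, 64]
def cEc : List ℕ := [0x0002001f, 0x002f000e, 0x001e003f, 0x004f002e, 0x003e005f, 0x0052004e]

theorem cTree : treeOK chevG2.nroots ordS_G2 [0, 1] cPm cPar = true := by decide +kernel

theorem cEdge : edgeOK chevG2 ordS_G2 [1] [0, 1] cPm cPar cEc = true := by decide +kernel

/-- the images of the roots `9, 10, 11` under the representatives other than `1` -/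
theorem cImg : ∀ m < 6, m ≠ 0 →
    (wq (cPm.getD m 0) 9 = 8 ∧ (wq (cPm.getD m 0) 10 = 6 ∧ wq (cPm.getD m 0) 11 = 11 ∨
      wq (cPm.getD m 0) 10 = 11 ∧ wq (cPm.getD m 0) 11 = 6)) ∨
    (wq (cPm.getD m 0) 9 = 4 ∨ wq (cPm.getD m 0) 9 = 2) := by decide +kernel

theorem cStep : StepFacts chevG2 [1] [0, 1] cPar 6 ∧
    ∀ m < 6, ∀ s < chevG2.nroots, wq (cPm.getD m 0) s = rhoW chevG2 (wordAt cPar m) s := by
  have hS' := reflTabOK_spec nfacts_G2 hnfacts_G2 ordS_G2 ordS_G2_ok
  have hK' : ∀ i ∈ [0, 1], i < chevG2.rank := by decide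
  have hJK' : ∀ j ∈ [1], j ∈ [0, 1] := by decide
  have hJ' : ∀ j ∈ [1], j < chevG2.rank := by decide
  have hsimple : ∀ i < chevG2.rank, chevG2.simple i < chevG2.nroots :=
    fun i hi => Facts.simple_lt hnfacts_G2 i hi
  obtain ⟨hlen, hpar, htree⟩ := treeOK_spec nfacts_G2 ordS_G2 [0, 1] cPm cPar
    (fun i hi s hs => (hS' i hi s hs).1) hK' cTree
  have hedge := edgeOK_spec nfacts_G2 ordS_G2 [1] [0, 1] cPm cPar cEc hS' hK' (by decide) hsimple
    hlen hpar (fun m hm => (htree m hm).2) cEdge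
  have hl : cPm.length = 6 := rfl
  rw [hl] at hedge htree
  exact ⟨⟨hJ', hK', hJK', by omega, fun m hm => (htree m hm).1, hedge⟩,
    fun m hm => (htree m hm).2⟩

end Cfsg.Agent.Lib.Helper37.G2Cent
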