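import Mathlib

/-!
# Involutions of the unipotent group of `G₂(q)`, `q` even: abstract root-group data (pack K-G2I, S2177)

`UData F G`: six families `x r : F → G` (`r = 6, …, 11`; `6 = b` long, `7 = a` short, `8 = a+b`,
`9 = 2a+b`, `10 = 3a+b`, `11 = 3a+2b`) in a group `G`, with the Chevalley commutator relations of `G₂`
in characteristic `2`, uniqueness of the ordered factorisation, and the conjugations by torus and Weyl
group elements that are needed to classify the involutions of `U` up to conjugacy in `G`.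
Everything here is Mathlib-only; the instance for `G₂(F)` is built elsewhere.
-/

set_option autoImplicit false
set_option linter.unusedSectionVars false

namespace Cfsg.Agent.Lib.Helper37.G2Inv

/-- abstract root-group data of `U ≤ G₂(F)`, `char F = 2` -/
structure UData (F : Type*) [Field F] (G : Type*) [Group G] where
  x : ℕ → F → G
  add : ∀ (r : ℕ) (t u : F), x r t * x r u = x r (t + u)
  sqrt : ∀ a : F, ∃ b : F, b * b = a
  c68 : ∀ t u : F, x 6 t * x 8 u = x 8 u * x 6 t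
  c69 : ∀ t u : F, x 6 t * x 9 u = x 9 u * x 6 t
  c611 : ∀ t u : F, x 6 t * x 11 u = x 11 u * x 6 t
  c710 : ∀ t u : F, x 7 t * x 10 u = x 10 u * x 7 t
  c711 : ∀ t u : F, x 7 t * x 11 u = x 11 u * x 7 t
  c810 : ∀ t u : F, x 8 t * x 10 u = x 10 u * x 8 t
  c811 : ∀ t u : F, x 8 t * x 11 u = x 11 u * x 8 t
  c910 : ∀ t u : F, x 9 t * x 10 u = x 10 u * x 9 t
  c911 : ∀ t u : F, x 9 t * x 11 u = x 11 u * x 9 t
  c1011 : ∀ t u : F, x 10 t * x 11 u = x 11 u * x 10 t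
  r67 : ∀ t u : F, x 7 u * x 6 t = x 6 t * x 7 u * (x 8 (t * u) * (x 9 (t * u ^ 2) * x 10 (t * u ^ 3)))
  r78 : ∀ t u : F, x 8 u * x 7 t = x 7 t * x 8 u * (x 10 (t ^ 2 * u) * x 11 (t * u ^ 2))
  r79 : ∀ t u : F, x 9 u * x 7 t = x 7 t * x 9 u * x 10 (t * u)
  r610 : ∀ t u : F, x 10 u * x 6 t = x 6 t * x 10 u * x 11 (t * u)
  r89 : ∀ t u : F, x 9 u * x 8 t = x 8 t * x 9 u * x 11 (t * u)
  inj : ∀ a6 a7 a8 a9 a10 a11 b6 b7 b8 b9 b10 b11 : F,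
    x 6 a6 * (x 7 a7 * (x 8 a8 * (x 9 a9 * (x 10 a10 * x 11 a11)))) =
      x 6 b6 * (x 7 b7 * (x 8 b8 * (x 9 b9 * (x 10 b10 * x 11 b11)))) →
    a6 = b6 ∧ a7 = b7 ∧ a8 = b8 ∧ a9 = b9 ∧ a10 = b10 ∧ a11 = b11
  torus9 : ∀ a : F, a ≠ 0 → ∃ g : G, g * x 9 a * g⁻¹ = x 9 1
  torus11 : ∀ a : F, a ≠ 0 → ∃ g : G, g * x 11 a * g⁻¹ = x 11 1
  w10_11 : ∀ a : F, ∃ g : G, g * x 10 a * g⁻¹ = x 11 a
  w7_9 : ∀ a : F, ∃ g : G, g * x 7 a * g⁻¹ = x 9 a
  w8_9 : ∀ a : F, ∃ g : G, g * x 8 a * g⁻¹ = x 9 a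
  w6_11 : ∀ a : F, ∃ g : G, g * x 6 a * g⁻¹ = x 11 a
  w68 : ∀ a b : F, ∃ g : G, g * (x 6 a * x 8 b) * g⁻¹ = x 10 a * x 9 b

variable {F : Type*} [Field F] [CharP F 2] {G : Type*} [Group G]

namespace UData

variable (D : UData F G)

/-- `z α β γ = x₉(α) x₁₀(β) x₁₁(γ)`: the elements of the abelian normal subgroup `Z = X₉X₁₀X₁₁` -/
def z (α β γ : F) : G := D.x 9 α * (D.x 10 β * D.x 11 γ)

/-- the ordered product of six root elements -/
def prod (a6 a7 a8 a9 a10 a11 : F) : G :=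
  D.x 6 a6 * (D.x 7 a7 * (D.x 8 a8 * (D.x 9 a9 * (D.x 10 a10 * D.x 11 a11))))

/-- `u` is conjugate in `G` to `x₁₁(1)` or to `x₉(1)` -/
def Good (u : G) : Prop := ∃ g : G, g * u * g⁻¹ = D.x 11 1 ∨ g * u * g⁻¹ = D.x 9 1

theorem x_zero (r : ℕ) : D.x r 0 = 1 := by
  have h := D.add r 0 0
  rw [add_zero] at h
  exact mul_eq_left.mp h

theorem x_sq (r : ℕ) (t : F) : D.x r t * D.x r t = 1 := by
  rw [D.add, CharTwo.add_self_eq_zero, D.x_zero]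

theorem x_inv (r : ℕ) (t : F) : (D.x r t)⁻¹ = D.x r t :=
  inv_eq_of_mul_eq_one_right (D.x_sq r t)

theorem good_of_conj (h u : G) (hg : D.Good (h * u * h⁻¹)) : D.Good u := by
  obtain ⟨g, hg⟩ := hg
  refine ⟨g * h, ?_⟩
  have e : g * h * u * (g * h)⁻¹ = g * (h * u * h⁻¹) * g⁻¹ := by group
  rw [e]
  exact hg

theorem prod_eq (a6 a7 a8 a9 a10 a11 : F) :
    D.prod a6 a7 a8 a9 a10 a11 = D.x 6 a6 * (D.x 7 a7 * (D.x 8 a8 * D.z a9 a10 a11)) := rfl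

end UData

end Cfsg.Agent.Lib.Helper37.G2Inv
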