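import Cfsg.Agent.Lib.Helper37.G2CentMain
import Cfsg.Agent.Lib.Helper37.G2InvDefs
import Cfsg.Agent.Lib.Helper24.SimpleTables

/-!
# The root-group data `UData` of `G₂(F)`, `F` finite of characteristic `2` (S2177)
-/

set_option autoImplicit false
set_option linter.unusedSimpArgs false
set_option linter.unusedVariables false
set_option linter.unusedSectionVars false
set_option maxRecDepth 100000

namespace Cfsg.Agent.Lib.Helper37.G2Inv

open Cfsg.Lie Matrix
open Cfsg.Agent.Lib.Helper24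
open Cfsg.Agent.Lib.Helper37.G2Cent

variable {F : Type*} [Field F] [CharP F 2]

theorem two0 : (2 : F) = 0 := CharTwo.two_eq_zero
theorem three1 : (3 : F) = 1 := by
  have : (3 : F) = 2 + 1 := by norm_num
  rw [this, two0, zero_add]

/-- the commutator word of a pair of roots, from the table -/
theorem commWord_eq (E : Env chevG2 F nTabG2 orbTabG2) (r s : ℕ) (hr : r < chevG2.nroots)
    (hs : s < chevG2.nroots) (L : List (ℕ × ℤ × ℕ × ℕ)) (hL : commTermsQ chevG2 r s = L) (t u : F) :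
    chevG2.commWord F r s t u = L.map fun p => (p.1, (p.2.1 : F) * (-t) ^ p.2.2.1 * u ^ p.2.2.2) := by
  unfold ChevalleyDatum.commWord
  rw [← E.hC.commTermsF_eq r s hr hs, ← commTermsQ_eq, hL]

theorem rel67 (E : Env chevG2 F nTabG2 orbTabG2) (t u : F) :
    E.hF.xGL 7 u * E.hF.xGL 6 t = E.hF.xGL 6 t * E.hF.xGL 7 u *
      (E.hF.xGL 8 (t * u) * (E.hF.xGL 9 (t * u ^ 2) * E.hF.xGL 10 (t * u ^ 3))) := by
  have hq := E.hcomm 6 (by decide) 7 (by decide) (by decide) (by decide) t u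
  rw [commWord_eq E 6 7 (by decide) (by decide)
    [(8, 1, 1, 1), (9, 1, 1, 2), (10, -1, 1, 3), (11, -2, 2, 3)] (by decide) t u] at hq
  rw [hq]
  simp only [List.map_cons, List.map_nil, Facts.wordGL_cons, Facts.wordGL]
  simp [CharTwo.neg_eq, two0, E.hF.xGL_zero]

theorem rel78 (E : Env chevG2 F nTabG2 orbTabG2) (t u : F) :
    E.hF.xGL 8 u * E.hF.xGL 7 t = E.hF.xGL 7 t * E.hF.xGL 8 u *
      (E.hF.xGL 10 (t ^ 2 * u) * E.hF.xGL 11 (t * u ^ 2)) := by
  have hq := E.hcomm 7 (by decide) 8 (by decide) (by decide) (by decide) t u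
  rw [commWord_eq E 7 8 (by decide) (by decide)
    [(9, -2, 1, 1), (10, -3, 2, 1), (11, 3, 1, 2)] (by decide) t u] at hq
  rw [hq]
  simp only [List.map_cons, List.map_nil, Facts.wordGL_cons, Facts.wordGL]
  simp [CharTwo.neg_eq, two0, three1, E.hF.xGL_zero]

theorem rel79 (E : Env chevG2 F nTabG2 orbTabG2) (t u : F) :
    E.hF.xGL 9 u * E.hF.xGL 7 t = E.hF.xGL 7 t * E.hF.xGL 9 u * E.hF.xGL 10 (t * u) := by
  have hq := E.hcomm 7 (by decide) 9 (by decide) (by decide) (by decide) t u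
  rw [commWord_eq E 7 9 (by decide) (by decide) [(10, 3, 1, 1)] (by decide) t u] at hq
  rw [hq]
  simp only [List.map_cons, List.map_nil, Facts.wordGL_cons, Facts.wordGL]
  simp [CharTwo.neg_eq, two0, three1, E.hF.xGL_zero]

theorem rel610 (E : Env chevG2 F nTabG2 orbTabG2) (t u : F) :
    E.hF.xGL 10 u * E.hF.xGL 6 t = E.hF.xGL 6 t * E.hF.xGL 10 u * E.hF.xGL 11 (t * u) := by
  have hq := E.hcomm 6 (by decide) 10 (by decide) (by decide) (by decide) t u
  rw [commWord_eq E 6 10 (by decide) (by decide) [(11, 1, 1, 1)] (by decide) t u] at hq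
  rw [hq]
  simp only [List.map_cons, List.map_nil, Facts.wordGL_cons, Facts.wordGL]
  simp [CharTwo.neg_eq, two0, three1, E.hF.xGL_zero]

theorem rel89 (E : Env chevG2 F nTabG2 orbTabG2) (t u : F) :
    E.hF.xGL 9 u * E.hF.xGL 8 t = E.hF.xGL 8 t * E.hF.xGL 9 u * E.hF.xGL 11 (t * u) := by
  have hq := E.hcomm 8 (by decide) 9 (by decide) (by decide) (by decide) t u
  rw [commWord_eq E 8 9 (by decide) (by decide) [(11, 3, 1, 1)] (by decide) t u] at hq
  rw [hq]
  simp only [List.map_cons, List.map_nil, Facts.wordGL_cons, Facts.wordGL]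
  simp [CharTwo.neg_eq, two0, three1, E.hF.xGL_zero]

/-- conjugation by `n_{p_i}` in characteristic `2`: no sign -/
theorem nS_conj2 (E : Env chevG2 F nTabG2 orbTabG2) (i : ℕ) (hi : i < chevG2.rank) (s : ℕ)
    (hs : s < chevG2.nroots) (t : F) :
    E.hF.nS i * E.hF.xGL s t * (E.hF.nS i)⁻¹ = E.hF.xGL (chevG2.reflectRoot i s) t := by
  obtain ⟨η, hη, h⟩ := E.hF.nS_conj E.hN i hi s hs (F := F)
  rw [h t]
  rcases hη with rfl | rfl
  · simp
  · simp [CharTwo.neg_eq]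

theorem nS_mem_group (E : Env chevG2 F nTabG2 orbTabG2) (i : ℕ) :
    (E.hF.nS i : GL chevG2.Idx F) ∈ chevG2.group F := by
  unfold Facts.nS Facts.nGL
  exact E.hF.wordGL_mem_group _

/-- a torus element scaling `X_r` by `c i₀` -/
theorem torus_conj (E : Env chevG2 F nTabG2 orbTabG2) (c : ℕ → F) (hc : ∀ i, c i ≠ 0) (r i₀ : ℕ)
    (hr : r < chevG2.nroots) (hi₀ : i₀ < chevG2.rank)
    (hcart : ∀ i < chevG2.rank, chevG2.cartan i r = if i = i₀ then 1 else 0) (t : F) :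
    ∃ h : GL chevG2.Idx F, h ∈ chevG2.group F ∧
      h * E.hF.xGL r t * h⁻¹ = E.hF.xGL r (c i₀ * t) := by
  let h := E.hF.wordGL
    ((List.range chevG2.rank).flatMap fun i => chevG2.hWord (chevG2.simple i) (c i))
  have hdiag : (h : Matrix chevG2.Idx chevG2.Idx F) = Matrix.diagonal
      (fun idx : chevG2.Idx => torusEntry chevG2 (List.range chevG2.rank) c (enc chevG2 idx)) := by
    show ((E.hF.wordGL _ : GL chevG2.Idx F) : Matrix chevG2.Idx chevG2.Idx F) = _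
    rw [E.hF.wordGL_val]
    exact E.hF.wordMat_simple_torus simpleOK_G2 c (List.range chevG2.rank)
      (fun i hi => ⟨List.mem_range.mp hi, hc i⟩)
  refine ⟨h, E.hF.wordGL_mem_group _, ?_⟩
  have h1 := E.hF.torus_mul_xMat c hc ⟨r, hr⟩ t
  have h2 : (h : Matrix chevG2.Idx chevG2.Idx F) * chevG2.x F r t =
      chevG2.x F r (torusEntry chevG2 (List.range chevG2.rank) c (chevG2.rank + r) * t) *
        (h : Matrix chevG2.Idx chevG2.Idx F) := by
    rw [hdiag]
    unfold ChevalleyDatum.x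
    rw [dif_pos hr, dif_pos hr]
    exact h1
  have h3 : h * E.hF.xGL r t =
      E.hF.xGL r (torusEntry chevG2 (List.range chevG2.rank) c (chevG2.rank + r) * t) * h :=
    Units.ext (by simpa using h2)
  rw [torusEntry_single c r i₀ hi₀ hcart] at h3
  rw [h3]
  group

theorem conj_conj {G : Type*} [Group G] (m n x : G) : (m * n) * x * (m * n)⁻¹ = m * (n * x * n⁻¹) * m⁻¹ := by
  group

theorem conj_mul2 {G : Type*} [Group G] (n a b : G) : n * (a * b) * n⁻¹ = (n * a * n⁻¹) * (n * b * n⁻¹) := by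
  group

/-- the root-group data of `G₂(F)` -/
noncomputable def uData [Fintype F] (E : Env chevG2 F nTabG2 orbTabG2) : UData F ↥(chevG2.group F) where
  x := fun r t => ⟨E.hF.xGL r t, E.hF.xGL_mem_group r t⟩
  add := fun r t u => Subtype.ext (E.hF.xGL_mul r t u)
  sqrt := fun a => by
    obtain ⟨b, hb⟩ := FiniteField.isSquare_of_char_two (ringChar.eq F 2) a
    exact ⟨b, hb.symm⟩
  c68 := fun t u => Subtype.ext (cm E 6 8 (by decide) t u)
  c69 := fun t u => Subtype.ext (cm E 6 9 (by decide) t u)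
  c611 := fun t u => Subtype.ext (cm E 6 11 (by decide) t u)
  c710 := fun t u => Subtype.ext (cm E 7 10 (by decide) t u)
  c711 := fun t u => Subtype.ext (cm E 7 11 (by decide) t u)
  c810 := fun t u => Subtype.ext (cm E 8 10 (by decide) t u)
  c811 := fun t u => Subtype.ext (cm E 8 11 (by decide) t u)
  c910 := fun t u => Subtype.ext (cm E 9 10 (by decide) t u)
  c911 := fun t u => Subtype.ext (cm E 9 11 (by decide) t u)
  c1011 := fun t u => Subtype.ext (cm E 10 11 (by decide) t u)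
  r67 := fun t u => Subtype.ext (rel67 E t u)
  r78 := fun t u => Subtype.ext (rel78 E t u)
  r79 := fun t u => Subtype.ext (rel79 E t u)
  r610 := fun t u => Subtype.ext (rel610 E t u)
  r89 := fun t u => Subtype.ext (rel89 E t u)
  inj := fun a6 a7 a8 a9 a10 a11 b6 b7 b8 b9 b10 b11 h =>
    prod6_inj E a6 a7 a8 a9 a10 a11 b6 b7 b8 b9 b10 b11 (congrArg Subtype.val h)
  torus9 := fun a ha => by
    obtain ⟨h, hm, e⟩ := torus_conj E (fun i => if i = 0 then a⁻¹ else 1)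
      (fun i => by split_ifs <;> simp [ha]) 9 0 (by decide) (by decide) (by decide) a
    refine ⟨⟨h, hm⟩, Subtype.ext ?_⟩
    show h * E.hF.xGL 9 a * h⁻¹ = E.hF.xGL 9 1
    rw [e]
    simp [ha]
  torus11 := fun a ha => by
    obtain ⟨h, hm, e⟩ := torus_conj E (fun i => if i = 1 then a⁻¹ else 1)
      (fun i => by split_ifs <;> simp [ha]) 11 1 (by decide) (by decide) (by decide) a
    refine ⟨⟨h, hm⟩, Subtype.ext ?_⟩
    show h * E.hF.xGL 11 a * h⁻¹ = E.hF.xGL 11 1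
    rw [e]
    simp [ha]
  w10_11 := fun a => ⟨⟨E.hF.nS 1, nS_mem_group E 1⟩, Subtype.ext (by
    show E.hF.nS 1 * E.hF.xGL 10 a * (E.hF.nS 1)⁻¹ = E.hF.xGL 11 a
    rw [nS_conj2 E 1 (by decide) 10 (by decide) a]
    rfl)⟩
  w7_9 := fun a => ⟨⟨E.hF.nS 0, nS_mem_group E 0⟩ * ⟨E.hF.nS 1, nS_mem_group E 1⟩, Subtype.ext (by
    show (E.hF.nS 0 * E.hF.nS 1) * E.hF.xGL 7 a * (E.hF.nS 0 * E.hF.nS 1)⁻¹ = E.hF.xGL 9 a
    rw [conj_conj, nS_conj2 E 1 (by decide) 7 (by decide) a,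
      nS_conj2 E 0 (by decide) _ (by decide) a]
    rfl)⟩
  w8_9 := fun a => ⟨⟨E.hF.nS 0, nS_mem_group E 0⟩, Subtype.ext (by
    show E.hF.nS 0 * E.hF.xGL 8 a * (E.hF.nS 0)⁻¹ = E.hF.xGL 9 a
    rw [nS_conj2 E 0 (by decide) 8 (by decide) a]
    rfl)⟩
  w6_11 := fun a => ⟨⟨E.hF.nS 1, nS_mem_group E 1⟩ * ⟨E.hF.nS 0, nS_mem_group E 0⟩, Subtype.ext (by
    show (E.hF.nS 1 * E.hF.nS 0) * E.hF.xGL 6 a * (E.hF.nS 1 * E.hF.nS 0)⁻¹ = E.hF.xGL 11 a
    rw [conj_conj, nS_conj2 E 0 (by decide) 6 (by decide) a,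
      nS_conj2 E 1 (by decide) _ (by decide) a]
    rfl)⟩
  w68 := fun a b => ⟨⟨E.hF.nS 0, nS_mem_group E 0⟩, Subtype.ext (by
    show E.hF.nS 0 * (E.hF.xGL 6 a * E.hF.xGL 8 b) * (E.hF.nS 0)⁻¹ = E.hF.xGL 10 a * E.hF.xGL 9 b
    rw [conj_mul2, nS_conj2 E 0 (by decide) 6 (by decide) a,
      nS_conj2 E 0 (by decide) 8 (by decide) b]
    rfl)⟩

end Cfsg.Agent.Lib.Helper37.G2Inv
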