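import Cfsg.Agent.Lib.Helper37.G2InvInst
import Cfsg.Agent.Lib.Helper27.G2InvGlue
import Cfsg.Agent.Lib.Helper66.G2InvN3
import Cfsg.Agent.Lib.Helper61.G2InvN2
import Cfsg.Agent.S2326
import Cfsg.Agent.S1030
import Cfsg.Agent.S2180

/-!
# The two classes of involutions of `G₂(q)`, `q` even (S2177)
-/

set_option autoImplicit false
set_option linter.unusedSimpArgs false
set_option linter.unusedVariables false
set_option linter.unusedSectionVars false
set_option maxRecDepth 100000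

namespace Cfsg.Agent.Lib.Helper37.G2Inv

open Cfsg.Lie Matrix
open Cfsg.Agent.Lib.Helper24
open Cfsg.Agent.Lib.Helper37.G2Cent

variable {F : Type*} [Field F] [Fintype F] [CharP F 2]

/-- every involution of `G₂(F)` is conjugate into `U` -/
theorem conj_into_U (g : ↥(chevG2.group F)) (hg : orderOf g = 2) :
    ∃ k : ↥(chevG2.group F), ((k * g * k⁻¹ : ↥(chevG2.group F)) : GL chevG2.Idx F) ∈
      chevG2.posUnipotent F := by
  haveI : Fact (Nat.Prime 2) := ⟨Nat.prime_two⟩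
  obtain ⟨P, hP⟩ := Cfsg.Agent.S2326.result (F := F) 2 chevG2 (by simp)
  have hpg : IsPGroup 2 (Subgroup.zpowers g) := by
    apply IsPGroup.of_card (n := 1)
    rw [Nat.card_zpowers, hg, pow_one]
  obtain ⟨Q, hQ⟩ := hpg.exists_le_sylow
  obtain ⟨k, hk⟩ := MulAction.exists_smul_eq ↥(chevG2.group F) Q P
  refine ⟨k, ?_⟩
  have h1 : g ∈ (Q : Subgroup ↥(chevG2.group F)) := hQ (Subgroup.mem_zpowers g)
  have h2 : k * g * k⁻¹ ∈ ((k • Q : Sylow 2 ↥(chevG2.group F)) : Subgroup ↥(chevG2.group F)) := by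
    rw [Sylow.coe_subgroup_smul]
    have := Subgroup.smul_mem_pointwise_smul g (MulAut.conj k) (Q : Subgroup ↥(chevG2.group F)) h1
    simpa [MulAut.smul_def] using this
  rw [hk, hP] at h2
  exact Subgroup.mem_subgroupOf.mp h2

theorem pos_le_six : chevG2.posUnipotent F ≤ rootClosure chevG2 F (· ∈ [6, 7, 8, 9, 10, 11]) := by
  rw [posUnipotent_eq_rootClosure, posRoots_G2]

/-- part (b) in the subtype group -/
theorem exists_conj_involution (E : Env chevG2 F nTabG2 orbTabG2) (g : ↥(chevG2.group F))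
    (hg : orderOf g = 2) : (uData E).Good g := by
  obtain ⟨k, hk⟩ := conj_into_U g hg
  apply (uData E).good_of_conj k g
  obtain ⟨t, ht⟩ := exists_ordProd_G2 E [6, 7, 8, 9, 10, 11] (by decide) (by decide) (by
    intro r hr s hs hrs
    have := (mem_posRoots chevG2 s).mpr hs
    rw [posRoots_G2] at this
    exact this) _ (pos_le_six hk)
  have e : k * g * k⁻¹ = (uData E).prod (t 6) (t 7) (t 8) (t 9) (t 10) (t 11) := by
    apply Subtype.ext
    rw [ht]
    simp [Facts.ordProd_cons, Facts.ordProd_nil, UData.prod, uData]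
  have hg2 : g * g = 1 := by
    have := pow_orderOf_eq_one g
    rw [hg, pow_two] at this
    exact this
  have hg1 : g ≠ 1 := by
    rintro rfl
    rw [orderOf_one] at hg
    omega
  rw [e]
  apply Cfsg.Agent.Lib.Helper27.G2Inv.good_of_involution
  · rw [← e]
    calc k * g * k⁻¹ * (k * g * k⁻¹) = k * (g * g) * k⁻¹ := by group
      _ = 1 := by rw [hg2]; group
  · rw [← e]
    intro h
    apply hg1
    have : g = k⁻¹ * (k * g * k⁻¹) * k := by group
    rw [this, h]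
    group

theorem rootSubgroup_le_rootClosure (D : ChevalleyDatum) (L : List ℕ) (x : ℕ) (hx : x ∈ L) :
    D.rootSubgroup F x ≤ rootClosure D F (· ∈ L) := by
  unfold ChevalleyDatum.rootSubgroup rootClosure
  apply Subgroup.closure_mono
  rintro g ⟨u, hg⟩
  exact ⟨x, u, hx, hg⟩

theorem rootClosure_three (D : ChevalleyDatum) (a b c : ℕ) :
    rootClosure D F (· ∈ [a, b, c]) = D.rootSubgroup F a ⊔ D.rootSubgroup F b ⊔ D.rootSubgroup F c := by
  apply le_antisymm
  · unfold rootClosure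
    rw [Subgroup.closure_le]
    rintro g ⟨s, u, hs, hg⟩
    simp only [List.mem_cons, List.not_mem_nil, or_false] at hs
    rcases hs with rfl | rfl | rfl
    · exact Subgroup.mem_sup_left (Subgroup.mem_sup_left (Subgroup.subset_closure ⟨u, hg⟩))
    · exact Subgroup.mem_sup_left (Subgroup.mem_sup_right (Subgroup.subset_closure ⟨u, hg⟩))
    · exact Subgroup.mem_sup_right (Subgroup.subset_closure ⟨u, hg⟩)
  · exact sup_le (sup_le (rootSubgroup_le_rootClosure D _ a (by simp))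
      (rootSubgroup_le_rootClosure D _ b (by simp))) (rootSubgroup_le_rootClosure D _ c (by simp))

/-- `|X₉X₁₀X₁₁| ≤ q³` -/
theorem card_Q_le (E : Env chevG2 F nTabG2 orbTabG2) :
    Nat.card ↥(chevG2.rootSubgroup F 9 ⊔ chevG2.rootSubgroup F 10 ⊔ chevG2.rootSubgroup F 11) ≤
      Fintype.card F ^ 3 := by
  rw [← rootClosure_three]
  let f : F × F × F → ↥(rootClosure chevG2 F (· ∈ [9, 10, 11])) := fun p =>
    ⟨E.hF.xGL 9 p.1 * (E.hF.xGL 10 p.2.1 * E.hF.xGL 11 p.2.2),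
      Subgroup.mul_mem _ (E.hF.xGL_mem_rootClosure _ 9 (by simp) _)
        (Subgroup.mul_mem _ (E.hF.xGL_mem_rootClosure _ 10 (by simp) _)
          (E.hF.xGL_mem_rootClosure _ 11 (by simp) _))⟩
  have hf : Function.Surjective f := by
    rintro ⟨g, hg⟩
    obtain ⟨α, β, γ, e⟩ := mem_Q E g hg
    exact ⟨(α, β, γ), Subtype.ext e.symm⟩
  have h1 := Nat.card_le_card_of_surjective f hf
  have h2 : Nat.card (F × F × F) = Fintype.card F ^ 3 := by
    rw [Nat.card_eq_fintype_card, Fintype.card_prod, Fintype.card_prod]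
    ring
  rw [h2] at h1
  exact h1

/-- `|⟨X_b, X_{-b}⟩| < q³` -/
theorem card_L_lt :
    Nat.card ↥(chevG2.rootSubgroup F 6 ⊔ chevG2.rootSubgroup F 5) < Fintype.card F ^ 3 := by
  obtain ⟨φ, hφ, -⟩ := Cfsg.Agent.S1030.result (F := F) chevG2 (by simp) 6 (by decide)
  have h5 : chevG2.neg 6 = 5 := by decide
  rw [h5] at hφ
  rw [← hφ]
  have h1 := Nat.card_le_card_of_surjective φ.rangeRestrict φ.rangeRestrict_surjective
  have h2 := Cfsg.Agent.Lib.Helper61.G2Inv.card_SL2_lt (F := F)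
  rw [Nat.card_eq_fintype_card (α := F)] at h2
  exact lt_of_le_of_lt h1 h2

/-- `x₁₁(1)` and `x₉(1)` are not conjugate -/
theorem not_conj (hF4 : 4 ≤ Fintype.card F) (E : Env chevG2 F nTabG2 orbTabG2) (h : GL chevG2.Idx F)
    (hh : h ∈ chevG2.group F) (e : h * E.hF.xGL 11 1 * h⁻¹ = E.hF.xGL 9 1) : False := by
  obtain ⟨hz, ht⟩ := Cfsg.Agent.S2180.result hF4 (E.hF.xGL 11 1) (E.hF.xGL 9 1)
    (E.hF.xGL_val 11 1) (E.hF.xGL_val 9 1)
  have hU : ∀ u ∈ chevG2.posUnipotent F, h * u * h⁻¹ ∈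
      (chevG2.rootSubgroup F 9 ⊔ chevG2.rootSubgroup F 10 ⊔ chevG2.rootSubgroup F 11) ⊔
        (chevG2.rootSubgroup F 6 ⊔ chevG2.rootSubgroup F 5) := by
    intro u hu
    have h1 : u ∈ chevG2.group F ⊓ Subgroup.centralizer {E.hF.xGL 11 (1 : F)} := by
      rw [hz]
      exact Subgroup.mem_sup_left hu
    have hc : E.hF.xGL 11 (1 : F) * u = u * E.hF.xGL 11 1 :=
      Subgroup.mem_centralizer_iff.mp h1.2 _ rfl
    have h2 : h * u * h⁻¹ ∈ chevG2.group F ⊓ Subgroup.centralizer {E.hF.xGL 9 (1 : F)} := by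
      refine ⟨Subgroup.mul_mem _ (Subgroup.mul_mem _ hh h1.1) (Subgroup.inv_mem _ hh), ?_⟩
      show h * u * h⁻¹ ∈ Subgroup.centralizer {E.hF.xGL 9 (1 : F)}
      rw [Subgroup.mem_centralizer_iff]
      intro x hx
      rw [Set.mem_singleton_iff] at hx
      subst hx
      rw [← e]
      calc h * E.hF.xGL 11 1 * h⁻¹ * (h * u * h⁻¹) = h * (E.hF.xGL 11 1 * u) * h⁻¹ := by group
        _ = h * (u * E.hF.xGL 11 1) * h⁻¹ := by rw [hc]
        _ = h * u * h⁻¹ * (h * E.hF.xGL 11 1 * h⁻¹) := by group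
    rw [ht, sup_assoc] at h2
    exact h2
  have hUcard : Fintype.card F ^ 6 ≤ Nat.card ↥(chevG2.posUnipotent F) := by
    rw [E.hF.card_posUnipotent E.hC E.hU E.hNR E.hcomm]
    exact le_of_eq rfl
  have hn : chevG2.rootSubgroup F 6 ⊔ chevG2.rootSubgroup F 5 ≤ Subgroup.normalizer
      ((chevG2.rootSubgroup F 9 ⊔ chevG2.rootSubgroup F 10 ⊔ chevG2.rootSubgroup F 11 :
        Subgroup (GL chevG2.Idx F)) : Set (GL chevG2.Idx F)) := by
    rw [← rootClosure_three]
    refine le_trans ?_ (le_trans le_sup_left (Pt_le_normalizer_Q E))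
    exact sup_le (rootSubgroup_le_rootClosure chevG2 _ 6 (by simp))
      (rootSubgroup_le_rootClosure chevG2 _ 5 (by simp))
  exact Cfsg.Agent.Lib.Helper66.G2Inv.false_of_conj_le (chevG2.posUnipotent F) _ _ (Fintype.card F)
    hUcard hn (card_Q_le E) card_L_lt h hU

/-- the two representatives have order two -/
theorem orderOf_x11 (E : Env chevG2 F nTabG2 orbTabG2) : orderOf (E.hF.xGL 11 (1 : F)) = 2 := by
  haveI : Fact (Nat.Prime 2) := ⟨Nat.prime_two⟩
  apply orderOf_eq_prime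
  · rw [pow_two, E.hF.xGL_mul, CharTwo.add_self_eq_zero, E.hF.xGL_zero]
  · intro h
    have h1 : E.hF.xGL 6 0 * (E.hF.xGL 7 0 * (E.hF.xGL 8 0 * (E.hF.xGL 9 0 *
          (E.hF.xGL 10 0 * E.hF.xGL 11 (1 : F))))) =
        E.hF.xGL 6 0 * (E.hF.xGL 7 0 * (E.hF.xGL 8 0 * (E.hF.xGL 9 0 *
          (E.hF.xGL 10 0 * E.hF.xGL 11 0)))) := by
      simp only [E.hF.xGL_zero, one_mul]
      exact h
    exact one_ne_zero (prod6_inj E _ _ _ _ _ _ _ _ _ _ _ _ h1).2.2.2.2.2

theorem orderOf_x9 (E : Env chevG2 F nTabG2 orbTabG2) : orderOf (E.hF.xGL 9 (1 : F)) = 2 := by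
  haveI : Fact (Nat.Prime 2) := ⟨Nat.prime_two⟩
  apply orderOf_eq_prime
  · rw [pow_two, E.hF.xGL_mul, CharTwo.add_self_eq_zero, E.hF.xGL_zero]
  · intro h
    have h1 : E.hF.xGL 6 0 * (E.hF.xGL 7 0 * (E.hF.xGL 8 0 * (E.hF.xGL 9 (1 : F) *
          (E.hF.xGL 10 0 * E.hF.xGL 11 0)))) =
        E.hF.xGL 6 0 * (E.hF.xGL 7 0 * (E.hF.xGL 8 0 * (E.hF.xGL 9 0 *
          (E.hF.xGL 10 0 * E.hF.xGL 11 0)))) := by
      simp only [E.hF.xGL_zero, one_mul, mul_one]
      exact h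
    exact one_ne_zero (prod6_inj E _ _ _ _ _ _ _ _ _ _ _ _ h1).2.2.2.1

end Cfsg.Agent.Lib.Helper37.G2Inv
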