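import Mathlib

/-!
# Generic block algebra for the exceptional graph automorphisms (S1098, S1099)

`n` is an index type split by `S : n → Bool` into an invariant part (`S i = true`) and the rest; `σ` is an
involution of `n` exchanging the two parts.  For a group `G = closure X` of block triangular matrices such that the
lower-right block of each generator is the `σ`-transport of the upper-left block of another generator, and such that
`G` acts faithfully on the invariant part, we get a surjective endomorphism `α` of `G` with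
`block_rest(g) = σ-transport of block_inv(α g)`.
-/

set_option autoImplicit false
set_option linter.unusedSectionVars false

namespace Cfsg.Agent.Lib.Helper37.GraphAut

open Matrix

variable {n : Type*} [Fintype n] [DecidableEq n] {K : Type*} [Field K]

/-- The block data. -/
structure BlockData (n : Type*) where
  S : n → Bool
  σ : n → n
  invol : ∀ i, σ (σ i) = i
  swap : ∀ i, S (σ i) = !S i

namespace BlockData

variable (B : BlockData n)

/-- block triangular: the part `S` is invariant -/
def Tri (g : Matrix n n K) : Prop := ∀ i j, B.S i = false → B.S j = true → g i j = 0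

/-- the two matrices have the same `S`-block -/
def AEq (M M' : Matrix n n K) : Prop := ∀ l l', B.S l = true → B.S l' = true → M l l' = M' l l'

/-- the non-`S` block of `g` is the `σ`-transport of the `S`-block of `M` -/
def Rel (g M : Matrix n n K) : Prop := ∀ i j, B.S i = false → B.S j = false → g i j = M (B.σ i) (B.σ j)

theorem σ_inj {i j : n} (h : B.σ i = B.σ j) : i = j := by
  have := congrArg B.σ h
  rwa [B.invol, B.invol] at this

theorem tri_one : B.Tri (1 : Matrix n n K) := by
  intro i j hi hj
  rw [Matrix.one_apply_ne]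
  rintro rfl
  rw [hi] at hj; exact Bool.noConfusion hj

theorem tri_mul {g h : Matrix n n K} (hg : B.Tri g) (hh : B.Tri h) : B.Tri (g * h) := by
  intro i j hi hj
  rw [Matrix.mul_apply]
  apply Finset.sum_eq_zero
  intro k _
  cases hk : B.S k
  · rw [hh k j hk hj, mul_zero]
  · rw [hg i k hi hk, zero_mul]

theorem rel_one : B.Rel (1 : Matrix n n K) 1 := by
  intro i j _ _
  by_cases h : i = j
  · subst h; simp
  · rw [Matrix.one_apply_ne h, Matrix.one_apply_ne]
    exact fun h' => h (B.σ_inj h')

theorem sum_S_false (f : n → K) (hf : ∀ k, B.S k = true → f k = 0) :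
    ∑ k, f k = ∑ k ∈ Finset.univ.filter (fun k => B.S k = false), f k := by
  rw [Finset.sum_filter]
  apply Finset.sum_congr rfl
  intro k _
  cases hk : B.S k
  · simp
  · simp [hf k hk]

theorem sum_S_true (f : n → K) (hf : ∀ k, B.S k = false → f k = 0) :
    ∑ k, f k = ∑ k ∈ Finset.univ.filter (fun k => B.S k = true), f k := by
  rw [Finset.sum_filter]
  apply Finset.sum_congr rfl
  intro k _
  cases hk : B.S k
  · simp [hf k hk]
  · simp

theorem rel_mul {g g' M M' : Matrix n n K} (h : B.Rel g M) (h' : B.Rel g' M') (hg : B.Tri g)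
    (hM' : B.Tri M') : B.Rel (g * g') (M * M') := by
  intro i j hi hj
  rw [Matrix.mul_apply, Matrix.mul_apply]
  have hσj : B.S (B.σ j) = true := by rw [B.swap, hj]; rfl
  rw [B.sum_S_false (fun k => g i k * g' k j) (fun k hk => by show g i k * g' k j = 0; rw [hg i k hi hk, zero_mul]),
    B.sum_S_true (fun l => M (B.σ i) l * M' l (B.σ j))
      (fun l hl => by show M (B.σ i) l * M' l (B.σ j) = 0; rw [hM' l _ hl hσj, mul_zero])]
  refine Finset.sum_bij (fun k _ => B.σ k) ?_ ?_ ?_ ?_
  · intro k hk
    simp only [Finset.mem_filter, Finset.mem_univ, true_and] at hk ⊢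
    rw [B.swap, hk]; rfl
  · intro k _ k' _ hkk'
    exact B.σ_inj hkk'
  · intro l hl
    simp only [Finset.mem_filter, Finset.mem_univ, true_and] at hl
    refine ⟨B.σ l, ?_, B.invol l⟩
    simp only [Finset.mem_filter, Finset.mem_univ, true_and]
    rw [B.swap, hl]; rfl
  · intro k hk
    simp only [Finset.mem_filter, Finset.mem_univ, true_and] at hk
    rw [h i k hi hk, h' k j hk hj]

theorem aeq_mul {N N' M M' : Matrix n n K} (hN : B.AEq N N') (hM : B.AEq M M') (tM : B.Tri M)
    (tM' : B.Tri M') : B.AEq (N * M) (N' * M') := by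
  intro l l' hl hl'
  rw [Matrix.mul_apply, Matrix.mul_apply]
  rw [B.sum_S_true (fun k => N l k * M k l') (fun k hk => by show N l k * M k l' = 0; rw [tM k l' hk hl', mul_zero]),
    B.sum_S_true (fun k => N' l k * M' k l') (fun k hk => by show N' l k * M' k l' = 0; rw [tM' k l' hk hl', mul_zero])]
  apply Finset.sum_congr rfl
  intro k hk
  simp only [Finset.mem_filter, Finset.mem_univ, true_and] at hk
  rw [hN l k hl hk, hM k l' hk hl']

theorem aeq_refl (M : Matrix n n K) : B.AEq M M := fun _ _ _ _ => rfl

theorem aeq_symm {M M' : Matrix n n K} (h : B.AEq M M') : B.AEq M' M := fun l l' hl hl' => (h l l' hl hl').symm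

theorem aeq_trans {M M' M'' : Matrix n n K} (h : B.AEq M M') (h' : B.AEq M' M'') : B.AEq M M'' :=
  fun l l' hl hl' => (h l l' hl hl').trans (h' l l' hl hl')

/-- `Rel g M` and `Rel g M'` force equal `S`-blocks. -/
theorem aeq_of_rel {g M M' : Matrix n n K} (h : B.Rel g M) (h' : B.Rel g M') : B.AEq M M' := by
  intro l l' hl hl'
  have h1 : B.S (B.σ l) = false := by rw [B.swap, hl]; rfl
  have h2 : B.S (B.σ l') = false := by rw [B.swap, hl']; rfl
  have e1 := h (B.σ l) (B.σ l') h1 h2
  have e2 := h' (B.σ l) (B.σ l') h1 h2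
  rw [B.invol, B.invol] at e1 e2
  rw [← e1, ← e2]

end BlockData

section main

variable (B : BlockData n) (X : Set (GL n K))

/-- all elements of `closure X` are block triangular, with block triangular inverses -/
theorem tri_of_mem_closure (htri : ∀ g ∈ X, B.Tri (g : Matrix n n K))
    (htri' : ∀ g ∈ X, B.Tri ((g⁻¹ : GL n K) : Matrix n n K)) :
    ∀ g ∈ Subgroup.closure X, B.Tri (g : Matrix n n K) ∧ B.Tri ((g⁻¹ : GL n K) : Matrix n n K) := by
  intro g hg
  induction hg using Subgroup.closure_induction with
  | mem g hg => exact ⟨htri g hg, htri' g hg⟩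
  | one => simp only [inv_one, Units.val_one]; exact ⟨B.tri_one, B.tri_one⟩
  | mul g h _ _ ihg ihh =>
    refine ⟨?_, ?_⟩
    · rw [Units.val_mul]; exact B.tri_mul ihg.1 ihh.1
    · rw [_root_.mul_inv_rev, Units.val_mul]; exact B.tri_mul ihh.2 ihg.2
  | inv g _ ih => rw [inv_inv]; exact ⟨ih.2, ih.1⟩

/-- The faithfulness hypothesis: an element of the group whose `S`-block is trivial is trivial. -/
def Faithful : Prop := ∀ M ∈ Subgroup.closure X, B.AEq (M : Matrix n n K) 1 → M = 1

variable {B X}

theorem rel_unique (htri : ∀ g ∈ Subgroup.closure X, B.Tri (g : Matrix n n K) ∧ B.Tri ((g⁻¹ : GL n K) : Matrix n n K))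
    (hf : Faithful B X) {g : Matrix n n K} {M M' : GL n K} (hM : M ∈ Subgroup.closure X)
    (hM' : M' ∈ Subgroup.closure X) (h : B.Rel g (M : Matrix n n K)) (h' : B.Rel g (M' : Matrix n n K)) :
    M = M' := by
  have hae : B.AEq (M : Matrix n n K) (M' : Matrix n n K) := B.aeq_of_rel h h'
  have hmem : M⁻¹ * M' ∈ Subgroup.closure X := Subgroup.mul_mem _ (Subgroup.inv_mem _ hM) hM'
  have h1 : B.AEq ((M⁻¹ * M' : GL n K) : Matrix n n K) 1 := by
    have e : B.AEq (((M⁻¹ : GL n K) : Matrix n n K) * (M' : Matrix n n K))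
        (((M⁻¹ : GL n K) : Matrix n n K) * (M : Matrix n n K)) :=
      B.aeq_mul (B.aeq_refl _) (B.aeq_symm hae) (htri M' hM').1 (htri M hM).1
    rw [Units.val_mul]
    have e2 : ((M⁻¹ : GL n K) : Matrix n n K) * (M : Matrix n n K) = 1 := by
      rw [← Units.val_mul, inv_mul_cancel, Units.val_one]
    rw [e2] at e
    exact e
  have := hf _ hmem h1
  rw [inv_mul_eq_one] at this
  exact this

/-- Existence of the twisted endomorphism. -/
theorem exists_hom (htri : ∀ g ∈ X, B.Tri (g : Matrix n n K))
    (htri' : ∀ g ∈ X, B.Tri ((g⁻¹ : GL n K) : Matrix n n K))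
    (hXinv : ∀ g ∈ X, g⁻¹ ∈ X)
    (hrel : ∀ g ∈ X, ∃ M ∈ X, B.Rel (g : Matrix n n K) (M : Matrix n n K))
    (hrel' : ∀ M ∈ X, ∃ g ∈ X, B.Rel (g : Matrix n n K) (M : Matrix n n K))
    (hf : Faithful B X) :
    ∃ α : Subgroup.closure X →* Subgroup.closure X, Function.Surjective α ∧
      (∀ g : Subgroup.closure X, B.Rel ((g : GL n K) : Matrix n n K) ((α g : GL n K) : Matrix n n K)) ∧
      ∀ (g : Subgroup.closure X) (M : GL n K), M ∈ Subgroup.closure X →
        B.Rel ((g : GL n K) : Matrix n n K) (M : Matrix n n K) → (α g : GL n K) = M := by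
  have hT := tri_of_mem_closure B X htri htri'
  -- existence for every element
  have hle0 : Submonoid.closure X ≤ (Subgroup.closure X).toSubmonoid :=
    Submonoid.closure_le.2 Subgroup.subset_closure
  have hex0 : ∀ g ∈ Submonoid.closure X, ∃ M ∈ Subgroup.closure X, B.Rel (g : Matrix n n K) (M : Matrix n n K) := by
    intro g hg'
    induction hg' using Submonoid.closure_induction with
    | mem g hg =>
      obtain ⟨M, hM, h⟩ := hrel g hg
      exact ⟨M, Subgroup.subset_closure hM, h⟩
    | one => exact ⟨1, Subgroup.one_mem _, by simp only [Units.val_one]; exact B.rel_one⟩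
    | mul g h hg' hh' ihg ihh =>
      have hgc : g ∈ Subgroup.closure X := hle0 hg'
      obtain ⟨M, hM, h1⟩ := ihg
      obtain ⟨M', hM', h2⟩ := ihh
      refine ⟨M * M', Subgroup.mul_mem _ hM hM', ?_⟩
      rw [Units.val_mul, Units.val_mul]
      exact B.rel_mul h1 h2 (hT g hgc).1 (hT M' hM').1
  have hex : ∀ g ∈ Subgroup.closure X, ∃ M ∈ Subgroup.closure X, B.Rel (g : Matrix n n K) (M : Matrix n n K) := by
    intro g hg
    apply hex0
    have h1 : (Subgroup.closure X).toSubmonoid = Submonoid.closure (X ∪ X⁻¹) := Subgroup.closure_toSubmonoid X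
    have h2 : X ∪ X⁻¹ = X := by
      apply Set.union_eq_self_of_subset_right
      intro x hx
      have := hXinv _ (Set.mem_inv.1 hx)
      rwa [inv_inv] at this
    rw [h2] at h1
    rw [← h1]; exact hg
  choose! f hfmem hfrel using hex
  have huniq : ∀ (g : Subgroup.closure X) (M : GL n K), M ∈ Subgroup.closure X →
      B.Rel ((g : GL n K) : Matrix n n K) (M : Matrix n n K) → f g = M := by
    intro g M hM h
    exact rel_unique hT hf (hfmem g g.2) hM (hfrel g g.2) h
  let α : Subgroup.closure X →* Subgroup.closure X := MonoidHom.mk' (fun g => ⟨f g, hfmem g g.2⟩) (by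
    intro g h
    apply Subtype.ext
    show f ((g * h : Subgroup.closure X) : GL n K) = f g * f h
    apply huniq (g * h) _ (Subgroup.mul_mem _ (hfmem g g.2) (hfmem h h.2))
    rw [Subgroup.coe_mul, Units.val_mul, Units.val_mul]
    exact B.rel_mul (hfrel g g.2) (hfrel h h.2) (hT g g.2).1 (hT _ (hfmem h h.2)).1)
  refine ⟨α, ?_, fun g => hfrel g g.2, fun g M hM h => huniq g M hM h⟩
  -- surjectivity
  intro M
  have hle : Subgroup.closure X ≤ (α.range).map (Subgroup.closure X).subtype := by
    rw [Subgroup.closure_le]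
    intro M hM
    obtain ⟨g, hg, h⟩ := hrel' M hM
    refine ⟨⟨M, Subgroup.subset_closure hM⟩, ⟨⟨g, Subgroup.subset_closure hg⟩, ?_⟩, rfl⟩
    apply Subtype.ext
    exact huniq ⟨g, Subgroup.subset_closure hg⟩ M (Subgroup.subset_closure hM) h
  obtain ⟨M', ⟨g, hg⟩, hM'⟩ := hle M.2
  refine ⟨g, ?_⟩
  rw [hg]
  exact Subtype.ext hM'

end main

/-- the subgroup of elements acting trivially on the `S`-part is normal -/
theorem faithful_of_simple (B : BlockData n) (X : Set (GL n K))
    (hT : ∀ g ∈ Subgroup.closure X, B.Tri (g : Matrix n n K) ∧ B.Tri ((g⁻¹ : GL n K) : Matrix n n K))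
    (hs : IsSimpleGroup (Subgroup.closure X))
    (hne : ∃ g ∈ Subgroup.closure X, ¬ B.AEq (g : Matrix n n K) 1) : Faithful B X := by
  let N : Subgroup (Subgroup.closure X) :=
    { carrier := {g | B.AEq ((g : GL n K) : Matrix n n K) 1}
      one_mem' := by show B.AEq _ _; simp only [OneMemClass.coe_one, Units.val_one]; exact B.aeq_refl _
      mul_mem' := by
        intro a b ha hb
        show B.AEq _ _
        rw [Subgroup.coe_mul, Units.val_mul]
        have := B.aeq_mul ha hb (hT b b.2).1 B.tri_one
        rwa [mul_one] at this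
      inv_mem' := by
        intro a ha
        show B.AEq _ _
        have h := B.aeq_mul (B.aeq_refl (((a : GL n K)⁻¹ : GL n K) : Matrix n n K)) ha (hT a a.2).1 B.tri_one
        rw [mul_one, ← Units.val_mul, inv_mul_cancel, Units.val_one] at h
        rw [Subgroup.coe_inv]
        exact B.aeq_symm h }
  have hN : N.Normal := by
    constructor
    intro a ha g
    show B.AEq _ _
    rw [Subgroup.coe_mul, Subgroup.coe_mul, Units.val_mul, Units.val_mul, Subgroup.coe_inv]
    have h1 : B.AEq (((g : GL n K) : Matrix n n K) * ((a : GL n K) : Matrix n n K))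
        (((g : GL n K) : Matrix n n K) * 1) :=
      B.aeq_mul (B.aeq_refl _) ha (hT a a.2).1 B.tri_one
    have h2 := B.aeq_mul h1 (B.aeq_refl ((((g : GL n K))⁻¹ : GL n K) : Matrix n n K)) (hT g g.2).2 (hT g g.2).2
    have e : ((g : GL n K) : Matrix n n K) * ((((g : GL n K))⁻¹ : GL n K) : Matrix n n K) = 1 := by
      rw [← Units.val_mul, mul_inv_cancel, Units.val_one]
    rw [mul_one, e] at h2
    exact h2
  intro M hM h
  rcases hs.eq_bot_or_eq_top_of_normal N hN with h0 | h0
  · have : (⟨M, hM⟩ : Subgroup.closure X) ∈ N := h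
    rw [h0, Subgroup.mem_bot] at this
    exact congrArg Subtype.val this
  · exfalso
    obtain ⟨g, hg, hne⟩ := hne
    apply hne
    have : (⟨g, hg⟩ : Subgroup.closure X) ∈ N := by rw [h0]; exact Subgroup.mem_top _
    exact this

/-- a surjective endomorphism of a simple group is injective -/
theorem injective_of_simple {G : Type*} [Group G] (hs : IsSimpleGroup G) (α : G →* G)
    (hα : Function.Surjective α) : Function.Injective α := by
  rw [← MonoidHom.ker_eq_bot_iff]
  rcases hs.eq_bot_or_eq_top_of_normal α.ker inferInstance with h | h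
  · exact h
  · exfalso
    obtain ⟨x, y, hxy⟩ := hs.toNontrivial
    obtain ⟨x', rfl⟩ := hα x
    obtain ⟨y', rfl⟩ := hα y
    apply hxy
    have hx : x' ∈ α.ker := by rw [h]; exact Subgroup.mem_top _
    have hy : y' ∈ α.ker := by rw [h]; exact Subgroup.mem_top _
    rw [MonoidHom.mem_ker] at hx hy
    rw [hx, hy]

end Cfsg.Agent.Lib.Helper37.GraphAut
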