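import Cfsg.Agent.Lib.Helper37.GraphAutMain

/-!
# Chunked version of the table check `chkAll`
-/

set_option autoImplicit false

namespace Cfsg.Agent.Lib.Helper37.GraphAut

open Cfsg.Lie

variable {D : ChevalleyDatum}

/-- the check for one root -/
def chkRoot (T : GData D) (r : Fin D.nroots) : Bool :=
  (idxList D).all fun i => (idxList D).all fun j => chk1 T r i j && chk2 T r i j

/-- the check for a list of roots -/
def chkFrom (T : GData D) (l : List ℕ) : Bool :=
  l.all fun r => if h : r < D.nroots then chkRoot T ⟨r, h⟩ else true

theorem chkFrom_append (T : GData D) (l l' : List ℕ) :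
    chkFrom T (l ++ l') = (chkFrom T l && chkFrom T l') := by
  unfold chkFrom
  rw [List.all_append]

theorem chkAll_of_chkFrom (T : GData D) (h : chkFrom T (List.range D.nroots) = true) : chkAll T = true := by
  unfold chkAll
  rw [List.all_eq_true]
  intro r _
  have h1 := List.all_eq_true.1 h r.val (List.mem_range.2 r.2)
  rw [dif_pos r.2] at h1
  exact h1

end Cfsg.Agent.Lib.Helper37.GraphAut
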