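import Cfsg.Agent.Lib.Helper37.GraphAutMain
import Cfsg.Agent.Lib.Helper37.GraphAutChunk
import Cfsg.Prelude.Def_ChevB2
import Cfsg.Prelude.Def_ChevF4

/-!
# Table data for the graph automorphisms of `B₂` and `F₄` in characteristic 2
-/

set_option autoImplicit false

namespace Cfsg.Agent.Lib.Helper37.GraphAut

open Cfsg.Lie

/-- the data for `B₂`, `p = 2` -/
def dataB2 : GData chevB2 :=
  mkData chevB2 2 [true, false]
    [false, true, true, false, false, true, true, false]
    [1, 0] [1, 0, 3, 2, 5, 4, 7, 6]

theorem chkAll_B2 : chkAll dataB2 = true := by decide +kernel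

theorem chkB_B2 : chkB dataB2 = true := by decide +kernel

theorem chkR_B2 : chkR dataB2 = true := by decide +kernel

/-- the data for `F₄`, `p = 2` -/
def dataF4 : GData chevF4 :=
  mkData chevF4 2 [true, true, false, false]
    [false, false, false, true, false, false, false, true, true, true, true, true, true, true, true, false, false,
      false, true, true, true, false, false, false, false, false, false, true, true, true, false, false, false,
      true, true, true, true, true, true, true, true, false, false, false, true, false, false, false]
    [3, 2, 1, 0]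
    [3, 7, 8, 0, 9, 11, 18, 1, 2, 4, 15, 5, 16, 21, 23, 10, 12, 19, 6, 17, 22, 13, 20, 14, 33, 27, 34, 25, 30, 41,
      28, 35, 37, 24, 26, 31, 42, 32, 43, 45, 46, 29, 36, 38, 47, 39, 40, 44]

theorem chkB_F4 : chkB dataF4 = true := by decide +kernel

theorem chkR_F4 : chkR dataF4 = true := by decide +kernel

end Cfsg.Agent.Lib.Helper37.GraphAut
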