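import Cfsg.Agent.Lib.Helper37.GraphAutBF

/-!
# Table checks for the graph automorphism of `F₄` in characteristic 2, part b
-/

set_option autoImplicit false

namespace Cfsg.Agent.Lib.Helper37.GraphAut

open Cfsg.Lie

theorem chkF4_4 : chkFrom dataF4 [24, 25, 26, 27, 28, 29] = true := by decide +kernel

theorem chkF4_5 : chkFrom dataF4 [30, 31, 32, 33, 34, 35] = true := by decide +kernel

theorem chkF4_6 : chkFrom dataF4 [36, 37, 38, 39, 40, 41] = true := by decide +kernel

theorem chkF4_7 : chkFrom dataF4 [42, 43, 44, 45, 46, 47] = true := by decide +kernel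

end Cfsg.Agent.Lib.Helper37.GraphAut
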