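import Cfsg.Agent.Lib.Helper37.GraphAutF4a
import Cfsg.Agent.Lib.Helper37.GraphAutF4b

/-!
# Table checks for the graph automorphism of `F₄` in characteristic 2: assembly
-/

set_option autoImplicit false

namespace Cfsg.Agent.Lib.Helper37.GraphAut

open Cfsg.Lie

theorem chkAll_F4 : chkAll dataF4 = true := by
  apply chkAll_of_chkFrom
  have e : List.range chevF4.nroots = [0, 1, 2, 3, 4, 5] ++ ([6, 7, 8, 9, 10, 11] ++ ([12, 13, 14, 15, 16, 17] ++
      ([18, 19, 20, 21, 22, 23] ++ ([24, 25, 26, 27, 28, 29] ++ ([30, 31, 32, 33, 34, 35] ++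
      ([36, 37, 38, 39, 40, 41] ++ [42, 43, 44, 45, 46, 47])))))) := by decide
  rw [e]
  simp only [chkFrom_append, chkF4_0, chkF4_1, chkF4_2, chkF4_3, chkF4_4, chkF4_5, chkF4_6, chkF4_7,
    Bool.and_self]

end Cfsg.Agent.Lib.Helper37.GraphAut
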