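import Cfsg.Agent.Lib.Helper37.GraphAutBF

/-!
# Table checks for the graph automorphism of `F₄` in characteristic 2, part a
-/

set_option autoImplicit false

namespace Cfsg.Agent.Lib.Helper37.GraphAut

open Cfsg.Lie

theorem chkF4_0 : chkFrom dataF4 [0, 1, 2, 3, 4, 5] = true := by decide +kernel

theorem chkF4_1 : chkFrom dataF4 [6, 7, 8, 9, 10, 11] = true := by decide +kernel

theorem chkF4_2 : chkFrom dataF4 [12, 13, 14, 15, 16, 17] = true := by decide +kernel

theorem chkF4_3 : chkFrom dataF4 [18, 19, 20, 21, 22, 23] = true := by decide +kernel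

end Cfsg.Agent.Lib.Helper37.GraphAut
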