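import Cfsg.Agent.Lib.Helper37.GraphAutAlg
import Cfsg.Agent.Lib.Helper24.Words

/-!
# Entries of `x_r(t)` as polynomials in `t` with integer coefficients, and the table checks behind the
exceptional graph automorphisms (S1098, S1099).
-/

set_option autoImplicit false
set_option linter.unusedSectionVars false
set_option linter.unusedSimpArgs false
set_option linter.unnecessarySeqFocus false

namespace Cfsg.Agent.Lib.Helper37.GraphAut

open Cfsg.Lie Cfsg.Agent.Lib.Helper24

variable (D : ChevalleyDatum)

/-- coefficient of `t^k` in a chain list -/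
def lc (l : List (ℕ × ℤ)) (k : ℕ) : ℤ := (l.map fun km => if km.1 = k then km.2 else 0).sum

/-- coefficient of `t^k` in the entry `(row, col)` of `x_r(t)` -/
def xc (r : Fin D.nroots) (row col : D.Idx) (k : ℕ) : ℤ :=
  match col with
  | Sum.inl i =>
    (match row with
     | Sum.inl i' => if i' = i then (if k = 0 then 1 else 0) else 0
     | Sum.inr u => if u = r then (if k = 1 then - ((D.cartanSR.getD i.val #[]).getD r.val 0) else 0) else 0)
  | Sum.inr s =>
    if s = r then (match row with | Sum.inr u => if u = r then (if k = 0 then 1 else 0) else 0 | Sum.inl _ => 0)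
    else if s.val = D.negIdx.getD r.val 0 then
      (match row with
       | Sum.inl i => if k = 1 then ((D.coroot.getD r.val #[]).getD i.val 0) else 0
       | Sum.inr u => if u = s then (if k = 0 then 1 else 0) else if u = r then (if k = 2 then -1 else 0) else 0)
    else
      (match row with
       | Sum.inl _ => 0
       | Sum.inr u => (if u = s then (if k = 0 then 1 else 0) else 0) + lc (D.chainCoeff r.val s.val u.val) k)

/-- the exponents occurring in the entry are `< 4` -/
def xb (r : Fin D.nroots) (row col : D.Idx) : Bool :=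
  match col, row with
  | Sum.inr s, Sum.inr u => (D.chainCoeff r.val s.val u.val).all fun km => decide (km.1 < 4)
  | _, _ => true

section entry

variable {K : Type*} [Field K]

theorem lc_sum (l : List (ℕ × ℤ)) (hl : ∀ km ∈ l, km.1 < 4) (t : K) :
    (l.map fun km => ((km.2 : ℤ) : K) * t ^ km.1).sum = ∑ k ∈ Finset.range 4, ((lc l k : ℤ) : K) * t ^ k := by
  induction l with
  | nil => simp [lc]
  | cons x l ih =>
    have h1 : ∀ km ∈ l, km.1 < 4 := fun km h => hl km (List.mem_cons_of_mem _ h)
    have hx : x.1 < 4 := hl x List.mem_cons_self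
    rw [List.map_cons, List.sum_cons, ih h1]
    have : ∀ k, lc (x :: l) k = (if x.1 = k then x.2 else 0) + lc l k := by
      intro k; simp [lc]
    simp only [this, Int.cast_add, add_mul, Finset.sum_add_distrib]
    congr 1
    have h2 : ∀ k ∈ Finset.range 4, (((if x.1 = k then x.2 else 0 : ℤ) : K)) * t ^ k =
        if x.1 = k then ((x.2 : ℤ) : K) * t ^ x.1 else 0 := by
      intro k _
      split_ifs with h
      · rw [h]
      · simp
    rw [Finset.sum_congr rfl h2, Finset.sum_ite_eq, if_pos (Finset.mem_range.2 hx)]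

theorem xMat_entry (r : Fin D.nroots) (t : K) (row col : D.Idx) (hb : xb D r row col = true) :
    D.xMat K r t row col = ∑ k ∈ Finset.range 4, ((xc D r row col k : ℤ) : K) * t ^ k := by
  unfold ChevalleyDatum.xMat
  rcases col with i | s
  · rcases row with i' | u
    · by_cases h : i' = i <;> simp [xc, h, Finset.sum_range_succ]
    · by_cases h : u = r <;> simp [xc, h, Finset.sum_range_succ]
  · by_cases hsr : s = r
    · rcases row with i' | u
      · simp [xc, hsr, Finset.sum_range_succ]
      · by_cases h : u = r <;> simp [xc, hsr, h, Finset.sum_range_succ]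
    · by_cases hneg : s.val = D.negIdx.getD r.val 0
      · rcases row with i' | u
        · simp [xc, hsr, hneg, Finset.sum_range_succ]
        · by_cases h : u = s
          · simp [xc, hsr, hneg, h, Finset.sum_range_succ]
          · by_cases h' : u = r <;> simp [xc, hsr, hneg, h, h', Finset.sum_range_succ]
      · rcases row with i' | u
        · simp [xc, hsr, hneg, Finset.sum_range_succ]
        · have hl : ∀ km ∈ D.chainCoeff r.val s.val u.val, km.1 < 4 := by
            intro km hkm
            have := List.all_eq_true.1 hb km hkm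
            exact of_decide_eq_true this
          simp only [Matrix.of_apply, hsr, hneg, if_false, xc]
          rw [lc_sum _ hl]
          by_cases h : u = s <;> simp [h, Finset.sum_range_succ, add_mul] <;> ring

end entry

/-- The table data of a graph automorphism. -/
structure GData where
  p : ℕ
  S : D.Idx → Bool
  σI : D.Idx → D.Idx
  σR : Fin D.nroots → Fin D.nroots
  ex : Fin D.nroots → Bool

variable {D}

/-- `a ≡ 0 mod p` -/
def zp (p : ℕ) (a : ℤ) : Bool := a % (p : ℤ) == 0

/-- check of block triangularity at one entry -/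
def chk1 (T : GData D) (r : Fin D.nroots) (i j : D.Idx) : Bool :=
  !(T.S i == false && T.S j == true) ||
    (xb D r i j && zp T.p (xc D r i j 0) && zp T.p (xc D r i j 1) && zp T.p (xc D r i j 2) && zp T.p (xc D r i j 3))

/-- check of the block relation at one entry -/
def chk2 (T : GData D) (r : Fin D.nroots) (i j : D.Idx) : Bool :=
  !(T.S i == false && T.S j == false) ||
    (xb D r i j && xb D (T.σR r) (T.σI i) (T.σI j) &&
      (if T.ex r then
        zp T.p (xc D r i j 0 - xc D (T.σR r) (T.σI i) (T.σI j) 0) &&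
        zp T.p (xc D r i j T.p - xc D (T.σR r) (T.σI i) (T.σI j) 1) &&
        (T.p == 1 || zp T.p (xc D r i j 1)) && (T.p == 2 || zp T.p (xc D r i j 2)) &&
        (T.p == 3 || zp T.p (xc D r i j 3)) &&
        zp T.p (xc D (T.σR r) (T.σI i) (T.σI j) 2) && zp T.p (xc D (T.σR r) (T.σI i) (T.σI j) 3)
      else
        zp T.p (xc D r i j 0 - xc D (T.σR r) (T.σI i) (T.σI j) 0) &&
        zp T.p (xc D r i j 1 - xc D (T.σR r) (T.σI i) (T.σI j) 1) &&
        zp T.p (xc D r i j 2 - xc D (T.σR r) (T.σI i) (T.σI j) 2) &&
        zp T.p (xc D r i j 3 - xc D (T.σR r) (T.σI i) (T.σI j) 3)))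

section sound

variable {K : Type*} [Field K]

theorem cast_zero_of_zp (p : ℕ) [CharP K p] (a : ℤ) (h : zp p a = true) : ((a : ℤ) : K) = 0 := by
  rw [CharP.intCast_eq_zero_iff K p]
  have : a % (p : ℤ) = 0 := by simpa [zp] using h
  exact Int.dvd_of_emod_eq_zero this

theorem cast_eq_of_zp (p : ℕ) [CharP K p] (a b : ℤ) (h : zp p (a - b) = true) : ((a : ℤ) : K) = ((b : ℤ) : K) := by
  have := cast_zero_of_zp (K := K) p (a - b) h
  rw [Int.cast_sub, sub_eq_zero] at this
  exact this

theorem tri_of_chk1 (T : GData D) [CharP K T.p] (r : Fin D.nroots) (i j : D.Idx) (h : chk1 T r i j = true)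
    (hi : T.S i = false) (hj : T.S j = true) (t : K) : D.xMat K r t i j = 0 := by
  simp only [chk1, hi, hj, beq_self_eq_true, Bool.and_self, Bool.not_true, Bool.false_or, Bool.and_eq_true] at h
  obtain ⟨⟨⟨⟨hb, h0⟩, h1⟩, h2⟩, h3⟩ := h
  rw [xMat_entry D r t i j hb]
  simp [Finset.sum_range_succ, cast_zero_of_zp (K := K) T.p _ h0, cast_zero_of_zp (K := K) T.p _ h1,
    cast_zero_of_zp (K := K) T.p _ h2, cast_zero_of_zp (K := K) T.p _ h3]

theorem rel_of_chk2 (T : GData D) [CharP K T.p] (hp : T.p = 2 ∨ T.p = 3) (r : Fin D.nroots) (i j : D.Idx)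
    (h : chk2 T r i j = true) (hi : T.S i = false) (hj : T.S j = false) (t : K) :
    D.xMat K r t i j = D.xMat K (T.σR r) (t ^ (if T.ex r then T.p else 1)) (T.σI i) (T.σI j) := by
  simp only [chk2, hi, hj, beq_self_eq_true, Bool.and_self, Bool.not_true, Bool.false_or, Bool.and_eq_true] at h
  obtain ⟨⟨hb, hb'⟩, h⟩ := h
  rw [xMat_entry D r t i j hb, xMat_entry D _ _ _ _ hb']
  cases hex : T.ex r
  · rw [hex] at h
    simp only [Bool.false_eq_true, if_false, Bool.and_eq_true] at h
    obtain ⟨⟨⟨h0, h1⟩, h2⟩, h3⟩ := h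
    simp only [Bool.false_eq_true, if_false, pow_one]
    simp only [Finset.sum_range_succ, Finset.sum_range_zero, cast_eq_of_zp (K := K) T.p _ _ h0,
      cast_eq_of_zp (K := K) T.p _ _ h1, cast_eq_of_zp (K := K) T.p _ _ h2, cast_eq_of_zp (K := K) T.p _ _ h3]
  · rw [hex] at h
    simp only [if_true, Bool.and_eq_true, Bool.or_eq_true, beq_iff_eq] at h
    obtain ⟨⟨⟨⟨⟨⟨h0, hpp⟩, h1⟩, h2⟩, h3⟩, h2'⟩, h3'⟩ := h
    simp only [if_true]
    simp only [Finset.sum_range_succ, Finset.sum_range_zero, cast_eq_of_zp (K := K) T.p _ _ h0,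
      cast_zero_of_zp (K := K) T.p _ h2', cast_zero_of_zp (K := K) T.p _ h3']
    have hpp' := cast_eq_of_zp (K := K) T.p _ _ hpp
    rcases hp with hp | hp
    · have e1 := h1.resolve_left (by rw [hp]; decide)
      have e3 := h3.resolve_left (by rw [hp]; decide)
      rw [cast_zero_of_zp (K := K) T.p _ e1, cast_zero_of_zp (K := K) T.p _ e3]
      rw [hp] at hpp' ⊢
      rw [hpp']
      ring
    · have e1 := h1.resolve_left (by rw [hp]; decide)
      have e2 := h2.resolve_left (by rw [hp]; decide)
      rw [cast_zero_of_zp (K := K) T.p _ e1, cast_zero_of_zp (K := K) T.p _ e2]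
      rw [hp] at hpp' ⊢
      rw [hpp']
      ring

end sound

end Cfsg.Agent.Lib.Helper37.GraphAut
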