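import Cfsg.Agent.Lib.Helper24.PairOrbit
import Cfsg.Agent.Lib.Helper24.SimpleTables

/-!
# The highest root: no positive root can be added to it (table check on the commutator terms)
-/

set_option autoImplicit false
set_option maxRecDepth 100000

namespace Cfsg.Agent.Lib.Helper37.HighRoot

open Cfsg.Lie
open Cfsg.Agent.Lib.Helper24

/-- table check: the commutator formula of `(k, highest root)` has no terms, for all `k` in the upper half -/
def topOK (D : ChevalleyDatum) : Bool :=
  allBelow (fun k => Nat.blt k (D.nroots / 2) || (commTermsQ D k (D.nroots - 1)).isEmpty) (D.nroots - 1)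

theorem topOK_spec (D : ChevalleyDatum) (h : topOK D = true) (k : ℕ) (hk1 : D.nroots / 2 ≤ k)
    (hk2 : k < D.nroots - 1) : commTermsQ D k (D.nroots - 1) = [] := by
  have h1 := allBelow_elim _ _ h k hk2
  simp only [Bool.or_eq_true, Nat.blt_eq, List.isEmpty_iff] at h1
  rcases h1 with h1 | h1
  · omega
  · exact h1

theorem topOK_G2 : topOK chevG2 = true := by decide +kernel
theorem topOK_D4 : topOK chevD4 = true := by decide +kernel
theorem topOK_E6 : topOK chevE6 = true := by decide +kernel
theorem topOK_E7 : topOK chevE7 = true := by decide +kernel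
theorem topOK_E8 : topOK chevE8 = true := by decide +kernel

theorem topOK_all (D : ChevalleyDatum)
    (hD : D ∈ [chevG2, chevD4, chevE6, chevE7, chevE8]) : topOK D = true := by
  simp only [List.mem_cons, List.not_mem_nil, or_false] at hD
  rcases hD with rfl | rfl | rfl | rfl | rfl
  · exact topOK_G2
  · exact topOK_D4
  · exact topOK_E6
  · exact topOK_E7
  · exact topOK_E8

end Cfsg.Agent.Lib.Helper37.HighRoot
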