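import Cfsg.Agent.Lib.Helper37.HighRootTab
import Cfsg.Agent.Lib.Helper37.HighRootTop
import Cfsg.Agent.Lib.Helper24.FactsAll
import Cfsg.Agent.Lib.Helper24.CommAll
import Cfsg.Agent.Lib.Helper24.UFTab
import Cfsg.Agent.Lib.Helper24.Bruhat
import Cfsg.Agent.S1042
import Cfsg.Agent.S2326

/-!
# Pairs of conjugates of the highest root subgroup in characteristic two (S2186)

`g = b₁ n b₂` (Bruhat); the Borel subgroup normalises the highest root subgroup `X`, and `n X n⁻¹ = X_s` for a
root `s`; so `⟨X, X^g⟩` is conjugate (by `b₁`) to `⟨X, X_s⟩`.  If `s` is the lowest root this is the second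
alternative; otherwise a word in the simple reflections (table) moves both roots into the positive system, so
`⟨X, X_s⟩` is conjugate into `U`, a 2-group (S2326).
-/

set_option autoImplicit false

namespace Cfsg.Agent.Lib.Helper37.HighRoot

open Cfsg.Lie Matrix
open Cfsg.Agent.Lib.Helper24

section grp

variable {G : Type*} [Group G]

theorem map_conj_eq_of_mem_normalizer (X : Subgroup G) (g : G)
    (hg : g ∈ Subgroup.normalizer (X : Set G)) : X.map (MulAut.conj g).toMonoidHom = X := by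
  ext x
  constructor
  · rintro ⟨y, hy, rfl⟩
    exact (Subgroup.mem_normalizer_iff.mp hg y).mp hy
  · intro hx
    refine ⟨g⁻¹ * x * g, ?_, ?_⟩
    · have := (Subgroup.mem_normalizer_iff.mp (Subgroup.inv_mem _ hg) x).mp hx
      rwa [inv_inv] at this
    · simp only [MulEquiv.coe_toMonoidHom, MulAut.conj_apply]
      group

theorem map_conj_mul (X : Subgroup G) (a b : G) :
    X.map (MulAut.conj (a * b)).toMonoidHom =
      (X.map (MulAut.conj b).toMonoidHom).map (MulAut.conj a).toMonoidHom := by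
  rw [Subgroup.map_map]
  congr 1
  ext x
  simp only [MulEquiv.coe_toMonoidHom, MulAut.conj_apply, MonoidHom.coe_comp, Function.comp_apply]
  group

theorem map_conj_one (X : Subgroup G) : X.map (MulAut.conj (1 : G)).toMonoidHom = X := by
  ext x
  constructor
  · rintro ⟨y, hy, rfl⟩
    simpa using hy
  · intro hx
    exact ⟨x, hx, by simp⟩

theorem isPGroup_of_map_conj_le (p : ℕ) (K U : Subgroup G) (hU : IsPGroup p ↥U) (c : G)
    (h : K.map (MulAut.conj c).toMonoidHom ≤ U) : IsPGroup p ↥K := by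
  rintro ⟨y, hy⟩
  have hmem : c * y * c⁻¹ ∈ U := h ⟨y, hy, by simp [MulAut.conj_apply]⟩
  obtain ⟨k, hk⟩ := hU ⟨_, hmem⟩
  refine ⟨k, ?_⟩
  apply Subtype.ext
  have h1 : (c * y * c⁻¹) ^ p ^ k = 1 := by
    have := congrArg Subtype.val hk
    simpa using this
  rw [conj_pow] at h1
  have h2 : y ^ p ^ k = c⁻¹ * (c * y ^ p ^ k * c⁻¹) * c := by group
  rw [Subgroup.coe_pow, Subgroup.coe_one]
  show y ^ p ^ k = 1
  rw [h2, h1]
  group

end grp

section chev

variable {F : Type*} [Field F]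

theorem mem7 (D : ChevalleyDatum) (hD : D ∈ [chevG2, chevD4, chevE6, chevE7, chevE8]) :
    D ∈ [chevG2, chevB2, chevD4, chevF4, chevE6, chevE7, chevE8] := by
  simp only [List.mem_cons, List.not_mem_nil, or_false] at hD ⊢
  rcases hD with h | h | h | h | h <;> simp [h]

theorem nroots_pos5 (D : ChevalleyDatum) (hD : D ∈ [chevG2, chevD4, chevE6, chevE7, chevE8]) :
    0 < D.nroots := by
  simp only [List.mem_cons, List.not_mem_nil, or_false] at hD
  rcases hD with rfl | rfl | rfl | rfl | rfl <;> decide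

/-- the Borel subgroup normalises the highest root subgroup -/
theorem borel_le_normalizer_top (D : ChevalleyDatum)
    (hD : D ∈ [chevG2, chevD4, chevE6, chevE7, chevE8]) :
    D.borelSubgroup F ≤
      Subgroup.normalizer (D.rootSubgroup F (D.nroots - 1) : Set (GL D.Idx F)) := by
  have hD7 := mem7 D hD
  obtain ⟨tab, orb, hN, hH, _, hC⟩ := cfacts_all D hD7
  obtain ⟨T, reps, hall, hreps⟩ := hC.pairs
  have hF := facts_all D hD7
  have hCh : ChainOK D := ⟨tableOK_all D hD7, hC.chain⟩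
  have hUF := ufacts_all D hD7
  have hcomm : ∀ r < D.nroots, ∀ s < D.nroots, s ≠ r → s ≠ D.neg r → hF.QF F r s :=
    fun r hr s hs hrs hneg => hF.QF_of_comm r s
      (fun t u => hF.comm_formula hN hH hCh hC.negRev T reps hall hreps r s hr hs hrs hneg t u)
  have hX : D.rootSubgroup F (D.nroots - 1) = rootClosure D F (fun s => s = D.nroots - 1) := by
    unfold ChevalleyDatum.rootSubgroup rootClosure
    congr 1
    ext g
    constructor
    · rintro ⟨t, h⟩
      exact ⟨_, t, rfl, h⟩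
    · rintro ⟨s, u, rfl, h⟩
      exact ⟨u, h⟩
  unfold ChevalleyDatum.borelSubgroup
  apply sup_le
  · unfold ChevalleyDatum.posUnipotent
    rw [Subgroup.closure_le]
    rintro x ⟨k, t, hk, hx⟩
    rw [hF.eq_xGL x k t hx]
    obtain ⟨hk1, hk2⟩ := (posHalf_spec D hUF.half k).mp hk
    have heven := posHalf_even D hUF.half
    by_cases hkr : k = D.nroots - 1
    · apply Subgroup.le_normalizer
      rw [hkr]
      exact Subgroup.subset_closure ⟨t, Facts.xGL_val hF _ t⟩
    · rw [hX]
      apply hF.xGL_mem_normalizer_rootClosure hCh _ k hk.1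
      · rintro s rfl
        omega
      · rintro s rfl
        have hnk : D.neg k = D.nroots - 1 - k :=
          Nat.eq_of_beq_eq_true (allBelow_elim _ _ hC.negRev k hk.1)
        exact hcomm k hk.1 _ (by omega) (fun h => hkr h.symm) (by rw [hnk]; omega)
      · rintro s rfl c hc
        rw [topOK_spec D (topOK_all D hD) k hk1 (by omega)] at hc
        exact absurd hc List.not_mem_nil
  · intro h hh
    have hr : D.nroots - 1 < D.nroots := by
      have := nroots_pos5 D hD
      omega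
    unfold ChevalleyDatum.rootSubgroup
    apply mem_normalizer_closure
    · rintro x ⟨t, hx⟩
      rw [hF.eq_xGL x _ t hx]
      obtain ⟨c, _, hc⟩ := hF.diag_conj h hh _ hr
      rw [hc t]
      exact Subgroup.subset_closure ⟨c * t, Facts.xGL_val hF _ _⟩
    · rintro x ⟨t, hx⟩
      rw [hF.eq_xGL x _ t hx]
      obtain ⟨c, _, hc⟩ := hF.diag_conj h⁻¹ (Subgroup.inv_mem _ hh) _ hr
      have := hc t
      rw [inv_inv] at this
      rw [this]
      exact Subgroup.subset_closure ⟨c * t, Facts.xGL_val hF _ _⟩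

/-- an element of `N` maps a root subgroup onto a root subgroup -/
theorem monomial_map_rootSubgroup (D : ChevalleyDatum)
    (hD : D ∈ [chevG2, chevD4, chevE6, chevE7, chevE8]) (n : GL D.Idx F)
    (hn : n ∈ D.monomialSubgroup F) (r : ℕ) (hr : r < D.nroots) :
    ∃ s < D.nroots, (D.rootSubgroup F r).map (MulAut.conj n).toMonoidHom = D.rootSubgroup F s := by
  have hD7 := mem7 D hD
  obtain ⟨tab, orb, hN, hH, _, hC⟩ := cfacts_all D hD7
  have hF := facts_all D hD7
  obtain ⟨s, hs, c, c', hc, _, e, _⟩ := hF.monomial_conj hN hH (rootTableOK_all D hD7) n⁻¹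
    (Subgroup.inv_mem _ hn) r hr
  have e' : ∀ t : F, n * hF.xGL r t * n⁻¹ = hF.xGL s (c * t) := by
    intro t
    have := e t
    rw [mul_assoc, this]
    group
  refine ⟨s, hs, ?_⟩
  unfold ChevalleyDatum.rootSubgroup
  rw [MonoidHom.map_closure]
  congr 1
  ext y
  constructor
  · rintro ⟨x, ⟨t, hx⟩, rfl⟩
    rw [hF.eq_xGL x r t hx]
    simp only [MulEquiv.coe_toMonoidHom, MulAut.conj_apply]
    rw [e' t]
    exact ⟨c * t, Facts.xGL_val hF _ _⟩
  · rintro ⟨u, hy⟩
    refine ⟨hF.xGL r (c⁻¹ * u), ⟨c⁻¹ * u, Facts.xGL_val hF _ _⟩, ?_⟩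
    simp only [MulEquiv.coe_toMonoidHom, MulAut.conj_apply]
    rw [e', hF.eq_xGL y s u hy, mul_inv_cancel_left₀ hc]

/-- a word in the simple reflections maps a root subgroup into the root subgroup of the image root -/
theorem nW_map_rootSubgroup_le (D : ChevalleyDatum)
    (hD : D ∈ [chevG2, chevD4, chevE6, chevE7, chevE8]) (w : List ℕ) (hw : ∀ i ∈ w, i < D.rank)
    (s : ℕ) (hs : s < D.nroots) :
    (D.rootSubgroup F s).map (MulAut.conj ((facts_all D (mem7 D hD)).nW (F := F) w)).toMonoidHom ≤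
      D.rootSubgroup F (rhoW D w s) := by
  have hD7 := mem7 D hD
  obtain ⟨tab, orb, hN, hH, _, hC⟩ := cfacts_all D hD7
  have hF := facts_all D hD7
  obtain ⟨η, _, e⟩ := hF.nW_conj (F := F) hN w hw s hs
  unfold ChevalleyDatum.rootSubgroup
  rw [MonoidHom.map_closure]
  apply Subgroup.closure_mono
  rintro _ ⟨x, ⟨t, hx⟩, rfl⟩
  rw [hF.eq_xGL x s t hx]
  simp only [MulEquiv.coe_toMonoidHom, MulAut.conj_apply]
  rw [e t]
  exact ⟨_, Facts.xGL_val hF _ _⟩

theorem rootSubgroup_le_pos (D : ChevalleyDatum) (s : ℕ) (hs : D.IsPosRoot s) :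
    D.rootSubgroup F s ≤ D.posUnipotent F := by
  unfold ChevalleyDatum.rootSubgroup ChevalleyDatum.posUnipotent
  apply Subgroup.closure_mono
  rintro x ⟨t, hx⟩
  exact ⟨s, t, hs, hx⟩

/-- `U` is a `2`-group in characteristic two -/
theorem pos_isPGroup [Fintype F] [CharP F 2] (D : ChevalleyDatum)
    (hD : D ∈ [chevG2, chevD4, chevE6, chevE7, chevE8]) : IsPGroup 2 ↥(D.posUnipotent F) := by
  have hD7 := mem7 D hD
  have hF := facts_all D hD7
  obtain ⟨P, hP⟩ := Cfsg.Agent.S2326.result (F := F) 2 D hD7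
  rintro ⟨u, hu⟩
  have huG : u ∈ D.group F := hF.borel_le_group (pos_le_borel D F hu)
  have hmem : (⟨u, huG⟩ : ↥(D.group F)) ∈ (P : Subgroup ↥(D.group F)) := by
    rw [hP, Subgroup.mem_subgroupOf]
    exact hu
  obtain ⟨k, hk⟩ := P.isPGroup' ⟨_, hmem⟩
  refine ⟨k, ?_⟩
  apply Subtype.ext
  have h1 := congrArg (fun x : ↥(P : Subgroup ↥(D.group F)) => ((x : ↥(D.group F)) : GL D.Idx F)) hk
  simpa using h1

/-- S2186 -/
theorem top_pair [Fintype F] [CharP F 2] (D : ChevalleyDatum)
    (hD : D ∈ [chevG2, chevD4, chevE6, chevE7, chevE8]) (g : GL D.Idx F) (hg : g ∈ D.group F) :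
    IsPGroup 2 ↥(D.rootSubgroup F (D.nroots - 1) ⊔
        (D.rootSubgroup F (D.nroots - 1)).map (MulAut.conj g).toMonoidHom) ∨
      ∃ h ∈ D.group F, (D.rootSubgroup F (D.nroots - 1) ⊔
        (D.rootSubgroup F (D.nroots - 1)).map (MulAut.conj g).toMonoidHom).map
          (MulAut.conj h).toMonoidHom = D.rootSubgroup F (D.nroots - 1) ⊔ D.rootSubgroup F 0 := by
  have hD7 := mem7 D hD
  have hF := facts_all D hD7
  have hr : D.nroots - 1 < D.nroots := by
    have := nroots_pos5 D hD
    omega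
  obtain ⟨P, hB, hN', _⟩ := Cfsg.Agent.S1042.result (F := F) D hD7
  obtain ⟨n, hn, b₁, hb₁, b₂, hb₂, rfl⟩ := hF.bruhat_exists P hB hN' g hg
  set X := D.rootSubgroup F (D.nroots - 1) with hXdef
  have hXb : ∀ b ∈ D.borelSubgroup F, X.map (MulAut.conj b).toMonoidHom = X := fun b hb =>
    map_conj_eq_of_mem_normalizer X b (borel_le_normalizer_top D hD hb)
  obtain ⟨s, hs, hns⟩ := monomial_map_rootSubgroup (F := F) D hD n hn (D.nroots - 1) hr
  have hkey : X ⊔ X.map (MulAut.conj (b₁ * n * b₂)).toMonoidHom =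
      (X ⊔ D.rootSubgroup F s).map (MulAut.conj b₁).toMonoidHom := by
    rw [map_conj_mul, hXb b₂ hb₂, map_conj_mul, hns, Subgroup.map_sup, hXb b₁ hb₁]
  rw [hkey]
  by_cases hs0 : s = 0
  · right
    refine ⟨b₁⁻¹, Subgroup.inv_mem _ (hF.borel_le_group hb₁), ?_⟩
    rw [← map_conj_mul, inv_mul_cancel, map_conj_one, hs0]
  · left
    obtain ⟨w, hw, hp1, hp2⟩ := exists_word D hD s hs hs0
    apply isPGroup_of_map_conj_le 2 _ _ (pos_isPGroup (F := F) D hD) (hF.nW (F := F) w * b₁⁻¹)
    rw [map_conj_mul, ← map_conj_mul _ b₁⁻¹ b₁, inv_mul_cancel, map_conj_one, Subgroup.map_sup]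
    apply sup_le
    · exact le_trans (nW_map_rootSubgroup_le D hD w hw _ hr) (rootSubgroup_le_pos D _ hp1)
    · exact le_trans (nW_map_rootSubgroup_le D hD w hw s hs) (rootSubgroup_le_pos D _ hp2)

end chev

end Cfsg.Agent.Lib.Helper37.HighRoot
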