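import Cfsg.Agent.Lib.Helper24.PairOrbit
import Cfsg.Agent.Lib.Helper24.SimpleTables

/-!
# Table checks for the centraliser of the highest root element in types E6, E7, E8 (S2209)
-/

set_option autoImplicit false
set_option maxRecDepth 100000

namespace Cfsg.Agent.Lib.Helper37.LongRoot

open Cfsg.Lie
open Cfsg.Agent.Lib.Helper24

/-- the table facts: `i0` is the unique fundamental root not orthogonal to the highest root, `lst` contains the
negatives of the other fundamental roots, and its members commute with the highest root -/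
structure LRFacts (D : ChevalleyDatum) (lst : List ℕ) (i0 : ℕ) : Prop where
  lt : i0 < D.rank
  cartan : ∀ i < D.rank, D.cartan i (D.nroots - 1) = if i = i0 then 1 else 0
  negMem : ∀ i < D.rank, i ≠ i0 → D.neg (D.simple i) ∈ lst
  lstLt : ∀ s ∈ lst, s < D.nroots
  lstNe : ∀ s ∈ lst, s ≠ D.nroots - 1
  lstNeg : ∀ s ∈ lst, D.nroots - 1 ≠ D.neg s
  lstComm : ∀ s ∈ lst, commTermsQ D s (D.nroots - 1) = []
  refl : D.reflectRoot i0 (D.nroots - 1) ≠ D.nroots - 1
  simplePos : ∀ i < D.rank, D.IsPosRoot (D.simple i)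

def lrOK (D : ChevalleyDatum) (lst : List ℕ) (i0 : ℕ) : Bool :=
  decide (i0 < D.rank) &&
  (List.range D.rank).all (fun i => decide (D.cartan i (D.nroots - 1) = if i = i0 then 1 else 0)) &&
  (List.range D.rank).all (fun i => decide (i = i0) || decide (D.neg (D.simple i) ∈ lst)) &&
  lst.all (fun s => decide (s < D.nroots) && decide (s ≠ D.nroots - 1) &&
    decide (D.nroots - 1 ≠ D.neg s) && (commTermsQ D s (D.nroots - 1)).isEmpty) &&
  decide (D.reflectRoot i0 (D.nroots - 1) ≠ D.nroots - 1) &&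
  (List.range D.rank).all (fun i => decide (D.IsPosRoot (D.simple i)))

theorem lrOK_spec (D : ChevalleyDatum) (lst : List ℕ) (i0 : ℕ) (h : lrOK D lst i0 = true) :
    LRFacts D lst i0 := by
  unfold lrOK at h
  simp only [Bool.and_eq_true, Bool.or_eq_true, decide_eq_true_eq, List.all_eq_true, List.mem_range,
    List.isEmpty_iff] at h
  obtain ⟨⟨⟨⟨⟨h1, h2⟩, h3⟩, h4⟩, h5⟩, h6⟩ := h
  refine ⟨h1, h2, ?_, fun s hs => (h4 s hs).1.1.1, fun s hs => (h4 s hs).1.1.2,
    fun s hs => (h4 s hs).1.2, fun s hs => (h4 s hs).2, h5, h6⟩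
  intro i hi hne
  rcases h3 i hi with h | h
  · exact absurd h hne
  · exact h

theorem lrOK_E6 : lrOK chevE6 [15, 29, 32, 34, 35] 1 = true := by decide +kernel
theorem lrOK_E7 : lrOK chevE7 [47, 52, 56, 59, 61, 62] 0 = true := by decide +kernel
theorem lrOK_E8 : lrOK chevE8 [77, 98, 104, 109, 113, 116, 118] 7 = true := by decide +kernel

theorem lrfacts_all (d : ChevalleyDatum × List ℕ)
    (hd : d ∈ [(chevE6, [15, 29, 32, 34, 35]), (chevE7, [47, 52, 56, 59, 61, 62]),
      (chevE8, [77, 98, 104, 109, 113, 116, 118])]) : ∃ i0, LRFacts d.1 d.2 i0 := by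
  simp only [List.mem_cons, List.not_mem_nil, or_false] at hd
  rcases hd with rfl | rfl | rfl
  · exact ⟨1, lrOK_spec _ _ _ lrOK_E6⟩
  · exact ⟨0, lrOK_spec _ _ _ lrOK_E7⟩
  · exact ⟨7, lrOK_spec _ _ _ lrOK_E8⟩

end Cfsg.Agent.Lib.Helper37.LongRoot
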