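import Cfsg.Agent.Lib.Helper37.FieldAutDefs
import Cfsg.Agent.Lib.Helper24.FactsAll
import Cfsg.Agent.Lib.Helper24.UFTab
import Cfsg.Agent.Lib.Helper24.Core

/-! K-SF-4, K-SF-5 (Subfield pack, S2214): conjugation of root elements by elements of `H`. -/

set_option autoImplicit false

namespace Cfsg.Agent.Lib.Helper37.Subfield

open Cfsg.Lie Matrix
open Cfsg.Agent.Lib.Helper24
open Cfsg.Agent.Lib.Helper37.FieldAut

/-- an element of `H` is a diagonal matrix `diagonal d` with `d (inl i) = 1`, acting on `x_r(t)` by `t ↦ d (inr r) t` -/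
theorem diag_shape {F : Type*} [Field F] {D : ChevalleyDatum} (hF : Facts D)
    (h : GL D.Idx F) (hh : h ∈ D.diagonalSubgroup F) :
    ∃ d : D.Idx → F, (h : Matrix D.Idx D.Idx F) = Matrix.diagonal d ∧ (∀ i, d (Sum.inl i) = 1) ∧
      ∀ (r : ℕ) (hr : r < D.nroots) (t : F),
        h * hF.xGL r t * h⁻¹ = hF.xGL r (d (Sum.inr ⟨r, hr⟩) * t) := by
  obtain ⟨cc, hcc, hdiag⟩ := hF.diagonal_torus h hh
  refine ⟨fun idx => torusEntry D (List.range D.rank) cc (enc D idx), hdiag, ?_, ?_⟩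
  · intro i
    unfold torusEntry
    apply List.prod_eq_one
    intro x hx
    rw [List.mem_map] at hx
    obtain ⟨j, _, rfl⟩ := hx
    have : Eexp D j (enc D (Sum.inl i)) = 0 := by
      unfold Eexp
      rw [if_pos (show enc D (Sum.inl i) < D.rank from i.isLt)]
    rw [this, zpow_zero]
  · intro r hr t
    rw [mul_inv_eq_iff_eq_mul]
    apply Units.ext
    rw [Units.val_mul, Units.val_mul, hdiag, Facts.xGL_val, Facts.xGL_val]
    unfold ChevalleyDatum.x
    rw [dif_pos hr, dif_pos hr]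
    exact hF.torus_mul_xMat cc hcc ⟨r, hr⟩ t

theorem xGL_inj {F : Type*} [Field F] {D : ChevalleyDatum} (hF : Facts D) (hNe : negNeOK D = true)
    (r : ℕ) (hr : r < D.nroots) (a b : F) (h : hF.xGL r a = hF.xGL r b) : a = b := by
  have h4 : hF.xGL r (a - b) = 1 := by
    have : hF.xGL r (a - b) = hF.xGL r a * (hF.xGL r b)⁻¹ := by
      rw [hF.xGL_inv, hF.xGL_mul]; congr 1; ring
    rw [this, h, mul_inv_cancel]
  exact sub_eq_zero.mp (hF.xGL_eq_one hNe r hr _ h4)

/-- K-SF-4 -/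
theorem diag_eq_one_of_comm {F : Type*} [Field F] (D : ChevalleyDatum)
    (hD : D ∈ [chevG2, chevB2, chevD4, chevF4, chevE6, chevE7, chevE8])
    (g : GL D.Idx F) (hg : g ∈ D.diagonalSubgroup F)
    (hc : ∀ r < D.nroots, ∀ x : GL D.Idx F, (x : Matrix D.Idx D.Idx F) = D.x F r 1 → g * x = x * g) :
    g = 1 := by
  have hF := facts_all D hD
  have hNe := (ufacts_all D hD).negNe
  obtain ⟨d, hd, hd1, hconj⟩ := diag_shape hF g hg
  have hd2 : ∀ r : Fin D.nroots, d (Sum.inr r) = 1 := by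
    intro r
    have h1 := hconj r.val r.isLt 1
    have h2 : g * hF.xGL r.val (1 : F) * g⁻¹ = hF.xGL r.val (1 : F) := by
      rw [hc r.val r.isLt _ rfl]; group
    rw [h2, mul_one] at h1
    exact (xGL_inj hF hNe r.val r.isLt _ _ h1).symm
  apply Units.ext
  rw [hd, Units.val_one]
  have : d = fun _ => 1 := by
    funext idx
    rcases idx with i | r
    · exact hd1 i
    · exact hd2 r
  rw [this]
  exact Matrix.diagonal_one

/-- K-SF-5 -/
theorem diag_conj_fixed {F : Type*} [Field F] (D : ChevalleyDatum)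
    (hD : D ∈ [chevG2, chevB2, chevD4, chevF4, chevE6, chevE7, chevE8]) (σ : F ≃+* F)
    (h : GL D.Idx F) (hh : h ∈ D.diagonalSubgroup F) (hσ : glMap D (σ : F →+* F) h = h)
    (r : ℕ) (t : F) (ht : σ t = t) (x : GL D.Idx F) (hx : (x : Matrix D.Idx D.Idx F) = D.x F r t) :
    ∃ t' : F, σ t' = t' ∧ ((h * x * h⁻¹ : GL D.Idx F) : Matrix D.Idx D.Idx F) = D.x F r t' := by
  have hF := facts_all D hD
  by_cases hr : r < D.nroots
  · obtain ⟨d, hd, _, hconj⟩ := diag_shape hF h hh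
    have hxe : x = hF.xGL r t := hF.eq_xGL x r t hx
    refine ⟨d (Sum.inr ⟨r, hr⟩) * t, ?_, ?_⟩
    · rw [map_mul, ht]
      congr 1
      have h1 := congrArg (fun g : GL D.Idx F =>
        (g : Matrix D.Idx D.Idx F) (Sum.inr ⟨r, hr⟩) (Sum.inr ⟨r, hr⟩)) hσ
      simp only [glMap_val, Matrix.map_apply, hd, Matrix.diagonal_apply_eq] at h1
      exact h1
    · rw [hxe, hconj r hr t, Facts.xGL_val]
  · refine ⟨0, map_zero σ, ?_⟩
    have hx1 : x = 1 := by
      apply Units.ext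
      rw [hx]; unfold ChevalleyDatum.x; rw [dif_neg hr]; rfl
    rw [hx1, mul_one, mul_inv_cancel, x_zero]
    rfl

end Cfsg.Agent.Lib.Helper37.Subfield
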