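import Cfsg.Agent.Lib.Helper37.HighRootMain
import Cfsg.Agent.Lib.Helper37.LongRootTab
import Cfsg.Agent.Lib.Helper24.Core
import Cfsg.Agent.Lib.Helper24.RootAct
import Cfsg.Agent.S0311
import Cfsg.Agent.Lib.Helper37.SubfieldTorus

/-!
# The centraliser of the highest root element in types E6, E7, E8, characteristic two (S2209)

`C_G(t)` normalises the highest root subgroup `X` (Bruhat decomposition); `N_G(X) ≥ B` is a standard parabolic
subgroup (S0311), generated by `B` and the `n_i` with `w_i` fixing the highest root, hence contained in `H K` with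
`K = ⟨U, X_{-p_i} (i ≠ i0)⟩ ≤ C_G(t)`; an element of `H` centralising `t` has trivial `i0`-th coordinate, hence lies
in `K`.
-/

set_option autoImplicit false

namespace Cfsg.Agent.Lib.Helper37.LongRoot

open Cfsg.Lie Matrix
open Cfsg.Agent.Lib.Helper24
open Cfsg.Agent.Lib.Helper37.HighRoot

section grp

variable {G : Type*} [Group G]

theorem mem_normalizer_of_map_conj_eq (X : Subgroup G) (g : G)
    (h : X.map (MulAut.conj g).toMonoidHom = X) : g ∈ Subgroup.normalizer (X : Set G) := by
  rw [Subgroup.mem_normalizer_iff]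
  intro y
  constructor
  · intro hy
    rw [← h]
    exact ⟨y, hy, by simp [MulAut.conj_apply]⟩
  · intro hy
    rw [← h] at hy
    obtain ⟨z, hz, e⟩ := hy
    simp only [MulEquiv.coe_toMonoidHom, MulAut.conj_apply] at e
    have : z = y := by
      have := congrArg (fun w => g⁻¹ * w * g) e
      simpa [mul_assoc] using this
    rwa [← this]

theorem prod_map_eq_single {M : Type*} [CommMonoid M] (l : List ℕ) (hl : l.Nodup) (f : ℕ → M) (i0 : ℕ)
    (h0 : i0 ∈ l) (h : ∀ i ∈ l, i ≠ i0 → f i = 1) : (l.map f).prod = f i0 := by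
  induction l with
  | nil => exact absurd h0 List.not_mem_nil
  | cons a l ih =>
    rw [List.map_cons, List.prod_cons]
    rw [List.nodup_cons] at hl
    by_cases ha : a = i0
    · subst ha
      have : (l.map f).prod = 1 := by
        apply List.prod_eq_one
        intro x hx
        rw [List.mem_map] at hx
        obtain ⟨i, hi, rfl⟩ := hx
        exact h i (List.mem_cons_of_mem _ hi) (fun e => hl.1 (e ▸ hi))
      rw [this, mul_one]
    · have h0' : i0 ∈ l := by
        rcases List.mem_cons.mp h0 with e | e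
        · exact absurd e.symm ha
        · exact e
      rw [h a List.mem_cons_self ha, one_mul]
      exact ih hl.2 h0' (fun i hi => h i (List.mem_cons_of_mem _ hi))

theorem prod_map_filter_ne {M : Type*} [CommMonoid M] (l : List ℕ) (f : ℕ → M) (i0 : ℕ)
    (h : f i0 = 1) : (l.map f).prod = ((l.filter (fun i => decide (i ≠ i0))).map f).prod := by
  induction l with
  | nil => rfl
  | cons a l ih =>
    by_cases ha : a = i0
    · subst ha
      rw [List.map_cons, List.prod_cons, h, one_mul, ih]
      congr 2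
      simp
    · rw [List.filter_cons_of_pos (by simpa using ha), List.map_cons, List.prod_cons, List.map_cons,
        List.prod_cons, ih]

end grp

section chev

variable {F : Type*} [Field F]

theorem mem5 (D : ChevalleyDatum) (hD : D ∈ [chevE6, chevE7, chevE8]) :
    D ∈ [chevG2, chevD4, chevE6, chevE7, chevE8] := by
  simp only [List.mem_cons, List.not_mem_nil, or_false] at hD ⊢
  rcases hD with h | h | h <;> simp [h]

/-- no commutator terms: the root elements commute -/
theorem comm_of_terms_nil {D : ChevalleyDatum} (hF : Facts D) (hCh : ChainOK D) (a b : ℕ)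
    (ha : a < D.nroots) (hb : b < D.nroots) (hQ : hF.QF F a b) (hnil : commTermsQ D a b = [])
    (t u : F) : hF.xGL b u * hF.xGL a t = hF.xGL a t * hF.xGL b u := by
  have h := hQ t u
  have e : D.commWord F a b t u = [] := by
    unfold ChevalleyDatum.commWord
    rw [← hCh.commTermsF_eq a b ha hb, ← commTermsQ_eq, hnil]
    rfl
  rw [e] at h
  rw [h]
  simp [Facts.wordGL]

/-- the roots of the subgroup `K` -/
def KSet (D : ChevalleyDatum) (lst : List ℕ) (s : ℕ) : Prop := D.IsPosRoot s ∨ s ∈ lst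

theorem rootClosure_KSet (D : ChevalleyDatum) (lst : List ℕ) :
    rootClosure D F (KSet D lst) = D.posUnipotent F ⊔
      Subgroup.closure {g : GL D.Idx F | ∃ s ∈ lst, ∃ c : F,
        (g : Matrix D.Idx D.Idx F) = D.x F s c} := by
  unfold rootClosure ChevalleyDatum.posUnipotent
  rw [← Subgroup.closure_union]
  congr 1
  ext g
  constructor
  · rintro ⟨s, u, hs | hs, h⟩
    · exact Or.inl ⟨s, u, hs, h⟩
    · exact Or.inr ⟨s, hs, u, h⟩
  · rintro (⟨s, u, hs, h⟩ | ⟨s, hs, u, h⟩)
    · exact ⟨s, u, Or.inl hs, h⟩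
    · exact ⟨s, u, Or.inr hs, h⟩

/-- the commutator formula, for all pairs -/
theorem qf_all (D : ChevalleyDatum)
    (hD7 : D ∈ [chevG2, chevB2, chevD4, chevF4, chevE6, chevE7, chevE8]) :
    ∀ r < D.nroots, ∀ s < D.nroots, s ≠ r → s ≠ D.neg r → (facts_all D hD7).QF F r s := by
  obtain ⟨tab, orb, hN, hH, _, hC⟩ := cfacts_all D hD7
  obtain ⟨T, reps, hall, hreps⟩ := hC.pairs
  have hF := facts_all D hD7
  have hCh : ChainOK D := ⟨tableOK_all D hD7, hC.chain⟩
  exact fun r hr s hs hrs hneg => hF.QF_of_comm r s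
    (fun t u => hF.comm_formula hN hH hCh hC.negRev T reps hall hreps r s hr hs hrs hneg t u)

/-- the generators of `K` commute with the highest root elements -/
theorem KSet_comm (D : ChevalleyDatum) (hD : D ∈ [chevE6, chevE7, chevE8]) (lst : List ℕ) (i0 : ℕ)
    (hL : LRFacts D lst i0) (s : ℕ) (hs : KSet D lst s) (u a : F) :
    (facts_all D (mem7 D (mem5 D hD))).xGL (D.nroots - 1) a * (facts_all D (mem7 D (mem5 D hD))).xGL s u =
      (facts_all D (mem7 D (mem5 D hD))).xGL s u * (facts_all D (mem7 D (mem5 D hD))).xGL (D.nroots - 1) a := by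
  have hD5 := mem5 D hD
  have hD7 := mem7 D hD5
  obtain ⟨tab, orb, hN, hH, _, hC⟩ := cfacts_all D hD7
  have hF := facts_all D hD7
  have hCh : ChainOK D := ⟨tableOK_all D hD7, hC.chain⟩
  have hUF := ufacts_all D hD7
  have hcomm := qf_all (F := F) D hD7
  have hr : D.nroots - 1 < D.nroots := by
    have := nroots_pos5 D hD5
    omega
  rcases hs with hs | hs
  · obtain ⟨hk1, hk2⟩ := (posHalf_spec D hUF.half s).mp hs
    have heven := posHalf_even D hUF.half
    by_cases hsr : s = D.nroots - 1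
    · rw [hsr, hF.xGL_mul, hF.xGL_mul, add_comm]
    · have hnk : D.neg s = D.nroots - 1 - s :=
        Nat.eq_of_beq_eq_true (allBelow_elim _ _ hC.negRev s hs.1)
      exact comm_of_terms_nil hF hCh s (D.nroots - 1) hs.1 hr
        (hcomm s hs.1 _ hr (fun h => hsr h.symm) (by rw [hnk]; omega))
        (topOK_spec D (topOK_all D hD5) s hk1 (by omega)) u a
  · exact comm_of_terms_nil hF hCh s (D.nroots - 1) (hL.lstLt s hs) hr
      (hcomm s (hL.lstLt s hs) _ hr (fun h => hL.lstNe s hs h.symm) (hL.lstNeg s hs))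
      (hL.lstComm s hs) u a

/-- `K` centralises the highest root element -/
theorem K_le_centralizer (D : ChevalleyDatum) (hD : D ∈ [chevE6, chevE7, chevE8]) (lst : List ℕ)
    (i0 : ℕ) (hL : LRFacts D lst i0) (t : GL D.Idx F)
    (ht : (t : Matrix D.Idx D.Idx F) = D.x F (D.nroots - 1) 1) :
    rootClosure D F (KSet D lst) ≤ Subgroup.centralizer {t} := by
  have hF := facts_all D (mem7 D (mem5 D hD))
  unfold rootClosure
  rw [Subgroup.closure_le]
  rintro x ⟨s, u, hs, hx⟩
  rw [SetLike.mem_coe, Subgroup.mem_centralizer_iff]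
  intro y hy
  rw [Set.mem_singleton_iff] at hy
  rw [hy, hF.eq_xGL x s u hx, hF.eq_xGL t _ 1 ht]
  exact KSet_comm D hD lst i0 hL s hs u 1

/-- `H` normalises `K` -/
theorem diagonal_le_normalizer_K (D : ChevalleyDatum) (hD : D ∈ [chevE6, chevE7, chevE8])
    (lst : List ℕ) (i0 : ℕ) (hL : LRFacts D lst i0) :
    D.diagonalSubgroup F ≤ Subgroup.normalizer (rootClosure D F (KSet D lst) : Set (GL D.Idx F)) := by
  have hF := facts_all D (mem7 D (mem5 D hD))
  have hlt : ∀ s, KSet D lst s → s < D.nroots := by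
    rintro s (hs | hs)
    · exact hs.1
    · exact hL.lstLt s hs
  intro h hh
  unfold rootClosure
  apply mem_normalizer_closure
  · rintro x ⟨s, u, hs, hx⟩
    rw [hF.eq_xGL x s u hx]
    obtain ⟨c, _, hc⟩ := hF.diag_conj h hh s (hlt s hs)
    rw [hc u]
    exact Subgroup.subset_closure ⟨s, c * u, hs, Facts.xGL_val hF _ _⟩
  · rintro x ⟨s, u, hs, hx⟩
    rw [hF.eq_xGL x s u hx]
    obtain ⟨c, _, hc⟩ := hF.diag_conj h⁻¹ (Subgroup.inv_mem _ hh) s (hlt s hs)
    have := hc u
    rw [inv_inv] at this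
    rw [this]
    exact Subgroup.subset_closure ⟨s, c * u, hs, Facts.xGL_val hF _ _⟩

/-- `n_i ∈ K` for `i ≠ i0` -/
theorem nS_mem_K (D : ChevalleyDatum) (hD : D ∈ [chevE6, chevE7, chevE8]) (lst : List ℕ) (i0 : ℕ)
    (hL : LRFacts D lst i0) (i : ℕ) (hi : i < D.rank) (hne : i ≠ i0) :
    (facts_all D (mem7 D (mem5 D hD))).nS (F := F) i ∈ rootClosure D F (KSet D lst) := by
  have hF := facts_all D (mem7 D (mem5 D hD))
  unfold Facts.nS Facts.nGL
  apply hF.wordGL_mem_rootClosure
  intro p hp
  unfold ChevalleyDatum.nWord at hp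
  simp only [List.mem_cons, List.not_mem_nil, or_false] at hp
  rcases hp with rfl | rfl | rfl
  · exact Or.inl (hL.simplePos i hi)
  · exact Or.inr (hL.negMem i hi hne)
  · exact Or.inl (hL.simplePos i hi)

/-- an element of `H` commuting with the highest root element lies in `K` -/
theorem diag_mem_K (D : ChevalleyDatum) (hD : D ∈ [chevE6, chevE7, chevE8]) (lst : List ℕ) (i0 : ℕ)
    (hL : LRFacts D lst i0) (h : GL D.Idx F) (hh : h ∈ D.diagonalSubgroup F)
    (hc : h * (facts_all D (mem7 D (mem5 D hD))).xGL (D.nroots - 1) 1 =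
      (facts_all D (mem7 D (mem5 D hD))).xGL (D.nroots - 1) 1 * h) :
    h ∈ rootClosure D F (KSet D lst) := by
  have hD5 := mem5 D hD
  have hD7 := mem7 D hD5
  have hF := facts_all D hD7
  have hS := simpleOK_all D hD7
  have hUF := ufacts_all D hD7
  have hr : D.nroots - 1 < D.nroots := by
    have := nroots_pos5 D hD5
    omega
  obtain ⟨c, hcne, hdiag⟩ := hF.diagonal_torus h hh
  -- the character of the highest root
  have hconj : h * hF.xGL (D.nroots - 1) 1 =
      hF.xGL (D.nroots - 1) (torusEntry D (List.range D.rank) c (D.rank + (D.nroots - 1)) * 1) * h := by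
    apply Units.ext
    rw [Units.val_mul, Units.val_mul, hdiag, Facts.xGL_val, Facts.xGL_val]
    unfold ChevalleyDatum.x
    rw [dif_pos hr, dif_pos hr]
    exact hF.torus_mul_xMat c hcne ⟨D.nroots - 1, hr⟩ 1
  have hχ : torusEntry D (List.range D.rank) c (D.rank + (D.nroots - 1)) = 1 := by
    have e : hF.xGL (D.nroots - 1) (torusEntry D (List.range D.rank) c (D.rank + (D.nroots - 1)) * 1) =
        hF.xGL (D.nroots - 1) 1 := by
      have h1 := hconj
      rw [hc] at h1
      exact (mul_right_cancel h1).symm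
    have := Cfsg.Agent.Lib.Helper37.Subfield.xGL_inj hF hUF.negNe _ hr _ _ e
    rwa [mul_one] at this
  have hci0 : c i0 = 1 := by
    rw [← hχ]
    unfold torusEntry
    rw [prod_map_eq_single (List.range D.rank) List.nodup_range _ i0 (List.mem_range.mpr hL.lt)]
    · unfold Eexp
      rw [if_neg (by omega), Nat.add_sub_cancel_left, hL.cartan i0 hL.lt, if_pos rfl, zpow_one]
    · intro i hi hne
      unfold Eexp
      rw [if_neg (by omega), Nat.add_sub_cancel_left, hL.cartan i (List.mem_range.mp hi), if_neg hne,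
        zpow_zero]
  -- drop the coordinate `i0`
  have hl' : ∀ i ∈ (List.range D.rank).filter (fun i => decide (i ≠ i0)), i < D.rank ∧ c i ≠ 0 := by
    intro i hi
    rw [List.mem_filter, List.mem_range] at hi
    exact ⟨hi.1, hcne i⟩
  have hentry : ∀ k, torusEntry D (List.range D.rank) c k =
      torusEntry D ((List.range D.rank).filter (fun i => decide (i ≠ i0))) c k := by
    intro k
    unfold torusEntry
    exact prod_map_filter_ne (List.range D.rank) (fun i => c i ^ Eexp D i k) i0
      (by rw [hci0, _root_.one_zpow])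
  have hw : h = hF.wordGL (((List.range D.rank).filter (fun i => decide (i ≠ i0))).flatMap
      fun i => D.hWord (D.simple i) (c i)) := by
    apply Units.ext
    rw [hF.wordGL_val, hF.wordMat_simple_torus hS c _ hl', hdiag]
    congr 1
    funext idx
    exact hentry _
  rw [hw]
  apply hF.wordGL_mem_rootClosure
  intro p hp
  rw [List.mem_flatMap] at hp
  obtain ⟨i, hi, hp⟩ := hp
  rw [List.mem_filter, List.mem_range, decide_eq_true_eq] at hi
  unfold ChevalleyDatum.hWord ChevalleyDatum.nWord at hp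
  simp only [List.mem_append, List.mem_cons, List.not_mem_nil, or_false] at hp
  rcases hp with (rfl | rfl | rfl) | (rfl | rfl | rfl)
  · exact Or.inl (hL.simplePos i hi.1)
  · exact Or.inr (hL.negMem i hi.1 hi.2)
  · exact Or.inl (hL.simplePos i hi.1)
  · exact Or.inl (hL.simplePos i hi.1)
  · exact Or.inr (hL.negMem i hi.1 hi.2)
  · exact Or.inl (hL.simplePos i hi.1)

/-- `C_G(t)` normalises the highest root subgroup -/
theorem cent_le_normalizer (D : ChevalleyDatum) (hD : D ∈ [chevE6, chevE7, chevE8])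
    (t : GL D.Idx F) (ht : (t : Matrix D.Idx D.Idx F) = D.x F (D.nroots - 1) 1)
    (g : GL D.Idx F) (hg : g ∈ D.group F) (hgc : g ∈ Subgroup.centralizer {t}) :
    g ∈ Subgroup.normalizer (D.rootSubgroup F (D.nroots - 1) : Set (GL D.Idx F)) := by
  have hD5 := mem5 D hD
  have hD7 := mem7 D hD5
  have hF := facts_all D hD7
  have hUF := ufacts_all D hD7
  have hr : D.nroots - 1 < D.nroots := by
    have := nroots_pos5 D hD5
    omega
  obtain ⟨P, hB, hN', _⟩ := Cfsg.Agent.S1042.result (F := F) D hD7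
  obtain ⟨n, hn, b₁, hb₁, b₂, hb₂, rfl⟩ := hF.bruhat_exists P hB hN' g hg
  have hXb : ∀ b ∈ D.borelSubgroup F,
      (D.rootSubgroup F (D.nroots - 1)).map (MulAut.conj b).toMonoidHom =
        D.rootSubgroup F (D.nroots - 1) := fun b hb =>
    map_conj_eq_of_mem_normalizer _ b (borel_le_normalizer_top D hD5 hb)
  obtain ⟨s, hs, hns⟩ := monomial_map_rootSubgroup (F := F) D hD5 n hn (D.nroots - 1) hr
  have e1 : (D.rootSubgroup F (D.nroots - 1)).map (MulAut.conj (b₁ * n * b₂)).toMonoidHom =
      (D.rootSubgroup F s).map (MulAut.conj b₁).toMonoidHom := by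
    rw [map_conj_mul, hXb b₂ hb₂, map_conj_mul, hns]
  have htX : t ∈ D.rootSubgroup F (D.nroots - 1) := Subgroup.subset_closure ⟨1, ht⟩
  have htg : t ∈ (D.rootSubgroup F (D.nroots - 1)).map
      (MulAut.conj (b₁ * n * b₂)).toMonoidHom := by
    refine ⟨t, htX, ?_⟩
    simp only [MulEquiv.coe_toMonoidHom, MulAut.conj_apply]
    have h1 := (Subgroup.mem_centralizer_iff.mp hgc) t rfl
    rw [← h1]
    group
  rw [e1] at htg
  obtain ⟨y, hy, hyt⟩ := htg
  simp only [MulEquiv.coe_toMonoidHom, MulAut.conj_apply] at hyt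
  have hyX : y ∈ D.rootSubgroup F (D.nroots - 1) := by
    have hb1' := borel_le_normalizer_top (F := F) D hD5 (Subgroup.inv_mem _ hb₁)
    have h2 := (Subgroup.mem_normalizer_iff.mp hb1' t).mp htX
    have e : y = b₁⁻¹ * t * b₁⁻¹⁻¹ := by rw [← hyt]; group
    rw [e]
    exact h2
  obtain ⟨a, ha⟩ := hF.exists_of_mem_rootSubgroup s y hy
  obtain ⟨a', ha'⟩ := hF.exists_of_mem_rootSubgroup _ y hyX
  have hsr : s = D.nroots - 1 := by
    by_contra hne
    have h0 : a = 0 := hF.xGL_eq_xGL (rootTableOK_all D hD7) hUF.negNe hUF.unit s _ hs hr hne a a'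
      (ha.symm.trans ha')
    have hy1 : y = 1 := by rw [ha, h0, hF.xGL_zero]
    have ht1 : t = 1 := by rw [← hyt, hy1]; group
    have h3 : hF.xGL (D.nroots - 1) (1 : F) = 1 := by rw [← hF.eq_xGL t _ 1 ht, ht1]
    exact one_ne_zero (hF.xGL_eq_one hUF.negNe _ hr _ h3)
  apply mem_normalizer_of_map_conj_eq
  rw [e1, hsr, hXb b₁ hb₁]

/-- the normaliser of the highest root subgroup in `G` is contained in `H K` -/
theorem normalizer_le (D : ChevalleyDatum) (hD : D ∈ [chevE6, chevE7, chevE8]) (lst : List ℕ) (i0 : ℕ)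
    (hL : LRFacts D lst i0) (g : GL D.Idx F) (hg : g ∈ D.group F)
    (hgn : g ∈ Subgroup.normalizer (D.rootSubgroup F (D.nroots - 1) : Set (GL D.Idx F))) :
    g ∈ D.diagonalSubgroup F ⊔ rootClosure D F (KSet D lst) := by
  have hD5 := mem5 D hD
  have hD7 := mem7 D hD5
  have hF := facts_all D hD7
  have hUF := ufacts_all D hD7
  have hr : D.nroots - 1 < D.nroots := by
    have := nroots_pos5 D hD5
    omega
  obtain ⟨tab, orb, hN, hH, _, hC⟩ := cfacts_all D hD7
  obtain ⟨P, hB, hN', hS⟩ := Cfsg.Agent.S1042.result (F := F) D hD7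
  have hBM : P.B ≤ (Subgroup.normalizer
      (D.rootSubgroup F (D.nroots - 1) : Set (GL D.Idx F))).subgroupOf (D.group F) := by
    rw [hB]
    intro x hx
    rw [Subgroup.mem_subgroupOf] at hx ⊢
    exact borel_le_normalizer_top D hD5 hx
  obtain ⟨J, hJS, hM⟩ := Cfsg.Agent.S0311.result P _ hBM
  have hUK : D.posUnipotent F ≤ rootClosure D F (KSet D lst) := by
    unfold ChevalleyDatum.posUnipotent rootClosure
    apply Subgroup.closure_mono
    rintro x ⟨s, u, hs, hx⟩
    exact ⟨s, u, Or.inl hs, hx⟩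
  have hMT : (Subgroup.normalizer
      (D.rootSubgroup F (D.nroots - 1) : Set (GL D.Idx F))).subgroupOf (D.group F) ≤
      (D.diagonalSubgroup F ⊔ rootClosure D F (KSet D lst)).subgroupOf (D.group F) := by
    intro x0 hx0
    rw [hM] at hx0
    revert x0
    show P.B ⊔ Subgroup.closure J ≤
      (D.diagonalSubgroup F ⊔ rootClosure D F (KSet D lst)).subgroupOf (D.group F)
    apply sup_le
    · rw [hB]
      intro x hx
      rw [Subgroup.mem_subgroupOf] at hx ⊢
      unfold ChevalleyDatum.borelSubgroup at hx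
      exact (sup_le (le_trans hUK le_sup_right) le_sup_left) hx
    · rw [Subgroup.closure_le]
      intro x hx
      have hxS := hJS hx
      rw [hS] at hxS
      obtain ⟨i, hi, hxi⟩ := hxS
      have hxM : x ∈ (Subgroup.normalizer
          (D.rootSubgroup F (D.nroots - 1) : Set (GL D.Idx F))).subgroupOf (D.group F) := by
        rw [hM]
        exact (le_sup_right : _ ≤ P.B ⊔ Subgroup.closure J) (Subgroup.subset_closure hx)
      rw [Subgroup.mem_subgroupOf] at hxM
      have hxn : (x : GL D.Idx F) = hF.nS i := by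
        apply Units.ext
        rw [hxi, hF.nS_val]
      rw [SetLike.mem_coe, Subgroup.mem_subgroupOf, hxn]
      apply (le_sup_right : rootClosure D F (KSet D lst) ≤
        D.diagonalSubgroup F ⊔ rootClosure D F (KSet D lst))
      apply nS_mem_K D hD lst i0 hL i hi
      intro hii
      obtain ⟨η, hη, hconj⟩ := hF.nS_conj (F := F) hN i hi (D.nroots - 1) hr
      have h1 : hF.nS i * hF.xGL (D.nroots - 1) 1 * (hF.nS i)⁻¹ ∈
          D.rootSubgroup F (D.nroots - 1) := by
        rw [hxn] at hxM
        exact (Subgroup.mem_normalizer_iff.mp hxM _).mp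
          (Subgroup.subset_closure ⟨1, Facts.xGL_val hF _ _⟩)
      rw [hconj 1] at h1
      obtain ⟨a', ha'⟩ := hF.exists_of_mem_rootSubgroup _ _ h1
      have hlt := hN.reflectRoot_lt i hi _ hr
      have hne : D.reflectRoot i (D.nroots - 1) ≠ D.nroots - 1 := by
        rw [hii]
        exact hL.refl
      have h0 := hF.xGL_eq_xGL (rootTableOK_all D hD7) hUF.negNe hUF.unit _ _ hlt hr hne _ a' ha'
      rcases hη with rfl | rfl <;> simp at h0
  have h2 := hMT (show (⟨g, hg⟩ : ↥(D.group F)) ∈ (Subgroup.normalizer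
      (D.rootSubgroup F (D.nroots - 1) : Set (GL D.Idx F))).subgroupOf (D.group F) from by
    rw [Subgroup.mem_subgroupOf]
    exact hgn)
  rw [Subgroup.mem_subgroupOf] at h2
  exact h2

/-- S2209 -/
theorem centralizer_eq (d : ChevalleyDatum × List ℕ)
    (hd : d ∈ [(chevE6, [15, 29, 32, 34, 35]), (chevE7, [47, 52, 56, 59, 61, 62]),
      (chevE8, [77, 98, 104, 109, 113, 116, 118])])
    (t : GL d.1.Idx F) (ht : (t : Matrix d.1.Idx d.1.Idx F) = d.1.x F (d.1.nroots - 1) 1) :
    d.1.group F ⊓ Subgroup.centralizer {t} = d.1.posUnipotent F ⊔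
      Subgroup.closure {g : GL d.1.Idx F | ∃ s ∈ d.2, ∃ c : F,
        (g : Matrix d.1.Idx d.1.Idx F) = d.1.x F s c} := by
  obtain ⟨i0, hL⟩ := lrfacts_all d hd
  have hD : d.1 ∈ [chevE6, chevE7, chevE8] := by
    simp only [List.mem_cons, List.not_mem_nil, or_false] at hd ⊢
    rcases hd with rfl | rfl | rfl <;> simp
  have hF := facts_all d.1 (mem7 d.1 (mem5 d.1 hD))
  rw [← rootClosure_KSet]
  apply le_antisymm
  · intro g hg0
    obtain ⟨hg, hgc⟩ := Subgroup.mem_inf.mp hg0
    have hgn := cent_le_normalizer d.1 hD t ht g hg hgc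
    have h1 := normalizer_le d.1 hD d.2 i0 hL g hg hgn
    rw [sup_comm] at h1
    obtain ⟨k, hk, h, hh, rfl⟩ := exists_mul_of_mem_sup_of_le_normalizer _ _
      (diagonal_le_normalizer_K d.1 hD d.2 i0 hL) g h1
    have hkc := K_le_centralizer d.1 hD d.2 i0 hL t ht hk
    have hhc : h ∈ Subgroup.centralizer {t} := by
      have e : h = k⁻¹ * (k * h) := by group
      rw [e]
      exact Subgroup.mul_mem _ (Subgroup.inv_mem _ hkc) hgc
    have hcomm : h * hF.xGL (d.1.nroots - 1) 1 = hF.xGL (d.1.nroots - 1) 1 * h := by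
      have h3 := (Subgroup.mem_centralizer_iff.mp hhc) t rfl
      rw [hF.eq_xGL t _ 1 ht] at h3
      exact h3.symm
    exact Subgroup.mul_mem _ hk (diag_mem_K d.1 hD d.2 i0 hL h hh hcomm)
  · apply le_inf
    · unfold rootClosure
      rw [Subgroup.closure_le]
      rintro x ⟨s, u, _, hx⟩
      rw [hF.eq_xGL x s u hx]
      exact hF.xGL_mem_group s u
    · exact K_le_centralizer d.1 hD d.2 i0 hL t ht

end chev

end Cfsg.Agent.Lib.Helper37.LongRoot
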