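import Mathlib
import Cfsg.Prelude.Def_GeometricClasses
import Cfsg.Agent.Lib.Helper61.AschDefs
import Cfsg.Agent.Lib.Helper43.SpAschDefs
import Cfsg.Agent.Lib.Helper43.SpAschDefs2

/-!
# K-SpAsch-T3 (keystone 566233, architect helper43): transport of the field-extension constructors of `SGeom`
along a bijection `e : ι ≃ κ` of index types.
-/

set_option autoImplicit false

namespace Cfsg.Agent.Lib.Helper37.SpAschT3

open Cfsg Cfsg.Geo Cfsg.Agent.Lib.Helper61.Asch Cfsg.Agent.Lib.Helper43.SpAsch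
open scoped Matrix Kronecker MatrixGroups

variable {ι κ : Type} [Fintype ι] [DecidableEq ι] [Fintype κ] [DecidableEq κ] {F : Type*} [Field F]

/-- The algebra isomorphism `Matrix ι ι F ≃ₐ[F] Matrix κ κ F` of reindexing along `e`. -/
noncomputable abbrev rx (e : ι ≃ κ) : Matrix ι ι F ≃ₐ[F] Matrix κ κ F := Matrix.reindexAlgEquiv F F e

/-- The pulled-back subalgebra. -/
noncomputable def pullAlg (e : ι ≃ κ) (E : Subalgebra F (Matrix κ κ F)) : Subalgebra F (Matrix ι ι F) :=
  E.comap (rx e).toAlgHom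

theorem mem_pullAlg (e : ι ≃ κ) (E : Subalgebra F (Matrix κ κ F)) (x : Matrix ι ι F) :
    x ∈ pullAlg e E ↔ (rx e) x ∈ E := Iff.rfl

theorem rx_mulVec (e : ι ≃ κ) (M : Matrix ι ι F) (w : κ → F) :
    ((rx e) M) *ᵥ w = (M *ᵥ (w ∘ e)) ∘ e.symm := by
  show (Matrix.reindex e e M) *ᵥ w = _
  rw [Matrix.reindex_apply, Matrix.submatrix_mulVec_equiv]
  rfl

theorem rx_mulVec' (e : ι ≃ κ) (M : Matrix ι ι F) (w : ι → F) :
    (((rx e) M) *ᵥ (w ∘ e.symm)) ∘ e = M *ᵥ w := by
  rw [rx_mulVec]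
  funext i
  simp [Function.comp_def]

theorem rx_symm_mulVec (e : ι ≃ κ) (M : Matrix κ κ F) (w : κ → F) :
    (((rx e).symm M) *ᵥ (w ∘ e)) = (M *ᵥ w) ∘ e := by
  have h := rx_mulVec e ((rx e).symm M) w
  rw [AlgEquiv.apply_symm_apply] at h
  rw [h]
  funext i
  simp [Function.comp_def]

theorem pullAlg_isField (e : ι ≃ κ) (E : Subalgebra F (Matrix κ κ F)) {r : ℕ} (hE : IsFieldSubalgebra r E) :
    IsFieldSubalgebra r (pullAlg e E) := by
  refine ⟨?_, ?_, ?_⟩
  · intro x hx y hy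
    have hx' : (rx e) x ∈ E := hx
    have hy' : (rx e) y ∈ E := hy
    apply (rx e).injective
    rw [map_mul, map_mul]
    exact hE.comm _ hx' _ hy'
  · intro x hx hx0
    have hx' : (rx e) x ∈ E := hx
    have hne : (rx e) x ≠ 0 := by
      intro h
      apply hx0
      apply (rx e).injective
      rw [h, map_zero]
    obtain ⟨y, hy, hxy⟩ := hE.inv _ hx' hne
    refine ⟨(rx e).symm y, ?_, ?_⟩
    · rw [mem_pullAlg, AlgEquiv.apply_symm_apply]; exact hy
    · apply (rx e).injective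
      rw [map_mul, AlgEquiv.apply_symm_apply, hxy, map_one]
  · rw [← hE.finrank_eq]
    have hmap : (pullAlg e E).map (rx e).toAlgHom = E := by
      ext y
      constructor
      · rintro ⟨x, hx, rfl⟩
        exact hx
      · intro hy
        refine ⟨(rx e).symm y, ?_, ?_⟩
        · show (rx e) ((rx e).symm y) ∈ E
          rw [AlgEquiv.apply_symm_apply]; exact hy
        · show (rx e) ((rx e).symm y) = y
          rw [AlgEquiv.apply_symm_apply]
    have eq1 : (pullAlg e E) ≃ₐ[F] (pullAlg e E).map (rx e).toAlgHom := (rx e).subalgebraMap (pullAlg e E)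
    rw [eq1.toLinearEquiv.finrank_eq, hmap]

theorem pullAlg_normalizer (e : ι ≃ κ) (E : Subalgebra F (Matrix κ κ F)) (K : Subgroup (GL ι F))
    (hK : K.map (glMap e).toMonoidHom ≤ subalgebraNormalizer E) : K ≤ subalgebraNormalizer (pullAlg e E) := by
  intro g hg k
  have h1 : glMap e g ∈ subalgebraNormalizer E := hK ⟨g, hg, rfl⟩
  have h2 := h1 ((rx e) k)
  rw [mem_pullAlg, mem_pullAlg, h2, map_mul, map_mul]
  have h3 : ((glMap e g : GL κ F) : Matrix κ κ F) = (rx e) (g : Matrix ι ι F) := rfl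
  have h4 : (((glMap e g)⁻¹ : GL κ F) : Matrix κ κ F) = (rx e) ((g⁻¹ : GL ι F) : Matrix ι ι F) := by
    rw [← map_inv]; rfl
  rw [h3, h4]

end Cfsg.Agent.Lib.Helper37.SpAschT3

namespace Cfsg.Agent.Lib.Helper37.SpAsch

open Cfsg Cfsg.Geo Cfsg.Agent.Lib.Helper61.Asch Cfsg.Agent.Lib.Helper43.SpAsch Cfsg.Agent.Lib.Helper37.SpAschT3
open scoped Matrix Kronecker MatrixGroups

variable {ι κ : Type} [Fintype ι] [DecidableEq ι] [Fintype κ] [DecidableEq κ] {F : Type*} [Field F] [Fintype F]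

/-- **K-SpAsch-T3** (first half). -/
theorem sgeom_transport_fieldSelf (e : ι ≃ κ) (f : (ι → F) → (ι → F) → F) (K : Subgroup (GL ι F))
    (r : ℕ) (hr : r.Prime) (E : Subalgebra F (Matrix κ κ F)) (hE : IsFieldSubalgebra r E)
    (hsa : IsSelfAdjointFor (formMap e f) E) (hv : ∀ k ∈ E, ∀ v : κ → F, formMap e f (k *ᵥ v) v = 0)
    (hK : K.map (glMap e).toMonoidHom ≤ subalgebraNormalizer E) : SGeom f K := by
  refine .fieldSelf r hr (pullAlg e E) (pullAlg_isField e E hE) ?_ ?_ (pullAlg_normalizer e E K hK)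
  · intro k hk u v
    have hk' : (rx e) k ∈ E := hk
    have h := hsa _ hk' (u ∘ e.symm) (v ∘ e.symm)
    unfold formMap at h
    rw [rx_mulVec', rx_mulVec'] at h
    have hu : (u ∘ e.symm) ∘ e = u := by funext i; simp
    have hv' : (v ∘ e.symm) ∘ e = v := by funext i; simp
    rw [hu, hv'] at h
    exact h
  · intro k hk v
    have hk' : (rx e) k ∈ E := hk
    have h := hv _ hk' (v ∘ e.symm)
    unfold formMap at h
    rw [rx_mulVec'] at h
    have hv' : (v ∘ e.symm) ∘ e = v := by funext i; simp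
    rw [hv'] at h
    exact h

/-- **K-SpAsch-T3** (second half). -/
theorem sgeom_transport_fieldUnit (e : ι ≃ κ) (f : (ι → F) → (ι → F) → F) (K : Subgroup (GL ι F))
    (hq : Odd (Fintype.card F)) (E : Subalgebra F (Matrix κ κ F)) (hE : IsFieldSubalgebra 2 E)
    (hac : IsAdjointClosedFor (formMap e f) E) (hns : ¬ IsSelfAdjointFor (formMap e f) E)
    (hK : K.map (glMap e).toMonoidHom ≤ subalgebraNormalizer E) : SGeom f K := by
  refine .fieldUnit hq (pullAlg e E) (pullAlg_isField e E hE) ?_ ?_ (pullAlg_normalizer e E K hK)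
  · intro k hk
    have hk0 : (rx e) k ∈ E := hk
    obtain ⟨k', hk', h⟩ := hac _ hk0
    refine ⟨(rx e).symm k', ?_, ?_⟩
    · rw [mem_pullAlg, AlgEquiv.apply_symm_apply]; exact hk'
    · intro u v
      have h' := h (u ∘ e.symm) (v ∘ e.symm)
      unfold formMap at h'
      rw [rx_mulVec'] at h'
      have hu : (u ∘ e.symm) ∘ e = u := by funext i; simp
      have hv' : (v ∘ e.symm) ∘ e = v := by funext i; simp
      rw [hu, hv'] at h'
      rw [h']
      congr 1
      have := rx_symm_mulVec e k' (v ∘ e.symm)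
      rw [hv'] at this
      rw [this]
  · intro hsa
    apply hns
    intro k hk u v
    have hk' : (rx e).symm k ∈ pullAlg e E := by
      rw [mem_pullAlg, AlgEquiv.apply_symm_apply]; exact hk
    have h := hsa _ hk' (u ∘ e) (v ∘ e)
    rw [rx_symm_mulVec, rx_symm_mulVec] at h
    exact h

end Cfsg.Agent.Lib.Helper37.SpAsch
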