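import Mathlib

/-!
# K-StOp leaf EX4 (S2548): an abelian quotient generated by `p`-elements is a `p`-group
-/

set_option autoImplicit false

namespace Cfsg.Agent.Lib.Helper37.StOp

theorem index_eq_prime_pow {G : Type*} [Group G] [Finite G] (H : Subgroup G) [H.Normal]
    (hab : commutator G ≤ H) (p : ℕ) [Fact p.Prime] (S : Set G) (hS : Subgroup.closure S = ⊤)
    (hp : ∀ s ∈ S, ∃ k : ℕ, s ^ (p ^ k) = 1) : ∃ k : ℕ, H.index = p ^ k := by
  classical
  -- the quotient is commutative
  have hcomm : ∀ a b : G ⧸ H, a * b = b * a := by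
    have h := (Subgroup.Normal.quotient_commutative_iff_commutator_le (N := H)).mpr hab
    intro a b
    exact h.is_comm.comm a b
  -- the `p`-elements of the quotient form a subgroup
  let T : Subgroup (G ⧸ H) :=
    { carrier := {x | ∃ k : ℕ, x ^ (p ^ k) = 1}
      one_mem' := ⟨0, by simp⟩
      mul_mem' := by
        rintro a b ⟨k, hk⟩ ⟨l, hl⟩
        refine ⟨k + l, ?_⟩
        have hab' : Commute a b := hcomm a b
        rw [hab'.mul_pow, pow_add, pow_mul, hk, one_pow, one_mul, mul_comm (p ^ k) (p ^ l),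
          pow_mul, hl, one_pow]
      inv_mem' := by
        rintro a ⟨k, hk⟩
        exact ⟨k, by rw [inv_pow, hk, inv_one]⟩ }
  have hT : T = ⊤ := by
    have h1 : Subgroup.map (QuotientGroup.mk' H) (Subgroup.closure S) = ⊤ := by
      rw [hS, ← MonoidHom.range_eq_map]
      exact MonoidHom.range_eq_top.mpr (QuotientGroup.mk'_surjective H)
    rw [MonoidHom.map_closure] at h1
    rw [eq_top_iff, ← h1, Subgroup.closure_le]
    rintro _ ⟨s, hs, rfl⟩
    obtain ⟨k, hk⟩ := hp s hs
    refine ⟨k, ?_⟩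
    rw [← map_pow, hk, map_one]
  have hP : IsPGroup p (G ⧸ H) := by
    intro x
    have hx : x ∈ T := hT ▸ Subgroup.mem_top x
    exact hx
  obtain ⟨n, hn⟩ := IsPGroup.iff_card.mp hP
  exact ⟨n, by rw [Subgroup.index_eq_card, hn]⟩

end Cfsg.Agent.Lib.Helper37.StOp
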