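import Cfsg.Agent.Lib.Helper37.FieldAutDefs
import Cfsg.Agent.S1042
import Cfsg.Agent.S0318
import Cfsg.Agent.S1053

/-! K-SF-2, K-SF-3 (Subfield pack, S2214): an element of `N` conjugating `U` into `U` lies in `H`; a representative of
the longest element of the Weyl group inside `⟨n_r(1)⟩`. -/

set_option autoImplicit false

namespace Cfsg.Agent.Lib.Helper37.Subfield

open Cfsg.Lie Matrix
open Cfsg.Agent.Lib.Helper24

/-- K-SF-2 -/
theorem monomial_mem_diag_of_conj_pos {F : Type*} [Field F] (D : ChevalleyDatum)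
    (hD : D ∈ [chevG2, chevB2, chevD4, chevF4, chevE6, chevE7, chevE8])
    (n : GL D.Idx F) (hn : n ∈ D.monomialSubgroup F)
    (h : ∀ x ∈ D.posUnipotent F, n * x * n⁻¹ ∈ D.posUnipotent F) : n ∈ D.diagonalSubgroup F := by
  obtain ⟨tab, orb, hN, hH, _, _⟩ := cfacts_all D hD
  have hF := facts_all D hD
  have hUF := ufacts_all D hD
  obtain ⟨P, hB, hN', _⟩ := Cfsg.Agent.S1042.result (F := F) D hD
  have hBN : D.borelSubgroup F ⊓ D.monomialSubgroup F = D.diagonalSubgroup F := by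
    obtain ⟨tab', orb', hN2, hH2, hM⟩ := mfacts_all D hD
    exact (hF.pos_inf_monomial hN2 hH2 hM hUF).2
  have hnG : n ∈ D.group F := hF.monomial_le_group hn
  have hn' : (⟨n, hnG⟩ : ↥(D.group F)) ∈ P.N := by
    rw [hN', Subgroup.mem_subgroupOf]; exact hn
  have h318 := Cfsg.Agent.S0318.result P hn'
  have hle : P.B.map (MulAut.conj (⟨n, hnG⟩ : ↥(D.group F))).toMonoidHom ≤ P.B := by
    rintro _ ⟨b, hb, rfl⟩
    rw [SetLike.mem_coe, hB, Subgroup.mem_subgroupOf] at hb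
    rw [hB, Subgroup.mem_subgroupOf]
    simp only [MulEquiv.coe_toMonoidHom, MulAut.conj_apply, Subgroup.coe_mul, Subgroup.coe_inv]
    unfold ChevalleyDatum.borelSubgroup at hb ⊢
    obtain ⟨u, hu, h', hh', e⟩ := exists_mul_of_mem_sup_of_le_normalizer _ _
      hF.diagonal_le_normalizer_pos _ hb
    rw [e]
    have : n * (u * h') * n⁻¹ = (n * u * n⁻¹) * (n * h' * n⁻¹) := by group
    rw [this]
    exact Subgroup.mul_mem _ ((le_sup_left : D.posUnipotent F ≤ _) (h u hu))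
      ((le_sup_right : D.diagonalSubgroup F ≤ _)
        ((Subgroup.mem_normalizer_iff.mp (hF.monomial_le_normalizer hN hH hn) h').mp hh'))
  have hsup : P.B ⊔ Subgroup.closure {(⟨n, hnG⟩ : ↥(D.group F))} = P.B := by
    rw [h318]; exact sup_eq_left.mpr hle
  have hnB : (⟨n, hnG⟩ : ↥(D.group F)) ∈ P.B := by
    rw [← hsup]
    exact (le_sup_right : _ ≤ P.B ⊔ _) (Subgroup.subset_closure rfl)
  rw [hB, Subgroup.mem_subgroupOf] at hnB
  rw [← hBN]
  exact ⟨hnB, hn⟩

/-- K-SF-3 -/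
theorem exists_longest_rep {F : Type*} [Field F] (D : ChevalleyDatum)
    (hD : D ∈ [chevG2, chevB2, chevD4, chevF4, chevE6, chevE7, chevE8]) :
    ∃ m ∈ Subgroup.closure {g : GL D.Idx F | ∃ r : ℕ, r < D.nroots ∧
        (g : Matrix D.Idx D.Idx F) = D.nMat F r 1},
      (D.posUnipotent F).map (MulAut.conj m).toMonoidHom = D.negUnipotent F := by
  obtain ⟨tab, orb, hN, hH, _, _⟩ := cfacts_all D hD
  have hF := facts_all D hD
  obtain ⟨n, hn, hnUV⟩ := Cfsg.Agent.S1053.result (F := F) D hD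
  have hle1 : Subgroup.closure {g : GL D.Idx F | ∃ r : ℕ, r < D.nroots ∧
      (g : Matrix D.Idx D.Idx F) = D.nMat F r 1} ≤ D.monomialSubgroup F := by
    unfold ChevalleyDatum.monomialSubgroup
    exact le_sup_right
  have hnorm : Subgroup.closure {g : GL D.Idx F | ∃ r : ℕ, r < D.nroots ∧
      (g : Matrix D.Idx D.Idx F) = D.nMat F r 1} ≤
      Subgroup.normalizer (D.diagonalSubgroup F : Set (GL D.Idx F)) :=
    le_trans hle1 (hF.monomial_le_normalizer hN hH)
  unfold ChevalleyDatum.monomialSubgroup at hn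
  obtain ⟨h, hh, m, hm, e⟩ := exists_mul_of_mem_sup_of_le_normalizer _ _ hnorm n hn
  refine ⟨m, hm, ?_⟩
  -- `m = h⁻¹ n`
  have hm' : m = h⁻¹ * n := by rw [e]; group
  have hhn := hF.diagonal_le_normalizer_neg (F := F) (Subgroup.inv_mem _ hh)
  ext y
  constructor
  · rintro ⟨x, hx, rfl⟩
    simp only [MulEquiv.coe_toMonoidHom, MulAut.conj_apply]
    have h1 : n * x * n⁻¹ ∈ D.negUnipotent F := by
      rw [← hnUV]; exact ⟨x, hx, by simp [MulAut.conj_apply]⟩
    have h2 := (Subgroup.mem_normalizer_iff.mp hhn _).mp h1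
    have : m * x * m⁻¹ = h⁻¹ * (n * x * n⁻¹) * h⁻¹⁻¹ := by rw [hm']; group
    rw [this]; exact h2
  · intro hy
    -- `y ∈ V`, so `h y h⁻¹ ∈ V = n U n⁻¹`
    have hhn' := hF.diagonal_le_normalizer_neg (F := F) hh
    have h1 := (Subgroup.mem_normalizer_iff.mp hhn' _).mp hy
    rw [← hnUV] at h1
    obtain ⟨x, hx, hxe⟩ := h1
    simp only [MulEquiv.coe_toMonoidHom, MulAut.conj_apply] at hxe
    refine ⟨x, hx, ?_⟩
    simp only [MulEquiv.coe_toMonoidHom, MulAut.conj_apply]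
    have : m * x * m⁻¹ = h⁻¹ * (n * x * n⁻¹) * h := by rw [hm']; group
    rw [this, hxe]; group

end Cfsg.Agent.Lib.Helper37.Subfield
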