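import Cfsg.Agent.Lib.Helper24.FactsAll
import Cfsg.Agent.Lib.Helper24.HStruct

/-! K-SF-6 (keystone 221406; proof text by helper66, compiled by helper37): `H` is commutative. -/

set_option autoImplicit false

namespace Cfsg.Agent.Lib.Helper37.Subfield

open Cfsg.Lie Matrix
open Cfsg.Agent.Lib.Helper24

theorem diag_comm_of_facts {F : Type*} [Field F] {D : ChevalleyDatum} (hF : Facts D)
    (a b : GL D.Idx F) (ha : a ∈ D.diagonalSubgroup F) (hb : b ∈ D.diagonalSubgroup F) :
    a * b = b * a := by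
  obtain ⟨c₁, _, h₁⟩ := hF.diagonal_torus a ha
  obtain ⟨c₂, _, h₂⟩ := hF.diagonal_torus b hb
  apply Units.ext
  rw [Units.val_mul, Units.val_mul, h₁, h₂, Matrix.diagonal_mul_diagonal,
    Matrix.diagonal_mul_diagonal]
  congr 1
  funext i
  exact mul_comm _ _

theorem diag_comm {F : Type*} [Field F] (D : ChevalleyDatum)
    (hD : D ∈ [chevG2, chevB2, chevD4, chevF4, chevE6, chevE7, chevE8])
    (a b : GL D.Idx F) (ha : a ∈ D.diagonalSubgroup F) (hb : b ∈ D.diagonalSubgroup F) :
    a * b = b * a :=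
  diag_comm_of_facts (facts_all D hD) a b ha hb

end Cfsg.Agent.Lib.Helper37.Subfield
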