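import Cfsg.Agent.Lib.Helper37.FieldAutMain
import Cfsg.Agent.Lib.Helper37.SubfieldBN
import Cfsg.Agent.Lib.Helper37.SubfieldTorus
import Cfsg.Agent.Lib.Helper37.SubfieldDC

/-!
# Subfield subgroups of Chevalley groups over a field with an automorphism (S2214)

For `σ : F ≃+* F`, `G0 = ⟨x_s(t) : σ t = t⟩` and any `K` with `G0 ≤ K ≤ G(F)^σ`: the centraliser of `K` in `G(F)` is
trivial (`cent_K_trivial`, via the normal form S1100: an element commuting with all `x_r(1)` lies in `B`, then in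
`B ∩ B⁻ = H`, then is `1`) and the normaliser of `K` in `G(F)` is `G(F)^σ` (`normalizer_fixed`,
`fixed_mem_normalizer`).
-/

set_option autoImplicit false
set_option linter.unusedSimpArgs false

namespace Cfsg.Agent.Lib.Helper37.Subfield

open Cfsg.Lie Matrix
open Cfsg.Agent.Lib.Helper24
open Cfsg.Agent.Lib.Helper37.FieldAut

section cent

variable {F : Type*} [Field F] (D : ChevalleyDatum)

/-- K-SF-1: an element of the group commuting with all `x_r(1)` is `b * n` with `n ∈ N` conjugating `U` into `U` -/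
theorem cent_borel (hD : D ∈ [chevG2, chevB2, chevD4, chevF4, chevE6, chevE7, chevE8])
    (g : GL D.Idx F) (hg : g ∈ D.group F)
    (hc : ∀ r < D.nroots, ∀ x : GL D.Idx F, (x : Matrix D.Idx D.Idx F) = D.x F r 1 → g * x = x * g) :
    ∃ b ∈ D.borelSubgroup F, ∃ n ∈ D.monomialSubgroup F, g = b * n ∧
      ∀ x ∈ D.posUnipotent F, n * x * n⁻¹ ∈ D.posUnipotent F := by
  obtain ⟨tab, orb, hN, hH, _, _⟩ := cfacts_all D hD
  have hF := facts_all D hD
  have hR := rootTableOK_all D hD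
  have hNe := (ufacts_all D hD).negNe
  obtain ⟨hex, huniq⟩ := Cfsg.Agent.S1100.result (F := F) D hD
  obtain ⟨b, hb, n, hn, u, hu, e⟩ := hex g hg
  change u ∈ negClosure D F n at hu
  have hno : ∀ r, D.IsPosRoot r →
      ¬ (D.rootSubgroup F r).map (MulAut.conj n).toMonoidHom ≤ D.negUnipotent F := by
    intro r hr hle
    have hv : hF.xGL r (1 : F) ∈ negClosure D F n :=
      Subgroup.subset_closure ⟨r, 1, hr, hle, rfl⟩
    have hvB : hF.xGL r (1 : F) ∈ D.borelSubgroup F := pos_le_borel D F (hF.xGL_mem_pos r hr 1)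
    have hcv : g * hF.xGL r (1 : F) = hF.xGL r (1 : F) * g := hc r hr.1 _ rfl
    have e2 : (hF.xGL r (1 : F) * b) * n * u = b * n * (u * hF.xGL r (1 : F)) := by
      have h1 : (hF.xGL r (1 : F) * b) * n * u = hF.xGL r (1 : F) * g := by rw [e]; group
      have h2 : b * n * (u * hF.xGL r (1 : F)) = g * hF.xGL r (1 : F) := by rw [e]; group
      rw [h1, h2, hcv]
    obtain ⟨_, h2⟩ := huniq (hF.xGL r (1 : F) * b) b n n u (u * hF.xGL r (1 : F))
      (Subgroup.mul_mem _ hvB hb) hb hn hn hu (Subgroup.mul_mem _ hu hv) e2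
    obtain ⟨_, h3⟩ := h2 rfl
    have h4 : hF.xGL r (1 : F) = 1 := by
      have h5 : u * 1 = u * hF.xGL r (1 : F) := by rw [mul_one]; exact h3
      exact (mul_left_cancel h5).symm
    exact one_ne_zero (hF.xGL_eq_one hNe r hr.1 1 h4)
  have hu1 : u = 1 := by
    have hbot : negClosure D F n = ⊥ := by
      unfold negClosure
      rw [Subgroup.closure_eq_bot_iff]
      rintro x ⟨r, t, hr, hle, _⟩
      exact absurd hle (hno r hr)
    rw [hbot, Subgroup.mem_bot] at hu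
    exact hu
  refine ⟨b, hb, n, hn, by rw [e, hu1, mul_one], ?_⟩
  intro x hx
  apply hF.rootClosure_pos_conj hN hH hR n hn x
  unfold ChevalleyDatum.posUnipotent at hx
  unfold rootClosure
  refine Subgroup.closure_mono ?_ hx
  rintro y ⟨r, t, hr, hy⟩
  exact ⟨r, t, ⟨hr, hno r hr⟩, hy⟩

/-- an element of the group commuting with all `x_r(1)` is trivial -/
theorem cent_trivial (hD : D ∈ [chevG2, chevB2, chevD4, chevF4, chevE6, chevE7, chevE8])
    (g : GL D.Idx F) (hg : g ∈ D.group F)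
    (hc : ∀ r < D.nroots, ∀ x : GL D.Idx F, (x : Matrix D.Idx D.Idx F) = D.x F r 1 → g * x = x * g) :
    g = 1 := by
  obtain ⟨tab, orb, hN, hH, _, _⟩ := cfacts_all D hD
  have hF := facts_all D hD
  have hR := rootTableOK_all D hD
  obtain ⟨b, hb, n, hn, e, hnU⟩ := cent_borel D hD g hg hc
  have hnH := monomial_mem_diag_of_conj_pos D hD n hn hnU
  have hgB : g ∈ D.borelSubgroup F := by
    rw [e]; exact Subgroup.mul_mem _ hb (diagonal_le_borel D F hnH)
  -- `g` commutes with the `n_r(1)`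
  have hcn : Subgroup.closure {y : GL D.Idx F | ∃ r : ℕ, r < D.nroots ∧
      (y : Matrix D.Idx D.Idx F) = D.nMat F r 1} ≤ Subgroup.centralizer {g} := by
    rw [Subgroup.closure_le]
    rintro y ⟨r, hr, hy⟩
    have hy' : y = hF.nGL r (1 : F) := by
      apply Units.ext
      rw [hy]; unfold Facts.nGL; rw [hF.wordGL_val]; rfl
    obtain ⟨_, hnr, _⟩ := rootTableOK_spec D hR r hr
    have h1 : g * hF.xGL r (1 : F) = hF.xGL r (1 : F) * g := hc r hr _ rfl
    have h2 : g * hF.xGL (D.neg r) (1 : F) = hF.xGL (D.neg r) (1 : F) * g := hc _ hnr _ rfl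
    have h3 : g * hF.xGL (D.neg r) (-(1 : F)⁻¹) = hF.xGL (D.neg r) (-(1 : F)⁻¹) * g := by
      have : hF.xGL (D.neg r) (-(1 : F)⁻¹) = (hF.xGL (D.neg r) (1 : F))⁻¹ := by
        rw [hF.xGL_inv]; simp
      rw [this]
      have h6 : (hF.xGL (D.neg r) (1 : F))⁻¹ * (g * hF.xGL (D.neg r) (1 : F)) *
          (hF.xGL (D.neg r) (1 : F))⁻¹ = (hF.xGL (D.neg r) (1 : F))⁻¹ *
          (hF.xGL (D.neg r) (1 : F) * g) * (hF.xGL (D.neg r) (1 : F))⁻¹ := by rw [h2]
      have h7 : (hF.xGL (D.neg r) (1 : F))⁻¹ * (g * hF.xGL (D.neg r) (1 : F)) *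
          (hF.xGL (D.neg r) (1 : F))⁻¹ = (hF.xGL (D.neg r) (1 : F))⁻¹ * g := by group
      have h8 : (hF.xGL (D.neg r) (1 : F))⁻¹ * (hF.xGL (D.neg r) (1 : F) * g) *
          (hF.xGL (D.neg r) (1 : F))⁻¹ = g * (hF.xGL (D.neg r) (1 : F))⁻¹ := by group
      rw [← h8, ← h6, h7]
    rw [SetLike.mem_coe, Subgroup.mem_centralizer_iff]
    intro z hz
    rw [Set.mem_singleton_iff] at hz
    subst hz
    rw [hy', hF.nGL_def]
    calc z * (hF.xGL r 1 * hF.xGL (D.neg r) (-(1 : F)⁻¹) * hF.xGL r 1)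
        = (z * hF.xGL r 1) * hF.xGL (D.neg r) (-(1 : F)⁻¹) * hF.xGL r 1 := by group
      _ = hF.xGL r 1 * (z * hF.xGL (D.neg r) (-(1 : F)⁻¹)) * hF.xGL r 1 := by rw [h1]; group
      _ = hF.xGL r 1 * hF.xGL (D.neg r) (-(1 : F)⁻¹) * (z * hF.xGL r 1) := by rw [h3]; group
      _ = hF.xGL r 1 * hF.xGL (D.neg r) (-(1 : F)⁻¹) * hF.xGL r 1 * z := by rw [h1]; group
  obtain ⟨m, hm, hmUV⟩ := exists_longest_rep (F := F) D hD
  have hmg : m * g = g * m := by
    have := hcn hm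
    rw [Subgroup.mem_centralizer_iff] at this
    exact (this g rfl).symm
  have hmN : m ∈ D.monomialSubgroup F := by
    unfold ChevalleyDatum.monomialSubgroup
    exact (le_sup_right : _ ≤ D.diagonalSubgroup F ⊔ _) hm
  -- `g = m g m⁻¹ ∈ V ⊔ H`
  have hgV : g ∈ D.negUnipotent F ⊔ D.diagonalSubgroup F := by
    have hg' : g = m * g * m⁻¹ := by rw [hmg]; group
    unfold ChevalleyDatum.borelSubgroup at hgB
    obtain ⟨u', hu', h', hh', egb⟩ := exists_mul_of_mem_sup_of_le_normalizer _ _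
      hF.diagonal_le_normalizer_pos g hgB
    rw [hg', egb]
    have : m * (u' * h') * m⁻¹ = (m * u' * m⁻¹) * (m * h' * m⁻¹) := by group
    rw [this]
    apply Subgroup.mul_mem
    · apply (le_sup_left : D.negUnipotent F ≤ _)
      rw [← hmUV]
      exact ⟨u', hu', by simp [MulAut.conj_apply]⟩
    · apply (le_sup_right : D.diagonalSubgroup F ≤ _)
      have hnm := hF.monomial_le_normalizer hN hH hmN
      exact (Subgroup.mem_normalizer_iff.mp hnm h').mp hh'
  have hgH : g ∈ D.diagonalSubgroup F := by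
    have : g ∈ D.borelSubgroup F ⊓ (D.negUnipotent F ⊔ D.diagonalSubgroup F) := ⟨hgB, hgV⟩
    rw [hF.borel_inf_neg.2] at this
    exact this
  exact diag_eq_one_of_comm D hD g hgH hc

end cent

section norm

variable {F : Type*} [Field F] (D : ChevalleyDatum)

/-- the fixed subfield of an automorphism -/
def fixSubfield (σ : F ≃+* F) : Subfield F where
  carrier := {t | σ t = t}
  mul_mem' := by
    intro a b ha hb
    simp only [Set.mem_ofPred_eq] at ha hb ⊢
    rw [map_mul, ha, hb]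
  one_mem' := map_one σ
  add_mem' := by
    intro a b ha hb
    simp only [Set.mem_ofPred_eq] at ha hb ⊢
    rw [map_add, ha, hb]
  zero_mem' := map_zero σ
  neg_mem' := by
    intro a ha
    simp only [Set.mem_ofPred_eq] at ha ⊢
    rw [map_neg, ha]
  inv_mem' := by
    intro a ha
    simp only [Set.mem_ofPred_eq] at ha ⊢
    rw [map_inv₀, ha]

theorem fixSubfield_fix (σ : F ≃+* F) (s : fixSubfield σ) : σ ((fixSubfield σ).subtype s) = (fixSubfield σ).subtype s :=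
  s.2

theorem fixSubfield_ex (σ : F ≃+* F) (t : F) (ht : σ t = t) : ∃ s : fixSubfield σ, (fixSubfield σ).subtype s = t :=
  ⟨⟨t, ht⟩, rfl⟩

/-- the subgroup generated by the root elements with fixed parameter -/
def G0 (σ : F ≃+* F) : Subgroup (GL D.Idx F) :=
  Subgroup.closure {g : GL D.Idx F | ∃ (s : ℕ) (t : F), σ t = t ∧ (g : Matrix D.Idx D.Idx F) = D.x F s t}

theorem image_le_G0 (σ : F ≃+* F) :
    (D.group (fixSubfield σ)).map (glMap D (fixSubfield σ).subtype) ≤ G0 D σ := by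
  unfold ChevalleyDatum.group G0
  rw [MonoidHom.map_closure, Subgroup.closure_le]
  rintro _ ⟨g, ⟨r, t, hg⟩, rfl⟩
  apply Subgroup.subset_closure
  refine ⟨r.val, (fixSubfield σ).subtype t, t.2, ?_⟩
  rw [glMap_val, hg, xMat_map]
  unfold ChevalleyDatum.x
  rw [dif_pos r.isLt]

theorem diag_normalizes_G0 (hD : D ∈ [chevG2, chevB2, chevD4, chevF4, chevE6, chevE7, chevE8])
    (σ : F ≃+* F) (h : GL D.Idx F) (hh : h ∈ D.diagonalSubgroup F)
    (hσ : glMap D (σ : F →+* F) h = h) (y : GL D.Idx F) (hy : y ∈ G0 D σ) :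
    h * y * h⁻¹ ∈ G0 D σ := by
  have : G0 D σ ≤ (G0 D σ).comap (MulAut.conj h).toMonoidHom := by
    conv_lhs => unfold G0
    rw [Subgroup.closure_le]
    rintro x ⟨r, t, ht, hx⟩
    rw [SetLike.mem_coe, Subgroup.mem_comap]
    obtain ⟨t', ht', hx'⟩ := diag_conj_fixed D hD σ h hh hσ r t ht x hx
    apply Subgroup.subset_closure
    exact ⟨r, t', ht', by simpa [MulAut.conj_apply] using hx'⟩
  have h1 := this hy
  rw [Subgroup.mem_comap] at h1
  simpa [MulAut.conj_apply] using h1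

/-- decomposition of a fixed element: `x = a * h' * m * c` with `a, m, c ∈ G0` and `h' ∈ H` fixed -/
theorem fixed_decomp_G0 (hD : D ∈ [chevG2, chevB2, chevD4, chevF4, chevE6, chevE7, chevE8])
    (σ : F ≃+* F) (x : GL D.Idx F) (hx : x ∈ D.group F) (hσx : glMap D (σ : F →+* F) x = x) :
    ∃ a ∈ G0 D σ, ∃ h' ∈ D.diagonalSubgroup F, ∃ m ∈ G0 D σ, ∃ c ∈ G0 D σ,
      glMap D (σ : F →+* F) h' = h' ∧ x = a * h' * m * c := by
  have hF₀ := facts_all D hD
  obtain ⟨u₁, hu₁, h₁, hh₁, n₀, hn₀, u, hu, e, hu₁fix, hh₁fix, hufix⟩ :=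
    fixed_decomp D hD (fixSubfield σ).subtype σ (fixSubfield_fix σ) x hx hσx
  obtain ⟨u₀, hu₀, hu₀e⟩ := pos_fixed D hD (fixSubfield σ).subtype σ (fixSubfield_ex σ) u hu hufix
  obtain ⟨u₁₀, hu₁₀, hu₁₀e⟩ := pos_fixed D hD (fixSubfield σ).subtype σ (fixSubfield_ex σ) u₁ hu₁ hu₁fix
  refine ⟨u₁, ?_, h₁, hh₁, glMap D (fixSubfield σ).subtype n₀, ?_, u, ?_, hh₁fix, e⟩
  · rw [← hu₁₀e]
    exact image_le_G0 D σ ⟨u₁₀, hF₀.pos_le_group hu₁₀, rfl⟩
  · exact image_le_G0 D σ ⟨n₀, hF₀.monomial_le_group hn₀, rfl⟩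
  · rw [← hu₀e]
    exact image_le_G0 D σ ⟨u₀, hF₀.pos_le_group hu₀, rfl⟩

theorem comm_mem_G0 (hD : D ∈ [chevG2, chevB2, chevD4, chevF4, chevE6, chevE7, chevE8])
    (σ : F ≃+* F) (h : GL D.Idx F) (hh : h ∈ D.diagonalSubgroup F)
    (hσ : glMap D (σ : F →+* F) h = h) (x : GL D.Idx F) (hx : x ∈ D.group F)
    (hσx : glMap D (σ : F →+* F) x = x) : h * x * h⁻¹ * x⁻¹ ∈ G0 D σ := by
  obtain ⟨a, ha, h', hh', m, hm, c, hc, hh'fix, e⟩ := fixed_decomp_G0 D hD σ x hx hσx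
  have hcomm : h * h' * h⁻¹ = h' := by
    rw [diag_comm D hD h h' hh hh']; group
  have e1 : h * x * h⁻¹ * x⁻¹ = (h * a * h⁻¹) * (h * h' * h⁻¹) *
      ((h * m * h⁻¹) * (h * c * h⁻¹) * c⁻¹ * m⁻¹) * h'⁻¹ * a⁻¹ := by
    rw [e]; group
  rw [e1, hcomm]
  have hy : (h * m * h⁻¹) * (h * c * h⁻¹) * c⁻¹ * m⁻¹ ∈ G0 D σ :=
    Subgroup.mul_mem _ (Subgroup.mul_mem _ (Subgroup.mul_mem _
      (diag_normalizes_G0 D hD σ h hh hσ m hm) (diag_normalizes_G0 D hD σ h hh hσ c hc))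
      (Subgroup.inv_mem _ hc)) (Subgroup.inv_mem _ hm)
  have h2 := diag_normalizes_G0 D hD σ h' hh' hh'fix _ hy
  have e2 : (h * a * h⁻¹) * h' * ((h * m * h⁻¹) * (h * c * h⁻¹) * c⁻¹ * m⁻¹) * h'⁻¹ * a⁻¹ =
      (h * a * h⁻¹) * (h' * ((h * m * h⁻¹) * (h * c * h⁻¹) * c⁻¹ * m⁻¹) * h'⁻¹) * a⁻¹ := by group
  rw [e2]
  exact Subgroup.mul_mem _ (Subgroup.mul_mem _ (diag_normalizes_G0 D hD σ h hh hσ a ha) h2)
    (Subgroup.inv_mem _ ha)

/-- a fixed element of the group normalises every `K` between `G0` and the fixed points -/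
theorem fixed_mem_normalizer (hD : D ∈ [chevG2, chevB2, chevD4, chevF4, chevE6, chevE7, chevE8])
    (σ : F ≃+* F) (K : Subgroup (GL D.Idx F)) (hKG : K ≤ D.group F) (hLK : G0 D σ ≤ K)
    (hKfix : ∀ x ∈ K, glMap D (σ : F →+* F) x = x)
    (g : GL D.Idx F) (hg : g ∈ D.group F) (hσg : glMap D (σ : F →+* F) g = g) :
    g ∈ Subgroup.normalizer (K : Set (GL D.Idx F)) := by
  have hdiag : ∀ h ∈ D.diagonalSubgroup F, glMap D (σ : F →+* F) h = h →
      ∀ x ∈ K, h * x * h⁻¹ ∈ K := by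
    intro h hh hσ x hx
    have h1 := comm_mem_G0 D hD σ h hh hσ x (hKG hx) (hKfix x hx)
    have : h * x * h⁻¹ = (h * x * h⁻¹ * x⁻¹) * x := by group
    rw [this]
    exact Subgroup.mul_mem _ (hLK h1) hx
  have hdiagN : ∀ h ∈ D.diagonalSubgroup F, glMap D (σ : F →+* F) h = h →
      h ∈ Subgroup.normalizer (K : Set (GL D.Idx F)) := by
    intro h hh hσ
    rw [Subgroup.mem_normalizer_iff]
    intro x
    constructor
    · exact hdiag h hh hσ x
    · intro hx
      have h1 := hdiag h⁻¹ (Subgroup.inv_mem _ hh) (by rw [map_inv, hσ]) _ hx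
      have : h⁻¹ * (h * x * h⁻¹) * h⁻¹⁻¹ = x := by group
      rwa [this] at h1
  obtain ⟨a, ha, h', hh', m, hm, c, hc, hh'fix, e⟩ := fixed_decomp_G0 D hD σ g hg hσg
  have hKN : K ≤ Subgroup.normalizer (K : Set (GL D.Idx F)) := Subgroup.le_normalizer
  rw [e]
  exact Subgroup.mul_mem _ (Subgroup.mul_mem _ (Subgroup.mul_mem _ (hKN (hLK ha))
    (hdiagN h' hh' hh'fix)) (hKN (hLK hm))) (hKN (hLK hc))

/-- the centraliser in the group of any `K ≥ G0` is trivial -/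
theorem cent_K_trivial (hD : D ∈ [chevG2, chevB2, chevD4, chevF4, chevE6, chevE7, chevE8])
    (σ : F ≃+* F) (K : Subgroup (GL D.Idx F)) (hLK : G0 D σ ≤ K)
    (g : GL D.Idx F) (hg : g ∈ D.group F) (hc : ∀ x ∈ K, g * x = x * g) : g = 1 := by
  apply cent_trivial D hD g hg
  intro r _ x hx
  apply hc
  apply hLK
  exact Subgroup.subset_closure ⟨r, 1, map_one σ, hx⟩

/-- an element of the group normalising `K` is fixed -/
theorem normalizer_fixed (hD : D ∈ [chevG2, chevB2, chevD4, chevF4, chevE6, chevE7, chevE8])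
    (σ : F ≃+* F) (K : Subgroup (GL D.Idx F)) (hLK : G0 D σ ≤ K)
    (hKfix : ∀ x ∈ K, glMap D (σ : F →+* F) x = x)
    (g : GL D.Idx F) (hg : g ∈ D.group F)
    (hgN : g ∈ Subgroup.normalizer (K : Set (GL D.Idx F))) : glMap D (σ : F →+* F) g = g := by
  have hσg : glMap D (σ : F →+* F) g ∈ D.group F := glMap_group_le D _ ⟨g, hg, rfl⟩
  have h1 : g⁻¹ * glMap D (σ : F →+* F) g = 1 := by
    apply cent_K_trivial D hD σ K hLK _ (Subgroup.mul_mem _ (Subgroup.inv_mem _ hg) hσg)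
    intro x hx
    have hy : g * x * g⁻¹ ∈ K := (Subgroup.mem_normalizer_iff.mp hgN x).mp hx
    have h2 := hKfix _ hy
    rw [map_mul, map_mul, map_inv, hKfix x hx] at h2
    -- σg x σg⁻¹ = g x g⁻¹
    have h3 : glMap D (σ : F →+* F) g * x = g * x * g⁻¹ * glMap D (σ : F →+* F) g := by
      rw [← h2]; group
    calc g⁻¹ * glMap D (σ : F →+* F) g * x = g⁻¹ * (glMap D (σ : F →+* F) g * x) := by group
      _ = g⁻¹ * (g * x * g⁻¹ * glMap D (σ : F →+* F) g) := by rw [h3]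
      _ = x * (g⁻¹ * glMap D (σ : F →+* F) g) := by group
  exact (inv_mul_eq_one.mp h1).symm

end norm

end Cfsg.Agent.Lib.Helper37.Subfield
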