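import Mathlib

/-!
# A checker for Todd–Coxeter coset enumeration traces (upper bound on an index)

All data are natural numbers so that the checker can be evaluated by the kernel.
-/

set_option autoImplicit false

namespace Cfsg.Agent.Lib.Helper37.TC

/-! ## Packed arrays of fixed-width fields inside a natural number -/

/-- field `i` (of width `w`) of the packed array `a` -/
def getF (a w i : Nat) : Nat := Nat.mod (Nat.shiftRight a (Nat.mul i w)) (Nat.pow 2 w)

/-- write `v` into the (empty) field `i` -/
def setF (a w i v : Nat) : Nat := Nat.lor a (Nat.shiftLeft v (Nat.mul i w))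

theorem nbeq_iff (a b : Nat) : Nat.beq a b = true ↔ a = b :=
  ⟨Nat.eq_of_beq_eq_true, fun h => by subst h; exact Nat.beq_refl _⟩

theorem getF_zero (w i : Nat) : getF 0 w i = 0 := by
  unfold getF
  change (0 >>> (i * w)) % 2 ^ w = 0
  simp

theorem getF_testBit (a w i k : Nat) :
    (getF a w i).testBit k = (decide (k < w) && a.testBit (i * w + k)) := by
  unfold getF
  change ((a >>> (i * w)) % 2 ^ w).testBit k = _
  rw [Nat.testBit_mod_two_pow, Nat.testBit_shiftRight]

theorem getF_setF (a w i j v : Nat) (hv : v < 2 ^ w) (h0 : getF a w i = 0) :
    getF (setF a w i v) w j = if j = i then v else getF a w j := by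
  apply Nat.eq_of_testBit_eq
  intro k
  rw [getF_testBit]
  unfold setF
  change (decide (k < w) && (a ||| (v <<< (i * w))).testBit (j * w + k)) = _
  rw [Nat.testBit_or, Nat.testBit_shiftLeft]
  by_cases hk : k < w
  · simp only [hk, decide_true, Bool.true_and]
    split_ifs with hji
    · subst hji
      have h1 : a.testBit (j * w + k) = false := by
        have := getF_testBit a w j k
        rw [h0] at this
        simp [hk] at this
        exact this
      rw [h1]
      simp
    · rw [getF_testBit]
      simp only [hk, decide_true, Bool.true_and]
      rcases Nat.lt_or_gt_of_ne hji with hlt | hgt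
      · -- j < i : j*w + k < i*w
        have : ¬ (j * w + k ≥ i * w) := by
          have : (j + 1) * w ≤ i * w := Nat.mul_le_mul_right w hlt
          rw [Nat.add_mul, Nat.one_mul] at this
          omega
        simp [this]
      · -- j > i : j*w + k - i*w ≥ w
        have h2 : (i + 1) * w ≤ j * w := Nat.mul_le_mul_right w hgt
        rw [Nat.add_mul, Nat.one_mul] at h2
        have h3 : v.testBit (j * w + k - i * w) = false := by
          apply Nat.testBit_lt_two_pow
          calc v < 2 ^ w := hv
            _ ≤ 2 ^ (j * w + k - i * w) := Nat.pow_le_pow_right (by norm_num) (by omega)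
        rw [h3]
        simp
  · simp only [hk, decide_false, Bool.false_and]
    split_ifs with hji
    · symm
      apply Nat.testBit_lt_two_pow
      calc v < 2 ^ w := hv
        _ ≤ 2 ^ k := Nat.pow_le_pow_right (by norm_num) (by omega)
    · rw [getF_testBit]
      simp [hk]

/-! ## The static data of a problem and the dynamic state -/

/-- static data -/
structure Setup (α : Type) where
  /-- the column of a letter -/
  col : α × Bool → Nat
  /-- decoding of letter codes -/
  letterOf : Nat → α × Bool
  /-- all generators -/
  gens : List α
  /-- width of a node field -/
  bits : Nat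
  /-- number of nodes -/
  m : Nat
  /-- relator words -/
  rels : List (List (α × Bool))
  /-- subgroup generator words -/
  subs : List (List (α × Bool))
  /-- packed parents of the nodes -/
  parNode : Nat
  /-- packed codes (8 bits) of the letters joining the nodes to their parents -/
  parLet : Nat

/-- dynamic state: one packed array per column and the packed links -/
structure St where
  /-- table columns -/
  ent : List Nat
  /-- links -/
  link : Nat

variable {α : Type}

/-- raw table entry (`0` = empty, else node `+ 1`) -/
def entry (S : Setup α) (st : St) (c u : Nat) : Nat :=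
  getF (match st.ent[c]? with | some a => a | none => 0) S.bits u

/-- follow the links -/
def root (S : Setup α) (st : St) : Nat → Nat → Nat
  | 0, u => u
  | f + 1, u =>
    match getF st.link S.bits u with
    | 0 => u
    | r + 1 => root S st f r

/-- act with a word on a node via the table; the last letter acts first -/
def walk (S : Setup α) (st : St) : List (α × Bool) → Nat → Option Nat
  | [], u => some u
  | l :: w, u =>
    match walk S st w u with
    | none => none
    | some v =>
      match entry S st (S.col l) (root S st S.m v) with
      | 0 => none
      | e + 1 => some e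

/-- inverse of a letter -/
def flipL (l : α × Bool) : α × Bool := (l.1, !l.2)

/-- write the entry `l • u = v` into an empty slot -/
def setEntry (S : Setup α) (st : St) (u : Nat) (l : α × Bool) (v : Nat) : Option St :=
  match st.ent[S.col l]? with
  | none => none
  | some colv =>
    bif Nat.beq (getF colv S.bits u) 0 && Nat.blt (Nat.succ v) (Nat.pow 2 S.bits) then
      some { st with ent := st.ent.set (S.col l) (setF colv S.bits u (Nat.succ v)) }
    else none

/-- record the fact `l • a = b` -/
def assertMove (S : Setup α) (st : St) (a : Nat) (l : α × Bool) (b : Nat) : Option St :=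
  let ra := root S st S.m a
  match entry S st (S.col l) ra with
  | 0 =>
    match setEntry S st ra l b with
    | none => none
    | some st1 =>
      let rb := root S st S.m b
      match entry S st1 (S.col (flipL l)) rb with
      | 0 => setEntry S st1 rb (flipL l) ra
      | _ + 1 => some st1
  | v + 1 =>
    let rv := root S st S.m v
    let rb := root S st S.m b
    bif Nat.beq rv rb then some st
    else bif Nat.blt rv rb then
      (bif Nat.beq (getF st.link S.bits rb) 0 && Nat.blt (Nat.succ rv) (Nat.pow 2 S.bits) then
        some { st with link := setF st.link S.bits rb (Nat.succ rv) } else none)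
    else
      (bif Nat.beq (getF st.link S.bits rv) 0 && Nat.blt (Nat.succ rb) (Nat.pow 2 S.bits) then
        some { st with link := setF st.link S.bits rv (Nat.succ rb) } else none)

/-- scanning step: `w = A ++ l :: B`, with `|A| = k`, started at node `s` -/
def scanStep (S : Setup α) (st : St) (w : List (α × Bool)) (k s : Nat) : Option St :=
  match w.drop k with
  | [] => none
  | l :: B =>
    match walk S st B s, walk S st (FreeGroup.invRev (w.take k)) s with
    | some cB, some cA => assertMove S st cB l cA
    | _, _ => none

/-- one step of the trace -/
def applyStep (S : Setup α) (st : St) (s : Nat) : Option St :=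
  let kind := Nat.mod s 8
  let rest := Nat.div s 8
  let f1 := Nat.mod rest 1048576
  let f2 := Nat.mod (Nat.div rest 1048576) 1048576
  let f3 := Nat.div rest 1099511627776
  match kind with
  | 0 =>
    let p := getF S.parNode S.bits f1
    let l := S.letterOf (getF S.parLet 8 f1)
    bif Nat.blt p f1 then assertMove S st p l f1 else none
  | 1 =>
    match S.rels[f1]? with
    | none => none
    | some w => scanStep S st w f2 f3
  | 2 =>
    match S.subs[f1]? with
    | none => none
    | some w => scanStep S st w f2 0
  | 3 =>
    let l := S.letterOf f2
    match entry S st (S.col l) f1 with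
    | 0 => none
    | v + 1 => assertMove S st v (flipL l) f1
  | 4 =>
    let l := S.letterOf f2
    match entry S st (S.col l) f1 with
    | 0 => none
    | v + 1 => assertMove S st f1 l v
  | _ => none

/-- run the steps packed (64 bits each) in one number -/
def runChunk (S : Setup α) : Nat → Nat → St → Option St
  | 0, _, st => some st
  | f + 1, x, st =>
    bif Nat.beq x 0 then some st
    else
      match applyStep S st (Nat.mod x 18446744073709551616) with
      | none => none
      | some st' => runChunk S f (Nat.div x 18446744073709551616) st'

/-- run a list of chunks -/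
def run (S : Setup α) : List Nat → St → Option St
  | [], st => some st
  | x :: xs, st =>
    match runChunk S 256 x st with
    | none => none
    | some st' => run S xs st'

/-! ## Soundness -/

section Sound

variable {G : Type*} [Group G] {X : Type*} [MulAction G X]
variable (S : Setup α) (f : α → G) (x0 : X)

/-- value of a letter -/
def lv (l : α × Bool) : G := bif l.2 then f l.1 else (f l.1)⁻¹

/-- value of a word -/
def wv (w : List (α × Bool)) : G := (w.map (lv f)).prod

theorem wv_nil : wv f ([] : List (α × Bool)) = 1 := rfl

theorem wv_cons (l : α × Bool) (w : List (α × Bool)) : wv f (l :: w) = lv f l * wv f w := by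
  simp [wv]

theorem wv_append (u w : List (α × Bool)) : wv f (u ++ w) = wv f u * wv f w := by
  simp [wv]

theorem wv_eq_lift (w : List (α × Bool)) : wv f w = FreeGroup.lift f (FreeGroup.mk w) := by
  rw [FreeGroup.lift_mk]; rfl

theorem wv_invRev (w : List (α × Bool)) : wv f (FreeGroup.invRev w) = (wv f w)⁻¹ := by
  rw [wv_eq_lift, wv_eq_lift, ← FreeGroup.inv_mk, map_inv]

theorem lv_flipL (l : α × Bool) : lv f (flipL l) = (lv f l)⁻¹ := by
  rcases l with ⟨a, b⟩
  cases b <;> simp [lv, flipL]

/-- the element of `X` attached to a node -/
noncomputable def q : Nat → X
  | 0 => x0
  | v + 1 =>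
    if _h : getF S.parNode S.bits (v + 1) < v + 1 then
      lv f (S.letterOf (getF S.parLet 8 (v + 1))) • q (getF S.parNode S.bits (v + 1))
    else x0
termination_by v => v
decreasing_by exact _h

theorem q_succ (v : Nat) (h : getF S.parNode S.bits (v + 1) < v + 1) :
    q S f x0 (v + 1) =
      lv f (S.letterOf (getF S.parLet 8 (v + 1))) • q S f x0 (getF S.parNode S.bits (v + 1)) := by
  rw [q]
  simp [h]

theorem q_zero : q S f x0 0 = x0 := by
  rw [q]

/-- the invariant -/
structure Inv (st : St) : Prop where
  ent : ∀ (l : α × Bool) (u v : Nat), entry S st (S.col l) u = v + 1 →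
    lv f l • q S f x0 u = q S f x0 v
  link : ∀ u r : Nat, getF st.link S.bits u = r + 1 → q S f x0 u = q S f x0 r

variable {S f x0}

theorem q_root {st : St} (hI : Inv S f x0 st) (k u : Nat) :
    q S f x0 (root S st k u) = q S f x0 u := by
  induction k generalizing u with
  | zero => rfl
  | succ k ih =>
    unfold root
    split
    · rfl
    · next r hr => rw [ih, ← hI.link u r hr]

theorem walk_sound {st : St} (hI : Inv S f x0 st) (w : List (α × Bool)) (u v : Nat)
    (h : walk S st w u = some v) : wv f w • q S f x0 u = q S f x0 v := by
  induction w generalizing v with
  | nil =>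
    simp only [walk, Option.some.injEq] at h
    subst h
    simp [wv_nil]
  | cons l w ih =>
    unfold walk at h
    split at h
    · exact absurd h (by simp)
    · next v' hv' =>
      split at h
      · exact absurd h (by simp)
      · next e he =>
        simp only [Option.some.injEq] at h
        subst h
        rw [wv_cons, mul_smul, ih v' hv', ← q_root hI S.m v']
        exact hI.ent l _ _ he

variable (hcol : ∀ l l' : α × Bool, S.col l = S.col l' → lv f l = lv f l')

include hcol in
theorem setEntry_sound {st st' : St} (hI : Inv S f x0 st) (u v : Nat) (l : α × Bool)
    (hfact : lv f l • q S f x0 u = q S f x0 v)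
    (h : setEntry S st u l v = some st') : Inv S f x0 st' := by
  unfold setEntry at h
  split at h
  · exact absurd h (by simp)
  · next colv hcolv =>
    rw [cond_eq_ite] at h
    split_ifs at h with hb
    simp only [Option.some.injEq] at h
    subst h
    simp only [Bool.and_eq_true, Nat.blt_eq] at hb
    obtain ⟨he0, hb⟩ := hb
    have hlen : S.col l < st.ent.length := by
      by_contra hcon
      rw [List.getElem?_eq_none (by omega)] at hcolv
      exact absurd hcolv (by simp)
    constructor
    · intro l' u' v' hent
      unfold entry at hent
      simp only at hent
      rw [List.getElem?_set] at hent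
      by_cases hc : S.col l = S.col l'
      · simp only [hc, if_true] at hent
        rw [← hc] at hent
        simp only [hlen, if_true] at hent
        rw [getF_setF _ _ _ _ _ hb (Nat.eq_of_beq_eq_true he0)] at hent
        split_ifs at hent with hu
        · have hv : v' = v := by omega
          subst hv; subst hu
          rw [← hcol l l' hc]
          exact hfact
        · apply hI.ent l' u' v'
          unfold entry
          rw [← hc, hcolv]
          exact hent
      · simp only [hc, if_false] at hent
        exact hI.ent l' u' v' hent
    · exact hI.link

theorem setEntry_link {st st' : St} (u v : Nat) (l : α × Bool)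
    (h : setEntry S st u l v = some st') : st'.link = st.link := by
  unfold setEntry at h
  split at h
  · exact absurd h (by simp)
  · rw [cond_eq_ite] at h
    split_ifs at h
    simp only [Option.some.injEq] at h
    subst h
    rfl

theorem root_congr {st st' : St} (hl : st'.link = st.link) (k u : Nat) :
    root S st' k u = root S st k u := by
  induction k generalizing u with
  | zero => rfl
  | succ k ih =>
    unfold root
    rw [hl]
    split
    · rfl
    · exact ih _

include hcol in
theorem assertMove_sound {st st' : St} (hI : Inv S f x0 st) (a b : Nat) (l : α × Bool)
    (hfact : lv f l • q S f x0 a = q S f x0 b)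
    (h : assertMove S st a l b = some st') : Inv S f x0 st' := by
  unfold assertMove at h
  simp only at h
  split at h
  · -- empty entry
    split at h
    · exact absurd h (by simp)
    · next st1 hst1 =>
      have hfact1 : lv f l • q S f x0 (root S st S.m a) = q S f x0 b := by
        rw [q_root hI]; exact hfact
      have hI1 := setEntry_sound hcol hI _ _ _ hfact1 hst1
      split at h
      · apply setEntry_sound hcol hI1 _ _ _ _ h
        rw [lv_flipL, q_root hI, q_root hI, ← hfact, inv_smul_smul]
      · simp only [Option.some.injEq] at h
        subst h
        exact hI1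
  · next v hv =>
    have hq : q S f x0 v = q S f x0 b := by
      have h1 := hI.ent l _ _ hv
      rw [q_root hI] at h1
      rw [← h1, hfact]
    have hq' : q S f x0 (root S st S.m v) = q S f x0 (root S st S.m b) := by
      rw [q_root hI, q_root hI, hq]
    rw [cond_eq_ite] at h
    split_ifs at h with h1
    · simp only [Option.some.injEq] at h; subst h; exact hI
    · rw [cond_eq_ite] at h
      split_ifs at h with h2
      · rw [cond_eq_ite] at h
        split_ifs at h with h3
        simp only [Bool.and_eq_true, Nat.blt_eq] at h3
        simp only [Option.some.injEq] at h
        subst h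
        constructor
        · exact hI.ent
        · intro u r hur
          simp only at hur
          rw [getF_setF _ _ _ _ _ h3.2 (Nat.eq_of_beq_eq_true h3.1)] at hur
          split_ifs at hur with hu
          · have : r = root S st S.m v := by omega
            subst this; subst hu
            exact hq'.symm
          · exact hI.link u r hur
      · rw [cond_eq_ite] at h
        split_ifs at h with h4
        simp only [Bool.and_eq_true, Nat.blt_eq] at h4
        simp only [Option.some.injEq] at h
        subst h
        constructor
        · exact hI.ent
        · intro u r hur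
          simp only at hur
          rw [getF_setF _ _ _ _ _ h4.2 (Nat.eq_of_beq_eq_true h4.1)] at hur
          split_ifs at hur with hu
          · have : r = root S st S.m b := by omega
            subst this; subst hu
            exact hq'
          · exact hI.link u r hur

include hcol in
theorem scanStep_sound {st st' : St} (hI : Inv S f x0 st) (w : List (α × Bool)) (k s : Nat)
    (hw : wv f w • q S f x0 s = q S f x0 s)
    (h : scanStep S st w k s = some st') : Inv S f x0 st' := by
  unfold scanStep at h
  split at h
  · exact absurd h (by simp)
  · next l B hdrop =>
    split at h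
    · next cB cA hB hA =>
      have h1 := walk_sound hI _ _ _ hB
      have h2 := walk_sound hI _ _ _ hA
      rw [wv_invRev] at h2
      have hsplit : w = w.take k ++ l :: B := by
        rw [← hdrop, List.take_append_drop]
      apply assertMove_sound hcol hI cB cA l _ h
      rw [← h1, ← h2]
      rw [hsplit, wv_append, wv_cons, mul_smul, mul_smul] at hw
      rw [← hw]
      simp only [inv_smul_smul]
      rw [hw]
    · exact absurd h (by simp)

variable (hrels : ∀ w ∈ S.rels, wv f w = 1) (hsubs : ∀ w ∈ S.subs, wv f w • x0 = x0)

include hcol hrels hsubs in
theorem applyStep_sound {st st' : St} (hI : Inv S f x0 st) (s : Nat)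
    (h : applyStep S st s = some st') : Inv S f x0 st' := by
  unfold applyStep at h
  simp only at h
  split at h
  · -- definition
    rw [cond_eq_ite] at h
    split_ifs at h with hp
    simp only [Nat.blt_eq] at hp
    apply assertMove_sound hcol hI _ _ _ _ h
    generalize hv : Nat.mod (Nat.div s 8) 1048576 = v at *
    cases v with
    | zero => exact absurd hp (by simp)
    | succ v => rw [q_succ S f x0 v hp]
  · split at h
    · exact absurd h (by simp)
    · next w hw =>
      apply scanStep_sound hcol hI w _ _ _ h
      rw [hrels w (List.mem_of_getElem? hw), one_smul]
  · split at h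
    · exact absurd h (by simp)
    · next w hw =>
      apply scanStep_sound hcol hI w _ _ _ h
      rw [q_zero]
      exact hsubs w (List.mem_of_getElem? hw)
  · split at h
    · exact absurd h (by simp)
    · next v hv =>
      apply assertMove_sound hcol hI _ _ _ _ h
      rw [lv_flipL, ← hI.ent _ _ _ hv, inv_smul_smul]
  · split at h
    · exact absurd h (by simp)
    · next v hv =>
      apply assertMove_sound hcol hI _ _ _ _ h
      exact hI.ent _ _ _ hv
  · exact absurd h (by simp)

include hcol hrels hsubs in
theorem runChunk_sound (k x : Nat) {st st' : St} (hI : Inv S f x0 st)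
    (h : runChunk S k x st = some st') : Inv S f x0 st' := by
  induction k generalizing x st with
  | zero =>
    simp only [runChunk, Option.some.injEq] at h
    subst h; exact hI
  | succ k ih =>
    unfold runChunk at h
    rw [cond_eq_ite] at h
    split_ifs at h with hx
    · simp only [Option.some.injEq] at h
      subst h; exact hI
    · split at h
      · exact absurd h (by simp)
      · next st1 h1 =>
        exact ih _ (applyStep_sound hcol hrels hsubs hI _ h1) h

include hcol hrels hsubs in
theorem run_sound (xs : List Nat) {st st' : St} (hI : Inv S f x0 st)
    (h : run S xs st = some st') : Inv S f x0 st' := by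
  induction xs generalizing st with
  | nil =>
    simp only [run, Option.some.injEq] at h
    subst h; exact hI
  | cons x xs ih =>
    unfold run at h
    split at h
    · exact absurd h (by simp)
    · next st1 h1 =>
      exact ih (runChunk_sound hcol hrels hsubs _ _ hI h1) h

/-- the initial state -/
def initSt (ncol : Nat) : St := ⟨List.replicate ncol 0, 0⟩

theorem inv_init (ncol : Nat) : Inv S f x0 (initSt ncol) := by
  constructor
  · intro l u v h
    unfold entry initSt at h
    simp only at h
    by_cases hc : S.col l < ncol
    · rw [List.getElem?_replicate] at h
      simp only [hc, if_true] at h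
      rw [getF_zero] at h
      omega
    · rw [List.getElem?_eq_none (by simp; omega)] at h
      simp only at h
      rw [getF_zero] at h
      omega
  · intro u r h
    simp only [initSt] at h
    rw [getF_zero] at h
    omega

/-- final check on a state: at most `n` roots, every node has a root, every root row is full -/
def finalOK (S : Setup α) (st : St) (n : Nat) : Bool :=
  decide (((List.range S.m).filter (fun u => getF st.link S.bits u == 0)).length ≤ n) &&
  decide (0 < S.m) &&
  (List.range S.m).all (fun u =>
    decide (root S st S.m u < S.m) && (getF st.link S.bits (root S st S.m u) == 0)) &&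
  ((List.range S.m).filter (fun u => getF st.link S.bits u == 0)).all (fun r =>
    S.gens.all (fun a =>
      match entry S st (S.col (a, true)) r with
      | 0 => false
      | v + 1 => decide (v < S.m)))

theorem cover {st : St} {n : Nat} (hI : Inv S f x0 st) (hfin : finalOK S st n = true)
    (hgens : ∀ a : α, a ∈ S.gens) (hgen : Subgroup.closure (Set.range f) = ⊤)
    [MulAction.IsPretransitive G X] : Finite X ∧ Nat.card X ≤ n := by
  classical
  unfold finalOK at hfin
  simp only [Bool.and_eq_true, decide_eq_true_eq, List.all_eq_true, List.mem_range,
    List.mem_filter, beq_iff_eq, and_imp] at hfin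
  obtain ⟨⟨⟨hlen, hm⟩, hroot⟩, hfull⟩ := hfin
  set L := (List.range S.m).filter (fun u => getF st.link S.bits u == 0) with hL
  have hmemL : ∀ r, r ∈ L ↔ r < S.m ∧ getF st.link S.bits r = 0 := by
    intro r
    simp [hL]
  let T : Set X := (q S f x0) '' {r | r ∈ L}
  have hTfin : T.Finite := (List.finite_toSet L).image _
  -- stability under the generators
  have hstep : ∀ a : α, ∀ x ∈ T, f a • x ∈ T := by
    rintro a x ⟨r, hr, rfl⟩
    have hr' := (hmemL r).1 hr
    have h1 := hfull r hr'.1 hr'.2 a (hgens a)
    split at h1
    · exact absurd h1 (by simp)
    · next v hv =>
      simp only [decide_eq_true_eq] at h1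
      have h2 := hI.ent (a, true) r v hv
      have h3 := hroot v h1
      refine ⟨root S st S.m v, (hmemL _).2 h3, ?_⟩
      rw [q_root hI, ← h2]
      rfl
  have hstepinv : ∀ a : α, ∀ x ∈ T, (f a)⁻¹ • x ∈ T := by
    intro a x hx
    haveI : Finite T := hTfin.to_subtype
    let φ : T → T := fun y => ⟨f a • y.1, hstep a y.1 y.2⟩
    have hinj : Function.Injective φ := fun y z h =>
      Subtype.ext (MulAction.injective (f a) (congrArg Subtype.val h))
    obtain ⟨y, hy⟩ := Finite.surjective_of_injective hinj ⟨x, hx⟩
    have : f a • y.1 = x := congrArg Subtype.val hy
    rw [← this, inv_smul_smul]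
    exact y.2
  have hall : ∀ g : G, ∀ x ∈ T, g • x ∈ T := by
    intro g
    have hg : g ∈ Subgroup.closure (Set.range f) := by rw [hgen]; trivial
    induction hg using Subgroup.closure_induction with
    | mem y hy =>
      obtain ⟨a, rfl⟩ := hy
      exact hstep a
    | one => intro x hx; simpa using hx
    | mul y z _ _ ihy ihz => intro x hx; rw [mul_smul]; exact ihy _ (ihz _ hx)
    | inv y hy ihy =>
      intro x hx
      haveI : Finite T := hTfin.to_subtype
      let φ : T → T := fun t => ⟨y • t.1, ihy t.1 t.2⟩
      have hinj : Function.Injective φ := fun t z h =>
        Subtype.ext (MulAction.injective y (congrArg Subtype.val h))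
      obtain ⟨t, ht⟩ := Finite.surjective_of_injective hinj ⟨x, hx⟩
      have : y • t.1 = x := congrArg Subtype.val ht
      rw [← this, inv_smul_smul]
      exact t.2
  have hx0 : x0 ∈ T := by
    have h3 := hroot 0 hm
    refine ⟨root S st S.m 0, (hmemL _).2 h3, ?_⟩
    rw [q_root hI, q_zero]
  have huniv : (Set.univ : Set X) ⊆ T := by
    intro x _
    obtain ⟨g, rfl⟩ := MulAction.exists_smul_eq G x0 x
    exact hall g x0 hx0
  have hfinX : Finite X := by
    have : (Set.univ : Set X).Finite := hTfin.subset huniv
    exact Set.finite_univ_iff.mp this
  refine ⟨hfinX, ?_⟩
  calc Nat.card X = (Set.univ : Set X).ncard := (Set.ncard_univ X).symm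
    _ ≤ T.ncard := Set.ncard_le_ncard huniv hTfin
    _ ≤ ({r | r ∈ L} : Set Nat).ncard := Set.ncard_image_le (List.finite_toSet L)
    _ ≤ L.length := by
      have : ({r | r ∈ L} : Set Nat) = ↑L.toFinset := by ext; simp
      rw [this, Set.ncard_coe_finset]
      exact List.toFinset_card_le L
    _ ≤ n := hlen

end Sound

end Cfsg.Agent.Lib.Helper37.TC
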