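import Cfsg.Agent.Lib.Helper37.TCPerm

/-!
# Orbits of the subgroup on its cosets, read off from the coset table
-/

set_option autoImplicit false

namespace Cfsg.Agent.Lib.Helper37.TC

variable {α : Type}

/-- data describing one orbit: its size, the packed list of its points, the packed position
(`+ 1`) of every point in that list, and a packed spanning tree (parent index, and the code
`2 * j + d` of the subgroup generator `j` used, `d = 1` meaning backwards). -/
structure OrbData where
  /-- size -/
  k : Nat
  /-- points -/
  olist : Nat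
  /-- positions -/
  opos : Nat
  /-- parents -/
  opar : Nat
  /-- generators -/
  ogen : Nat

/-- the check of an orbit -/
def orbitOK (P : PermData α) (subs : List (List (α × Bool))) (bits : Nat) (O : OrbData) : Bool :=
  (List.range O.k).all (fun i =>
    Nat.blt (getF O.olist bits i) P.n && Nat.beq (getF O.opos bits (getF O.olist bits i)) (Nat.succ i)) &&
  (List.range O.k).all (fun i => subs.all (fun w =>
    let c' := wk P w (getF O.olist bits i)
    match getF O.opos bits c' with
    | 0 => false
    | j + 1 => Nat.blt j O.k && Nat.beq (getF O.olist bits j) c')) &&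
  (List.range O.k).all (fun i =>
    Nat.beq i 0 ||
      (Nat.blt (getF O.opar bits i) i &&
        match subs[Nat.div (getF O.ogen 8 i) 2]? with
        | none => false
        | some w =>
          bif Nat.beq (Nat.mod (getF O.ogen 8 i) 2) 0 then
            Nat.beq (wk P w (getF O.olist bits (getF O.opar bits i))) (getF O.olist bits i)
          else
            Nat.beq (wk P w (getF O.olist bits i)) (getF O.olist bits (getF O.opar bits i))))

section

variable {rels SF : Set (FreeGroup α)} {S : Setup α} {P : PermData α}
variable {ncol : Nat} {cert : List Nat} {tpar tlet : Nat}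

theorem orbit_ncard (h : Cert rels SF S P ncol cert tpar tlet)
    (hSF : ∀ s ∈ SF, ∃ w ∈ S.subs, s = FreeGroup.mk w)
    (O : OrbData) (hk : 0 < O.k) (hO : orbitOK P S.subs S.bits O = true) :
    ∃ q : PresentedGroup rels ⧸ subH rels SF,
      (MulAction.orbit (subH rels SF) q).ncard = O.k := by
  classical
  unfold orbitOK at hO
  simp only [Bool.and_eq_true, List.all_eq_true, List.mem_range, Nat.blt_eq,
    nbeq_iff] at hO
  obtain ⟨⟨h1, h2⟩, h3⟩ := hO
  let Lf : Nat → Nat := fun i => getF O.olist S.bits i
  have hLlt : ∀ i, i < O.k → Lf i < P.n := fun i hi => (h1 i hi).1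
  have hLinj : ∀ i j, i < O.k → j < O.k → Lf i = Lf j → i = j := by
    intro i j hi hj hij
    have e1 := (h1 i hi).2
    have e2 := (h1 j hj).2
    change getF O.opos S.bits (Lf i) = _ at e1
    change getF O.opos S.bits (Lf j) = _ at e2
    rw [hij] at e1
    rw [e1] at e2
    exact Nat.succ.inj e2
  -- the set of points of the orbit
  let Os : Set (Fin P.n) := {c | ∃ i, i < O.k ∧ (c : Nat) = Lf i}
  have hOsfin : Os.Finite := Set.toFinite _
  -- invariance under the generators of the subgroup
  have hinvw : ∀ w ∈ S.subs, ∀ c ∈ Os,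
      rho h (PresentedGroup.mk rels (FreeGroup.mk w)) c ∈ Os := by
    rintro w hw c ⟨i, hi, hci⟩
    have := h2 i hi w hw
    split at this
    · exact absurd this (by simp)
    · next j hj =>
      simp only [Bool.and_eq_true, Nat.blt_eq, nbeq_iff] at this
      refine ⟨j, this.1, ?_⟩
      rw [rho_mk, hci]
      exact this.2.symm
  have hstab : ∀ g : PresentedGroup rels, (∀ c ∈ Os, rho h g c ∈ Os) →
      ∀ c ∈ Os, rho h g⁻¹ c ∈ Os := by
    intro g hg c hc
    have : Finite Os := hOsfin.to_subtype
    let φ : Os → Os := fun y => ⟨rho h g y.1, hg y.1 y.2⟩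
    have hinj : Function.Injective φ := fun y z hyz =>
      Subtype.ext ((rho h g).injective (congrArg Subtype.val hyz))
    obtain ⟨y, hy⟩ := Finite.surjective_of_injective hinj ⟨c, hc⟩
    have hy' : rho h g y.1 = c := congrArg Subtype.val hy
    rw [← hy', map_inv, Equiv.Perm.inv_def, Equiv.symm_apply_apply]
    exact y.2
  have hHle : subH rels SF = Subgroup.closure ((PresentedGroup.mk rels) '' SF) := by
    unfold subH
    rw [MonoidHom.map_closure]
  have hinvH : ∀ g ∈ subH rels SF, ∀ c ∈ Os, rho h g c ∈ Os := by
    intro g hg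
    rw [hHle] at hg
    induction hg using Subgroup.closure_induction with
    | mem y hy =>
      obtain ⟨s, hs, rfl⟩ := hy
      obtain ⟨w, hw, rfl⟩ := hSF s hs
      exact hinvw w hw
    | one => intro c hc; simpa using hc
    | mul y z _ _ ihy ihz =>
      intro c hc
      rw [map_mul, Equiv.Perm.mul_apply]
      exact ihy _ (ihz _ hc)
    | inv y _ ihy => exact hstab y ihy
  -- membership of the generators in the subgroup
  have hwH : ∀ w ∈ S.subs, PresentedGroup.mk rels (FreeGroup.mk w) ∈ subH rels SF := by
    intro w hw
    exact Subgroup.mem_map_of_mem _ (Subgroup.subset_closure (h.hsubsTC w hw))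
  -- reachability
  have hreach : ∀ i, ∀ hi : i < O.k, ∃ g ∈ subH rels SF,
      rho h g ⟨Lf 0, hLlt 0 hk⟩ = ⟨Lf i, hLlt i hi⟩ := by
    intro i
    induction i using Nat.strong_induction_on with
    | _ i ih =>
      intro hi
      have := h3 i hi
      simp only [Bool.or_eq_true, nbeq_iff, Bool.and_eq_true, Nat.blt_eq] at this
      rcases this with h0 | ⟨hlt, hstep⟩
      · subst h0
        exact ⟨1, Subgroup.one_mem _, by simp⟩
      · split at hstep
        · exact absurd hstep (by simp)
        · next w hw =>
          have hwmem := List.mem_of_getElem? hw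
          obtain ⟨g, hg, hgp⟩ := ih _ hlt (lt_trans hlt hi)
          rw [cond_eq_ite] at hstep
          split_ifs at hstep with hd
          · simp only [nbeq_iff] at hstep
            refine ⟨PresentedGroup.mk rels (FreeGroup.mk w) * g,
              Subgroup.mul_mem _ (hwH w hwmem) hg, ?_⟩
            rw [map_mul, Equiv.Perm.mul_apply, hgp]
            apply Fin.ext
            rw [rho_mk]
            exact hstep
          · simp only [nbeq_iff] at hstep
            refine ⟨(PresentedGroup.mk rels (FreeGroup.mk w))⁻¹ * g,
              Subgroup.mul_mem _ (Subgroup.inv_mem _ (hwH w hwmem)) hg, ?_⟩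
            rw [map_mul, Equiv.Perm.mul_apply, hgp, map_inv, Equiv.Perm.inv_def,
              Equiv.symm_apply_eq]
            apply Fin.ext
            rw [rho_mk]
            exact hstep.symm
  -- the coset
  obtain ⟨q0, hq0⟩ := (phi_bij h).2 ⟨Lf 0, hLlt 0 hk⟩
  refine ⟨q0, ?_⟩
  have himg : (phi h) '' (MulAction.orbit (subH rels SF) q0) = Os := by
    ext c
    constructor
    · rintro ⟨x, ⟨g, rfl⟩, rfl⟩
      change phi h ((g : PresentedGroup rels) • q0) ∈ Os
      rw [phi_smul, hq0]
      exact hinvH g.1 g.2 _ ⟨0, hk, rfl⟩
    · rintro ⟨i, hi, hci⟩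
      obtain ⟨g, hg, hgi⟩ := hreach i hi
      refine ⟨(⟨g, hg⟩ : subH rels SF) • q0, ⟨⟨g, hg⟩, rfl⟩, ?_⟩
      change phi h (g • q0) = c
      rw [phi_smul, hq0]
      rw [hgi]
      exact Fin.ext hci.symm
  have hcard : Os.ncard = O.k := by
    have : Os = (fun i : Fin O.k => (⟨Lf i, hLlt i i.2⟩ : Fin P.n)) '' Set.univ := by
      ext c
      constructor
      · rintro ⟨i, hi, hci⟩
        exact ⟨⟨i, hi⟩, trivial, Fin.ext hci.symm⟩
      · rintro ⟨i, _, rfl⟩
        exact ⟨i, i.2, rfl⟩
    rw [this, Set.ncard_image_of_injective]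
    · simp [Set.ncard_univ]
    · intro i j hij
      apply Fin.ext
      exact hLinj i j i.2 j.2 (congrArg Fin.val hij)
  rw [← Set.ncard_image_of_injective _ (phi_bij h).1, himg, hcard]

end

end Cfsg.Agent.Lib.Helper37.TC
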